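import Cfsg.Agent.Lib.OddTransp84.Core.Pair

/-!
# Configurations: transfer into a point stabiliser
-/

set_option autoImplicit false

namespace Cfsg.Agent.Lib.OddTransp84.Core

universe u v

open MulAction

/-- If no element fuses differently, an element outside the kernel of a hom of `H` into an abelian
group of exponent two gives a hom of the whole group, for `H` of odd index. -/
theorem transfer_ne_one {G : Type u} [Group G] [Finite G] {H : Subgroup G} {A : Type v}
    [CommGroup A] (χ : H →* A) {x : G} (hx : x ∈ H)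
    (hfus : ∀ (k : ℕ) (g : G) (hg : g⁻¹ * x ^ k * g ∈ H),
      χ ⟨g⁻¹ * x ^ k * g, hg⟩ = χ ⟨x ^ k, pow_mem hx k⟩)
    (hodd : Odd H.index) (h2 : χ ⟨x, hx⟩ * χ ⟨x, hx⟩ = 1) (hne : χ ⟨x, hx⟩ ≠ 1) :
    ∃ φ : G →* A, φ x ≠ 1 := by
  classical
  refine ⟨MonoidHom.transfer χ, fun e => hne ?_⟩
  let := H.fintypeQuotientOfFiniteIndex
  rw [MonoidHom.transfer_eq_prod_quotient_orbitRel_zpowers_quot] at e
  rw [Finset.prod_congr rfl (g := fun q => χ ⟨x, hx⟩ ^ Function.minimalPeriod (x • ·) q.out)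
    (fun q _ => by
      rw [hfus _ _ (QuotientGroup.out_conj_pow_minimalPeriod_mem H x q.out), ← map_pow]
      rfl), Finset.prod_pow_eq_pow_sum, ← Subgroup.index_eq_sum_minimalPeriod H x] at e
  obtain ⟨j, hj⟩ := hodd
  rwa [hj, pow_succ, pow_mul, pow_two, h2, one_pow, one_mul] at e

namespace Conf

variable {G : Type u} [Group G] [Finite G] {D : Set G} {h : Conf D}

/-- An element of 2-power order fixing two points commutes with a member interchanging them. -/
lemma exists_swp_commute_two {P R : h.Pt} (hne : P ≠ R) {x : G} (hP : x • P = P) (hR : x • R = R)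
    (hx : ∃ i, x ^ 2 ^ i = 1) : ∃ f ∈ swp P R, Commute x f := by
  classical
  obtain ⟨i, hi⟩ := hx
  have : Fintype (swp P R) := Fintype.ofFinite _
  have : Fact (Nat.Prime 2) := ⟨Nat.prime_two⟩
  have hmaps : ∀ (y : G), y • P = P → y • R = R → ∀ f ∈ swp P R, y * f * y⁻¹ ∈ swp P R :=
    fun y hyP hyR f hf => by
      have h1 := swp_conj (g := y) hf
      rwa [hyP, hyR] at h1
  have hP' : x⁻¹ • P = P := inv_smul_eq_iff.2 hP.symm
  have hR' : x⁻¹ • R = R := inv_smul_eq_iff.2 hR.symm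
  let σ : Equiv.Perm (swp P R) :=
    { toFun := fun f => ⟨x * f * x⁻¹, hmaps x hP hR f f.2⟩
      invFun := fun f => ⟨x⁻¹ * f * x⁻¹⁻¹, hmaps x⁻¹ hP' hR' f f.2⟩
      left_inv := fun f => Subtype.ext (by simp [mul_assoc])
      right_inv := fun f => Subtype.ext (by simp [mul_assoc]) }
  have hpow : ∀ (j : ℕ) (f : swp P R), ((σ ^ j) f : G) = x ^ j * f * (x ^ j)⁻¹ := fun j => by
    induction j with
    | zero => intro f; simp
    | succ j ih =>
      intro f
      rw [pow_succ', Equiv.Perm.mul_apply]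
      show x * ((σ ^ j) f : G) * x⁻¹ = _
      rw [ih, pow_succ']; group
  have h2 : σ ^ 2 ^ i = 1 := Equiv.ext fun f => Subtype.ext (by
    rw [hpow, hi, one_mul, inv_one, mul_one]; rfl)
  have hnd : ¬ 2 ∣ Fintype.card (swp P R) := by
    obtain ⟨m, hm, e⟩ := exists_pow R
    rw [← Nat.card_eq_fintype_card, Nat.card_coe_set_eq, swp_ncard hne, sharp_ncard, e,
      ← even_iff_two_dvd]
    exact Nat.not_even_iff_odd.2
      (Nat.Even.sub_odd Nat.one_le_two_pow (even_two.pow_of_ne_zero (by omega)) odd_one)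
  obtain ⟨f, hf⟩ := Equiv.Perm.exists_fixed_point_of_prime (p := 2) (n := i) hnd h2
  exact ⟨f, f.2, mul_inv_eq_iff_eq_mul.1 (congrArg Subtype.val hf)⟩

/-- An element of 2-power order fixing two points lies in the kernel of every hom of exponent two of
the stabiliser of one of them, if the group has no abelian quotient. -/
theorem hom_stab_eq_one {A : Type v} [CommGroup A] (hperf : ∀ (φ : G →* A) (g : G), φ g = 1)
    {P R : h.Pt} (χ : MulAction.stabilizer G P →* A) (hA : ∀ a : A, a * a = 1)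
    {x : G} (hP : x • P = P) (hR : x • R = R) (hne : P ≠ R) (hx : ∃ i, x ^ 2 ^ i = 1) :
    χ ⟨x, hP⟩ = 1 := by
  by_contra hχ
  have : Nonempty h.Pt := ⟨P⟩
  have : MulAction.IsPretransitive G h.Pt := ⟨exists_smul⟩
  have hodd : Odd (MulAction.stabilizer G P).index := by
    rw [MulAction.index_stabilizer, MulAction.orbit_eq_univ, Set.ncard_univ]
    exact n_odd h
  have hxs : x ∈ MulAction.stabilizer G P := hP
  have hfus : ∀ (k : ℕ) (g : G) (hg : g⁻¹ * x ^ k * g ∈ MulAction.stabilizer G P),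
      χ ⟨g⁻¹ * x ^ k * g, hg⟩ = χ ⟨x ^ k, pow_mem hxs k⟩ := by
    intro k g hg
    obtain ⟨i, hi⟩ := hx
    have hk : ∃ j, (x ^ k) ^ 2 ^ j = 1 := ⟨i, by rw [← pow_mul, mul_comm, pow_mul, hi, one_pow]⟩
    have hkP : x ^ k ∈ MulAction.stabilizer G P := pow_mem (show x ∈ _ from hP) k
    have hkg : x ^ k • (g • P) = g • P := by
      have e : (g⁻¹ * x ^ k * g) • P = P := hg
      rwa [mul_smul, mul_smul, inv_smul_eq_iff] at e
    obtain ⟨c, hc, hcomm⟩ : ∃ c : G, c • (g • P) = P ∧ Commute (x ^ k) c := by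
      by_cases e : g • P = P
      · exact ⟨1, by rw [one_smul, e], Commute.one_right _⟩
      · obtain ⟨f, hf, hfc⟩ := exists_swp_commute_two (Ne.symm e) hkP hkg hk
        exact ⟨f, (swp_symm hf).2, hfc⟩
    have hcg : c * g ∈ MulAction.stabilizer G P := by
      show (c * g) • P = P
      rw [mul_smul, hc]
    rw [show (⟨g⁻¹ * x ^ k * g, hg⟩ : MulAction.stabilizer G P)
        = ⟨c * g, hcg⟩⁻¹ * ⟨x ^ k, hkP⟩ * ⟨c * g, hcg⟩ from Subtype.ext (by
          show g⁻¹ * x ^ k * g = (c * g)⁻¹ * x ^ k * (c * g)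
          calc g⁻¹ * x ^ k * g = g⁻¹ * c⁻¹ * (c * x ^ k) * g := by group
            _ = _ := by rw [← hcomm.eq]; group), map_mul, map_mul, map_inv]
    rw [mul_comm (χ _)⁻¹, inv_mul_cancel_right]
  obtain ⟨φ, hφ⟩ := transfer_ne_one χ hxs hfus hodd (hA _) hχ
  exact hφ (hperf φ x)

end Conf

end Cfsg.Agent.Lib.OddTransp84.Core
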