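import Cfsg.Agent.Lib.OddTransp84.Core.Types
import Cfsg.Agent.Lib.OddTransp84.Core.Transfer
import Cfsg.Agent.Lib.PGroups.UniqueInvolution

/-!
# Configurations without even pairs: involutions fixing two points

Such an involution `u` centralises `q₀ = √q` elements of each point it fixes, no two commute inside
the stabiliser of two points, and the `2`-subgroups of that stabiliser are cyclic.
-/

set_option autoImplicit false

namespace Cfsg.Agent.Lib.OddTransp84.Core

universe u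

/-- Three commuting involutory actions on a symmetric set of size `B ^ 2 - 1`, the third the
composite of the other two, do not all fix exactly `B - 1` elements. -/
theorem triple_false {G : Type u} [Group G] [Finite G] {J : Set G} (hJ : SymSet J) {σ τ : G ≃* G}
    (hσJ : ∀ x ∈ J, σ x ∈ J) (hτJ : ∀ x ∈ J, τ x ∈ J) (hσ : ∀ x ∈ J, σ (σ x) = x)
    (hτ : ∀ x ∈ J, τ (τ x) = x) (hcomm : ∀ x ∈ J, σ (τ x) = τ (σ x)) {B : ℕ} (hB : 2 ≤ B)
    (hB3 : B ≠ 3) (hcard : J.ncard + 1 = B ^ 2)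
    (h1 : {x | x ∈ J ∧ σ x = x}.ncard + 1 = B) (h2 : {x | x ∈ J ∧ τ x = x}.ncard + 1 = B)
    (h3 : {x | x ∈ J ∧ σ (τ x) = x}.ncard + 1 = B) : False := by
  set A := {x | x ∈ J ∧ σ x = x ∧ τ x = x} with hA
  set X₁ := {x | x ∈ J ∧ σ x = x ∧ τ x = x⁻¹}
  set X₂ := {x | x ∈ J ∧ σ x = x⁻¹ ∧ τ x = x}
  set X₃ := {x | x ∈ J ∧ σ x = x⁻¹ ∧ τ x = x⁻¹}
  have hinvσ : ∀ x, σ x⁻¹ = (σ x)⁻¹ := map_inv σ
  have hστ : ∀ x : G, (σ.trans τ) x = τ (σ x) := fun _ => rfl
  have e1 : {x | x ∈ J ∧ σ x = x}.ncard = A.ncard * X₁.ncard := by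
    have h := (hJ.fixed σ).ncard_eq τ (fun x hx => ⟨hτJ x hx.1, by rw [hcomm x hx.1, hx.2]⟩)
      (fun x hx => hτ x hx.1)
    simpa [A, X₁, and_assoc] using h
  have e2 : {x | x ∈ J ∧ τ x = x}.ncard = A.ncard * X₂.ncard := by
    have h := (hJ.fixed τ).ncard_eq σ (fun x hx => ⟨hσJ x hx.1, by rw [← hcomm x hx.1, hx.2]⟩)
      (fun x hx => hσ x hx.1)
    have ea : {x | x ∈ {x | x ∈ J ∧ τ x = x} ∧ σ x = x} = A := by
      ext x; simp only [Set.mem_ofPred_eq, A]; tauto
    have ex : {x | x ∈ {x | x ∈ J ∧ τ x = x} ∧ σ x = x⁻¹} = X₂ := by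
      ext x; simp only [Set.mem_ofPred_eq, X₂]; tauto
    rwa [ea, ex] at h
  have hS3 : SymSet {x | x ∈ J ∧ σ (τ x) = x} := hJ.fixed (τ.trans σ)
  have e3 : {x | x ∈ J ∧ σ (τ x) = x}.ncard = A.ncard * X₃.ncard := by
    have h := hS3.ncard_eq σ (fun x hx => ⟨hσJ x hx.1, by rw [← hcomm x hx.1, hx.2]⟩)
      (fun x hx => hσ x hx.1)
    have ea : {x | x ∈ {x | x ∈ J ∧ σ (τ x) = x} ∧ σ x = x} = A := by
      ext x
      simp only [Set.mem_ofPred_eq, A]
      constructor
      · rintro ⟨⟨hx, h'⟩, hs⟩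
        rw [hcomm x hx, hs] at h'
        exact ⟨hx, hs, h'⟩
      · rintro ⟨hx, hs, ht⟩
        exact ⟨⟨hx, by rw [ht, hs]⟩, hs⟩
    have ex : {x | x ∈ {x | x ∈ J ∧ σ (τ x) = x} ∧ σ x = x⁻¹} = X₃ := by
      ext x
      simp only [Set.mem_ofPred_eq, X₃]
      constructor
      · rintro ⟨⟨hx, h'⟩, hs⟩
        rw [hcomm x hx, hs, map_inv] at h'
        exact ⟨hx, hs, inv_eq_iff_eq_inv.1 h'⟩
      · rintro ⟨hx, hs, ht⟩
        exact ⟨⟨hx, by rw [ht, map_inv, hs, inv_inv]⟩, hs⟩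
    rwa [ea, ex] at h
  have e4 : {x | x ∈ J ∧ σ x = x⁻¹}.ncard = X₂.ncard * X₃.ncard := by
    have h := (hJ.inverted σ).ncard_eq τ
      (fun x hx => ⟨hτJ x hx.1, by rw [hcomm x hx.1, hx.2, map_inv]⟩) (fun x hx => hτ x hx.1)
    simpa [X₂, X₃, and_assoc] using h
  have e5 := hJ.ncard_eq σ hσJ hσ
  rw [e1] at h1
  rw [e2] at h2
  rw [e3] at h3
  rw [e5, e1, e4] at hcard
  generalize A.ncard = a at h1 h2 h3 hcard
  generalize X₁.ncard = x₁ at h1 h2 h3 hcard
  generalize X₂.ncard = x₂ at h1 h2 h3 hcard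
  generalize X₃.ncard = x₃ at h1 h2 h3 hcard
  have ha : 0 < a := Nat.pos_of_ne_zero fun e => by simp [e] at h1; omega
  have e12 : x₂ = x₁ := Nat.eq_of_mul_eq_mul_left ha (by omega)
  have e13 : x₃ = x₁ := Nat.eq_of_mul_eq_mul_left ha (by omega)
  subst x₂ x₃
  -- `a x = B - 1`, `x ^ 2 = B + 1`
  have hx2 : x₁ * x₁ = B + 1 := by
    have h5 : a * x₁ * (x₁ * x₁) = a * x₁ * (B + 1) := by
      subst h1
      linarith
    exact Nat.eq_of_mul_eq_mul_left (by omega) h5
  have hdvd : x₁ ∣ 2 := by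
    have h6 : x₁ ∣ B + 1 := ⟨x₁, hx2.symm⟩
    have h7 : x₁ ∣ B - 1 := ⟨a, by rw [mul_comm]; omega⟩
    have h8 := Nat.dvd_sub h6 h7
    rwa [show B + 1 - (B - 1) = 2 by omega] at h8
  rcases (Nat.dvd_prime Nat.prime_two).1 hdvd with rfl | rfl <;> omega

namespace Conf

variable {G : Type u} [Group G] [Finite G] {D : Set G} {h : Conf D}

/-- A 2-group acting by conjugation on a set of odd size centralises one of its elements. -/
lemma exists_commute_fixed {T : Subgroup G} (hT : IsPGroup 2 T) {S : Set G} (hS : Odd S.ncard)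
    (hinv : ∀ t ∈ T, ∀ x ∈ S, t * x * t⁻¹ ∈ S) : ∃ x ∈ S, ∀ t ∈ T, Commute t x := by
  have : Fact (Nat.Prime 2) := ⟨Nat.prime_two⟩
  let _ : MulAction T S :=
    { smul := fun t x => ⟨(t : G) * x * (t : G)⁻¹, hinv t t.2 x x.2⟩
      one_smul := fun x => Subtype.ext (show (1 : G) * x * (1 : G)⁻¹ = x by simp)
      mul_smul := fun s t x => Subtype.ext
        (show (s : G) * t * x * ((s : G) * t)⁻¹ = s * (t * x * (t : G)⁻¹) * (s : G)⁻¹ by group) }
  obtain ⟨x, hx⟩ := hT.nonempty_fixed_point_of_prime_not_dvd_card S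
    (by rw [Nat.card_coe_set_eq, ← even_iff_two_dvd]; exact Nat.not_even_iff_odd.2 hS)
  exact ⟨x, x.2, fun t ht => mul_inv_eq_iff_eq_mul.1 (congrArg Subtype.val (hx ⟨t, ht⟩))⟩

/-- An involution fixing two points. -/
structure Bad (P R : h.Pt) (v : G) : Prop where
  ne : P ≠ R
  sq : v * v = 1
  ne_one : v ≠ 1
  left : v • P = P
  right : v • R = R

lemma Bad.symm {P R : h.Pt} {v : G} (b : Bad P R v) : Bad R P v :=
  ⟨b.ne.symm, b.sq, b.ne_one, b.right, b.left⟩

lemma Bad.inv_eq {P R : h.Pt} {v : G} (b : Bad P R v) : v⁻¹ = v :=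
  inv_eq_of_mul_eq_one_right b.sq

lemma Bad.not_mem {P R : h.Pt} {v : G} (b : Bad P R v) : v ∉ D := fun hv =>
  b.ne (D_fix_unique hv b.left b.right)

variable (hN : NoEven h)
include hN

lemma Bad.not_centralizes {P R : h.Pt} {v : G} (b : Bad P R v) :
    v ∉ Subgroup.centralizer (P.1 : Set G) := fun hc =>
  hN P R b.ne v b.sq b.ne_one hc (centralizes_of_involution b.sq hc b.right)

lemma eq_one_of_centralizes_two {P R : h.Pt} (hne : P ≠ R) {x : G}
    (hP : x ∈ Subgroup.centralizer (P.1 : Set G)) (hR : x • R = R) (hx : ∃ i, x ^ 2 ^ i = 1) :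
    x = 1 := by
  by_contra hx1
  obtain ⟨i, hi⟩ := hx
  induction i with
  | zero => exact hx1 (by simpa using hi)
  | succ i ih =>
    by_cases e : x ^ 2 ^ i = 1
    · exact ih e
    · refine Bad.not_centralizes hN (v := x ^ 2 ^ i) ⟨hne, ?_, e, ?_, ?_⟩ (pow_mem hP _)
      · rw [← pow_add, ← two_mul, ← pow_succ', hi]
      · exact (MulAction.stabilizer G P).pow_mem (fix_of_centralizer hP) _
      · exact (MulAction.stabilizer G R).pow_mem hR _

/-- `|P| = q₀ ^ 2`. -/
lemma Bad.card_eq {P R : h.Pt} {v : G} (b : Bad P R v) :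
    Nat.card P.1 = ((fixd P {v}).ncard + 1) ^ 2 := by
  obtain ⟨c, hc, hc1, hcc⟩ := exists_commute b.sq b.right
  have he : fixd P (∅ : Set G) = sharp P := (fixd_eq_sharp_iff _).2 fun v hv => hv.elim
  have h0 := half b.ne (∅ : Set G) b.left b.right (fun v hv => hv.elim) (fun v hv => hv.elim)
    (fun a ha => ⟨conj_mem_of_fix b.left ha.1, conj_ne_one ha.2.1, fun v hv => hv.elim⟩)
    (fun a _ => by rw [b.sq]; exact Commute.one_left a) hc hc1 (fun v hv => hv.elim) hcc (by
      by_contra hall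
      push Not at hall
      refine b.not_centralizes hN (Subgroup.mem_centralizer_iff.2 fun a ha => ?_)
      by_cases ha1 : a = 1
      · simp [ha1]
      · exact (hall a (he ▸ ⟨ha, ha1⟩)).eq.symm)
  rw [he, insert_empty_eq, sharp_ncard] at h0
  rw [← h0]
  have := four_le P
  omega

lemma Bad.ncard_eq {P R S T : h.Pt} {v w : G} (b : Bad P R v) (b' : Bad S T w) :
    (fixd P {v}).ncard = (fixd S {w}).ncard := by
  have h1 := b.card_eq hN
  rw [card_pt_eq P S, b'.card_eq hN] at h1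
  have := Nat.pow_left_injective two_ne_zero h1
  omega

lemma Bad.two_pow {P R : h.Pt} {v : G} (b : Bad P R v) :
    ∃ k, 1 ≤ k ∧ (fixd P {v}).ncard + 1 = 2 ^ k := by
  obtain ⟨m, hm, e⟩ := exists_pow P
  rw [b.card_eq hN] at e
  obtain ⟨k, -, hk⟩ := (Nat.dvd_prime_pow Nat.prime_two).1
    (e ▸ dvd_pow_self _ two_ne_zero : (fixd P {v}).ncard + 1 ∣ 2 ^ m)
  refine ⟨k, ?_, hk⟩
  rcases Nat.eq_zero_or_pos k with rfl | hk0
  · rw [hk] at e
    have h2 : 4 ≤ 2 ^ m := by
      calc 4 = 2 ^ 2 := rfl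
        _ ≤ 2 ^ m := Nat.pow_le_pow_right two_pos hm
    simp at e
    omega
  · exact hk0

lemma Bad.fixd_odd {P R : h.Pt} {v : G} (b : Bad P R v) : Odd (fixd P {v}).ncard := by
  obtain ⟨k, hk, e⟩ := b.two_pow hN
  have h1 := Nat.Even.sub_odd Nat.one_le_two_pow
    (even_two.pow_of_ne_zero (show k ≠ 0 by omega)) odd_one
  rwa [show (fixd P {v}).ncard = 2 ^ k - 1 by omega]

lemma Bad.fixd_nonempty {P R : h.Pt} {v : G} (b : Bad P R v) : (fixd P {v}).Nonempty :=
  (Set.ncard_pos (Set.toFinite _)).1 (b.fixd_odd hN).pos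

/-- The map `p ↦ p (v p v)` of a point. -/
lemma Bad.nu {P R : h.Pt} {v : G} (b : Bad P R v) {a : G} (ha : a ∈ P) (hva : Commute v a) :
    {p | p ∈ P ∧ p * (v * p * v) = a}.ncard = (fixd P {v}).ncard + 1 := by
  classical
  have hvv := b.sq
  have hconj : ∀ p : G, p ∈ P → v * p * v ∈ P := fun p hp => by
    rw [← involution_conj hvv]; exact conj_mem_of_fix b.left hp
  let φ : P.1 →* P.1 :=
    { toFun := fun p => ⟨p * (v * p * v), mul_mem_pt p.2 (hconj p p.2)⟩
      map_one' := Subtype.ext (by simp [hvv])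
      map_mul' := fun p p' => Subtype.ext (by
        show (p : G) * p' * (v * (p * p') * v) = p * (v * p * v) * (p' * (v * p' * v))
        have hc : Commute (v * p * v) (p' : G) := commute_mem (hconj p p.2) p'.2
        calc (p : G) * p' * (v * (p * p') * v) = p * p' * (v * p * (v * v) * p' * v) := by
              rw [hvv]; group
          _ = p * (p' * (v * p * v)) * (v * p' * v) := by group
          _ = _ := by rw [← hc.eq]; group) }
  have hker : ∀ p : P.1, p ∈ φ.ker ↔ Commute v p := fun p => by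
    rw [MonoidHom.mem_ker]
    constructor
    · intro e
      have e' : (p : G) * (v * p * v) = 1 := congrArg Subtype.val e
      have h1 := inv_eq_of_mul_eq_one_right e'
      rw [inv_mem_eq p.2, ← involution_conj hvv] at h1
      exact mul_inv_eq_iff_eq_mul.1 h1.symm
    · intro hc
      refine Subtype.ext ?_
      show (p : G) * (v * p * v) = 1
      rw [hc.eq, mul_assoc (p : G) v v, hvv, mul_one, sq_mem p.2]
  have hrange : φ.range ≤ φ.ker := by
    rintro _ ⟨p, rfl⟩
    rw [hker]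
    show v * ((p : G) * (v * p * v)) = p * (v * p * v) * v
    calc v * ((p : G) * (v * p * v)) = v * p * v * p * (v * 1) := by group
      _ = (v * p * v) * p * v := by rw [mul_one]
      _ = _ := by rw [(commute_mem (hconj p p.2) p.2).eq]
  have hk : Nat.card φ.ker = (fixd P {v}).ncard + 1 := by
    have e : (Subtype.val '' (φ.ker : Set P.1)) = insert 1 (fixd P {v}) := by
      ext x
      constructor
      · rintro ⟨y, hy, rfl⟩
        by_cases hy1 : y.1 = 1
        · exact Or.inl hy1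
        · exact Or.inr ⟨y.2, hy1, by rintro w rfl; exact (hker y).1 hy⟩
      · rintro (rfl | hx)
        · exact ⟨1, φ.ker.one_mem, rfl⟩
        · exact ⟨⟨x, hx.1⟩, (hker _).2 (hx.2.2 v rfl), rfl⟩
    rw [show Nat.card φ.ker = (φ.ker : Set P.1).ncard from Nat.card_coe_set_eq _,
      ← Set.ncard_image_of_injective _ Subtype.val_injective, e,
      Set.ncard_insert_of_notMem (fun hx => hx.2.1 rfl) (Set.toFinite _)]
  have htop : φ.ker ≤ φ.range := by
    refine (Subgroup.eq_of_le_of_card_ge hrange ?_).ge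
    have h1 := φ.ker.index_mul_card
    rw [Subgroup.index_ker, hk, b.card_eq hN, pow_two] at h1
    rw [hk]
    exact (Nat.eq_of_mul_eq_mul_right (by omega) h1).ge
  obtain ⟨p₀, hp₀⟩ := htop ((hker ⟨a, ha⟩).2 hva)
  rw [← hk, ← Nat.card_coe_set_eq]
  refine Nat.card_congr
    { toFun := fun p => ⟨⟨p.1, p.2.1⟩ * p₀⁻¹, ?_⟩
      invFun := fun y => ⟨(y.1 * p₀ : P.1), (y.1 * p₀).2, ?_⟩
      left_inv := fun p => Subtype.ext (by simp)
      right_inv := fun y => Subtype.ext (mul_inv_cancel_right y.1 p₀) }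
  · have h1 : φ ⟨p.1, p.2.1⟩ = ⟨a, ha⟩ := Subtype.ext p.2.2
    rw [MonoidHom.mem_ker, map_mul, map_inv, h1, hp₀, mul_inv_cancel]
  · have h1 : φ (y.1 * p₀) = ⟨a, ha⟩ := by rw [map_mul, y.2, one_mul, hp₀]
    exact congrArg Subtype.val h1

/-- An element commuting with `v` and trivial on its fixed part of `P` has square trivial on `P`. -/
lemma Bad.sq_centralizes {P R : h.Pt} {v x : G} (b : Bad P R v) (hxP : x • P = P) (hxv : Commute x v)
    (hxC : ∀ a ∈ fixd P {v}, Commute x a) : x * x ∈ Subgroup.centralizer (P.1 : Set G) := by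
  have hfix : ∀ c, c ∈ P → Commute v c → x * c * x⁻¹ = c := fun c hc hvc => by
    by_cases hc1 : c = 1
    · simp [hc1]
    · exact mul_inv_eq_iff_eq_mul.2 (hxC c ⟨hc, hc1, by rintro w rfl; exact hvc⟩).eq
  refine Subgroup.mem_centralizer_iff.2 fun p hp => ?_
  have hp' : x * p * x⁻¹ ∈ P := conj_mem_of_fix hxP hp
  have hvp : v * p * v ∈ P := by rw [← involution_conj b.sq]; exact conj_mem_of_fix b.left hp
  have hc0 : Commute v (p * (v * p * v)) := by
    show v * (p * (v * p * v)) = p * (v * p * v) * v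
    calc v * (p * (v * p * v)) = (v * p * v) * p * v := by group
      _ = p * (v * p * v) * v := by rw [(commute_mem hvp hp).eq]
  have hc : Commute v (p * (x * p * x⁻¹)) := by
    have e0 : x * (p * (v * p * v)) * x⁻¹ = p * (v * p * v) := hfix _ (mul_mem_pt hp hvp) hc0
    have e1 : v * (x * p * x⁻¹) * v = x * (v * p * v) * x⁻¹ := by
      calc v * (x * p * x⁻¹) * v = (v * x) * p * (x⁻¹ * v) := by group
        _ = (x * v) * p * (v * x⁻¹) := by rw [← hxv.eq, (hxv.inv_left).eq]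
        _ = _ := by group
    have e2 : v * (p * (x * p * x⁻¹)) * v = p * (x * p * x⁻¹) := by
      calc v * (p * (x * p * x⁻¹)) * v = (v * p * v) * (v * (x * p * x⁻¹) * v) := by
            rw [show v * p * v * (v * (x * p * x⁻¹) * v) = v * p * (v * v) * (x * p * x⁻¹) * v by group,
              b.sq]; group
        _ = (v * p * v) * (x * (v * p * v) * x⁻¹) := by rw [e1]
        _ = (v * p * v) * (x * p * x⁻¹ * (x * (p * (v * p * v)) * x⁻¹)) := by
            rw [show x * p * x⁻¹ * (x * (p * (v * p * v)) * x⁻¹) = x * (p * p * (v * p * v)) * x⁻¹ by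
              group, sq_mem hp, one_mul]
        _ = (v * p * v) * ((x * p * x⁻¹) * p) * (v * p * v) := by rw [e0]; group
        _ = ((x * p * x⁻¹) * p) * ((v * p * v) * (v * p * v)) := by
            rw [(commute_mem hvp (mul_mem_pt hp' hp)).eq, mul_assoc]
        _ = p * (x * p * x⁻¹) := by rw [sq_mem hvp, mul_one, (commute_mem hp' hp).eq]
    have := mul_inv_eq_iff_eq_mul.1 ((involution_conj b.sq _).trans e2)
    exact this
  have h1 := hfix _ (mul_mem_pt hp hp') hc
  have h2 : x * x * p * (x * x)⁻¹ = p := by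
    calc x * x * p * (x * x)⁻¹ = (x * p * x⁻¹)⁻¹ * (x * (p * (x * p * x⁻¹)) * x⁻¹) := by group
      _ = (x * p * x⁻¹)⁻¹ * ((x * p * x⁻¹) * p) := by rw [h1, (commute_mem hp hp').eq]
      _ = p := by group
  exact (mul_inv_eq_iff_eq_mul.1 h2).symm

omit hN in
lemma invI_sym {P R : h.Pt} {f : G} (hf : f ∈ swp P R) :
    SymSet {x | x ∈ pairCore P R ∧ MulAut.conj f x = x⁻¹} :=
  SymSet.inverted
    { odd := fun _ hx => odd_orderOf_oddOf hx
      inv := fun _ hx => inv_mem hx
      sqrt := fun _ hx => pow_mem hx _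
      tri := fun _ hx _ hy => mul_mem (mul_mem hx hy) hx } (MulAut.conj f)

omit hN in
lemma invI_bijOn {P R : h.Pt} (hne : P ≠ R) {f : G} (hf : f ∈ swp P R) (V : Set G)
    (hV : ∀ v ∈ V, Commute v f) :
    Set.BijOn (fun x => f * x) {x | x ∈ pairCore P R ∧ MulAut.conj f x = x⁻¹ ∧ ∀ v ∈ V, Commute v x}
      (fixs P R V) := by
  have hff : f * f = 1 := h.sq f hf.1
  refine ⟨fun x hx => ⟨?_, fun v hv => (hV v hv).mul_right (hx.2.2 v hv)⟩,
    fun x _ y _ e => mul_left_cancel e, fun f' hf' => ⟨f * f', ⟨swp_mul_mem hne hf hf'.1, ?_,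
      fun v hv => (hV v hv).mul_right (hf'.2 v hv)⟩, ?_⟩⟩
  · obtain ⟨hxO, hinv, -⟩ := hx
    have ho := odd_orderOf_oddOf hxO
    set y := sqrtOdd x
    have hy : y * y = x := sqrtOdd_mul_self ho
    have hyO : y ∈ pairCore P R := pow_mem hxO _
    have hyf : f * y * f⁻¹ = y⁻¹ := by
      have : MulAut.conj f y = y⁻¹ := by
        show MulAut.conj f (x ^ _) = _
        rw [map_pow, hinv, inv_pow]; rfl
      exact this
    have hfix := pairCore_fix hne hyO
    have h1 := swp_conj (g := y⁻¹) hf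
    rw [inv_inv, inv_smul_eq_iff.2 hfix.1.symm, inv_smul_eq_iff.2 hfix.2.symm] at h1
    rwa [show y⁻¹ * f * y = f * x by rw [← hy, ← hyf]; group] at h1
  · show f * (f * f') * f⁻¹ = (f * f')⁻¹
    rw [h.inv_eq hf.1, mul_inv_rev, h.inv_eq hf.1, h.inv_eq hf'.1.1, ← mul_assoc f f f', hff, one_mul]
  · show f * (f * f') = f'
    rw [← mul_assoc, hff, one_mul]

omit hN in
lemma invI_ncard {P R : h.Pt} (hne : P ≠ R) {f : G} (hf : f ∈ swp P R) :
    {x | x ∈ pairCore P R ∧ MulAut.conj f x = x⁻¹}.ncard + 1 = Nat.card P.1 := by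
  have h1 := (invI_bijOn hne hf (∅ : Set G) fun v hv => hv.elim).ncard_eq
  have h2 : fixs P R (∅ : Set G) = swp P R := Set.ext fun x =>
    ⟨fun hx => hx.1, fun hx => ⟨hx, fun v hv => hv.elim⟩⟩
  rw [h2, swp_ncard hne, sharp_ncard, card_pt_eq R P] at h1
  have h3 : {x | x ∈ pairCore P R ∧ MulAut.conj f x = x⁻¹} =
      {x | x ∈ pairCore P R ∧ MulAut.conj f x = x⁻¹ ∧ ∀ v ∈ (∅ : Set G), Commute v x} := by
    ext x; simp
  have := four_le P
  rw [h3, h1]
  omega

/-- The fixed part of the inverted elements. -/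
lemma Bad.invI_fixed {P R : h.Pt} {v : G} (b : Bad P R v) {f : G} (hf : f ∈ swp P R)
    (hvf : Commute v f) :
    {x | x ∈ {x | x ∈ pairCore P R ∧ MulAut.conj f x = x⁻¹} ∧ MulAut.conj v x = x}.ncard =
      (fixd R {v}).ncard := by
  obtain ⟨a, ha⟩ := b.fixd_nonempty hN
  have h1 := (invI_bijOn b.ne hf {v} (by rintro w rfl; exact hvf)).ncard_eq
  have h2 := (fixs_bijOn b.ne {v} (by rintro w rfl; exact b.left) (by rintro w rfl; exact b.right)
    ha.1 ha.2.1 ha.2.2).ncard_eq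
  rw [← h2, ← h1]
  congr 1
  ext x
  simp only [Set.mem_ofPred_eq, MulAut.conj_apply, Set.mem_singleton_iff, forall_eq, and_assoc]
  exact and_congr_right fun _ => and_congr_right fun _ => mul_inv_eq_iff_eq_mul

/-- The inverted part of the inverted elements has `q₀ + 1` members. -/
lemma Bad.invI_inverted {P R : h.Pt} {v : G} (b : Bad P R v) {f : G} (hf : f ∈ swp P R)
    (hvf : Commute v f) :
    {x | x ∈ {x | x ∈ pairCore P R ∧ MulAut.conj f x = x⁻¹} ∧ MulAut.conj v x = x⁻¹}.ncard =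
      (fixd R {v}).ncard + 2 := by
  have h0 := (invI_sym hf).ncard_eq (MulAut.conj v) (fun x hx => ?_) (fun x _ => ?_)
  · rw [b.invI_fixed hN hf hvf] at h0
    have h1 := invI_ncard b.ne hf
    rw [card_pt_eq P R, b.symm.card_eq hN, h0] at h1
    have hpos := (b.symm.fixd_odd hN).pos
    generalize (fixd R {v}).ncard = c at *
    generalize Set.ncard _ = X at h1 ⊢
    refine Nat.eq_of_mul_eq_mul_left hpos ?_
    have h2 : (c + 1) ^ 2 = c * (c + 2) + 1 := by ring
    omega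
  · refine ⟨?_, ?_⟩
    · show v * x * v⁻¹ ∈ pairCore P R
      exact conj_mem_oddOf (mem_pairStab_of_fix b.left b.right) hx.1
    · show f * (v * x * v⁻¹) * f⁻¹ = (v * x * v⁻¹)⁻¹
      calc f * (v * x * v⁻¹) * f⁻¹ = (f * v) * x * (f * v)⁻¹ := by group
        _ = (v * f) * x * (v * f)⁻¹ := by rw [hvf.eq]
        _ = v * (f * x * f⁻¹) * v⁻¹ := by group
        _ = v * x⁻¹ * v⁻¹ := by rw [show f * x * f⁻¹ = x⁻¹ from hx.2]
        _ = _ := by group
  · show v * (v * x * v⁻¹) * v⁻¹ = x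
    rw [b.inv_eq, show v * (v * x * v) * v = (v * v) * x * (v * v) by group, b.sq, one_mul, mul_one]

/-- Commuting involutions in the stabiliser of two points are equal. -/
theorem Bad.eq_of_commute' {P R : h.Pt} {v w : G} (b : Bad P R v) (b' : Bad P R w)
    (hc : Commute v w) : v = w := by
  by_contra hne
  have hw' : Bad P R (v * w) := by
    refine ⟨b.ne, ?_, fun e => hne ?_, by rw [mul_smul, b'.left, b.left],
      by rw [mul_smul, b'.right, b.right]⟩
    · rw [show v * w * (v * w) = v * (w * v) * w by group, ← hc.eq,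
        show v * (v * w) * w = (v * v) * (w * w) by group, b.sq, b'.sq, one_mul]
    · rw [mul_eq_one_iff_eq_inv, b'.inv_eq] at e; exact e
  set T := Subgroup.zpowers v ⊔ Subgroup.zpowers w with hT
  have hp : ∀ t : G, t * t = 1 → IsPGroup 2 (Subgroup.zpowers t) := fun t ht => by
    have : Fact (Nat.Prime 2) := ⟨Nat.prime_two⟩
    obtain ⟨j, -, hj⟩ := (Nat.dvd_prime_pow Nat.prime_two).1
      (orderOf_dvd_of_pow_eq_one (show t ^ 2 ^ 1 = 1 by rw [pow_one, pow_two, ht]))
    exact IsPGroup.of_card (n := j) (by rw [Nat.card_zpowers, hj])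
  have hTp : IsPGroup 2 T := IsPGroup.to_sup_of_normal_left' (hp v b.sq) (hp w b'.sq)
    ((Subgroup.zpowers_le.2 (Subgroup.mem_centralizer_iff.2 fun z hz => by
      obtain ⟨i, rfl⟩ := Subgroup.mem_zpowers_iff.1 hz
      exact (hc.zpow_left i).eq)).trans (Subgroup.centralizer_le_normalizer _))
  have hTfix : T ≤ MulAction.stabilizer G P ⊓ MulAction.stabilizer G R :=
    sup_le (Subgroup.zpowers_le.2 ⟨b.left, b.right⟩) (Subgroup.zpowers_le.2 ⟨b'.left, b'.right⟩)
  obtain ⟨f, hf, hfT⟩ := exists_commute_fixed hTp (S := swp P R)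
    (by
      rw [swp_ncard b.ne, sharp_ncard]
      obtain ⟨m, hm, e⟩ := exists_pow R
      rw [e]
      exact Nat.Even.sub_odd Nat.one_le_two_pow (even_two.pow_of_ne_zero (by omega)) odd_one)
    (fun t ht x hx => by
      have h1 := swp_conj (g := t) hx
      rwa [(hTfix ht).1, (hTfix ht).2] at h1)
  have hvf := hfT v (Subgroup.mem_sup_left (Subgroup.mem_zpowers v))
  have hwf := hfT w (Subgroup.mem_sup_right (Subgroup.mem_zpowers w))
  set J := {x | x ∈ pairCore P R ∧ MulAut.conj f x = x⁻¹} with hJ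
  have hmaps : ∀ z : G, z • P = P → z • R = R → Commute z f → ∀ x ∈ J, MulAut.conj z x ∈ J :=
    fun z hzP hzR hzf x hx => by
      refine ⟨conj_mem_oddOf (mem_pairStab_of_fix hzP hzR) hx.1, ?_⟩
      rw [← MulAut.mul_apply, ← map_mul, ← hzf.eq, map_mul, MulAut.mul_apply, hx.2, map_inv]
  have hinvol : ∀ z : G, z * z = 1 → ∀ x : G, MulAut.conj z (MulAut.conj z x) = x := fun z hz x => by
    rw [← MulAut.mul_apply, ← map_mul, hz, map_one, MulAut.one_apply]
  obtain ⟨k, hk, ek⟩ := b.symm.two_pow hN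
  refine triple_false (invI_sym hf) (σ := MulAut.conj v) (τ := MulAut.conj w)
    (B := (fixd R {v}).ncard + 1) (hmaps v b.left b.right hvf) (hmaps w b'.left b'.right hwf)
    (fun x _ => hinvol v b.sq x) (fun x _ => hinvol w b'.sq x)
    (fun x _ => by
      rw [← MulAut.mul_apply, ← map_mul, hc.eq, map_mul, MulAut.mul_apply])
    (by have := (b.symm.fixd_odd hN).pos; omega) ?_ ?_ ?_ ?_ ?_
  · rw [ek]
    intro e3
    have h2 : 2 ∣ 2 ^ k := dvd_pow_self 2 (by omega)
    omega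
  · rw [← b.symm.card_eq hN, card_pt_eq R P]
    exact invI_ncard b.ne hf
  · rw [b.invI_fixed hN hf hvf]
  · rw [b'.invI_fixed hN hf hwf, b'.symm.ncard_eq hN b.symm]
  · have h1 := hw'.invI_fixed hN hf (hvf.mul_left hwf)
    rw [hw'.symm.ncard_eq hN b.symm] at h1
    rw [← h1]
    congr 2
    ext x
    simp only [Set.mem_ofPred_eq, ← MulAut.mul_apply, ← map_mul]

/-- A 2-element commuting with `v`, trivial on its fixed part of `P`, is `1` or `v`. -/
theorem Bad.tiny {P R : h.Pt} {v x : G} (b : Bad P R v) (hxP : x • P = P) (hxR : x • R = R)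
    (hxv : Commute x v) (hxC : ∀ a ∈ fixd P {v}, Commute x a) (hx : ∃ i, x ^ 2 ^ i = 1) :
    x = 1 ∨ x = v := by
  by_cases hx1 : x = 1
  · exact Or.inl hx1
  obtain ⟨i, hi⟩ := hx
  have h2 : x * x = 1 := eq_one_of_centralizes_two hN b.ne (b.sq_centralizes hN hxP hxv hxC)
    (by rw [mul_smul, hxR, hxR]) ⟨i, by rw [← pow_two, ← pow_mul, mul_comm, pow_mul, hi, one_pow]⟩
  exact Or.inr (Bad.eq_of_commute' hN ⟨b.ne, h2, hx1, hxP, hxR⟩ b hxv)

/-- No quaternion pair fixes two points. -/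
theorem no_quaternion {P R : h.Pt} {g k v : G} (b : Bad P R v) (hgP : g • P = P) (hgR : g • R = R)
    (hkP : k • P = P) (hkR : k • R = R) (hg : g * g = v) (hk : k * k = v)
    (hgk : k * g * k⁻¹ = g⁻¹) : False := by
  have hvg : Commute v g := by rw [← hg]; exact (Commute.refl g).mul_left (Commute.refl g)
  have hvk : Commute v k := by rw [← hk]; exact (Commute.refl k).mul_left (Commute.refl k)
  have hgkgk : g * k * (g * k) = v := by
    calc g * k * (g * k) = g * (k * g * k⁻¹) * (k * k) := by group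
      _ = v := by rw [hgk, hk, mul_inv_cancel, one_mul]
  have h4 : ∀ z : G, z * z = v → z ^ 2 ^ 2 = 1 := fun z hz => by
    rw [show (2 : ℕ) ^ 2 = 2 * 2 from rfl, pow_mul, pow_two, pow_two, hz, b.sq]
  set T := Subgroup.zpowers g ⊔ Subgroup.zpowers k with hT
  have hp : ∀ z : G, z * z = v → IsPGroup 2 (Subgroup.zpowers z) := fun z hz => by
    have : Fact (Nat.Prime 2) := ⟨Nat.prime_two⟩
    obtain ⟨j, -, hj⟩ := (Nat.dvd_prime_pow Nat.prime_two).1
      (orderOf_dvd_of_pow_eq_one (h4 z hz))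
    exact IsPGroup.of_card (n := j) (by rw [Nat.card_zpowers, hj])
  have hknorm : ∀ n : ℤ, k * g ^ n * k⁻¹ = (g ^ n)⁻¹ := fun n => by
    rw [← conj_zpow, hgk, inv_zpow]
  have hTp : IsPGroup 2 T := by
    refine IsPGroup.to_sup_of_normal_left' (hp g hg) (hp k hk) (Subgroup.zpowers_le.2 ?_)
    rw [Subgroup.mem_normalizer_iff]
    intro z
    constructor
    · intro hz
      obtain ⟨n, rfl⟩ := Subgroup.mem_zpowers_iff.1 hz
      rw [hknorm]
      exact inv_mem hz
    · intro hz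
      obtain ⟨n, hn⟩ := Subgroup.mem_zpowers_iff.1 hz
      have : z = (g ^ n)⁻¹ := by
        calc z = k⁻¹ * (k * z * k⁻¹) * k := by group
          _ = k⁻¹ * (g ^ n) * k := by rw [hn]
          _ = k⁻¹ * (k * g ^ (-n) * k⁻¹) * k := by rw [hknorm, zpow_neg, inv_inv]
          _ = (g ^ n)⁻¹ := by group
      rw [this]
      exact inv_mem (Subgroup.zpow_mem_zpowers g n)
  have hTfix : T ≤ MulAction.stabilizer G P ⊓ MulAction.stabilizer G R :=
    sup_le (Subgroup.zpowers_le.2 ⟨hgP, hgR⟩) (Subgroup.zpowers_le.2 ⟨hkP, hkR⟩)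
  have hvT : ∀ t ∈ T, Commute t v := by
    have h1 : T ≤ Subgroup.centralizer {v} := sup_le
      (Subgroup.zpowers_le.2 (Subgroup.mem_centralizer_singleton_iff.2 hvg.eq.symm))
      (Subgroup.zpowers_le.2 (Subgroup.mem_centralizer_singleton_iff.2 hvk.eq.symm))
    exact fun t ht => Subgroup.mem_centralizer_singleton_iff.1 (h1 ht)
  obtain ⟨f, hf, hfT⟩ := exists_commute_fixed hTp (S := swp P R)
    (by
      rw [swp_ncard b.ne, sharp_ncard]
      obtain ⟨m, hm, e⟩ := exists_pow R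
      rw [e]
      exact Nat.Even.sub_odd Nat.one_le_two_pow (even_two.pow_of_ne_zero (by omega)) odd_one)
    (fun t ht x hx => by
      have h1 := swp_conj (g := t) hx
      rwa [(hTfix ht).1, (hTfix ht).2] at h1)
  have hgT : g ∈ T := Subgroup.mem_sup_left (Subgroup.mem_zpowers g)
  have hkT : k ∈ T := Subgroup.mem_sup_right (Subgroup.mem_zpowers k)
  have hgkT : g * k ∈ T := mul_mem hgT hkT
  have hvf : Commute v f := by rw [← hg]; exact (hfT g hgT).mul_left (hfT g hgT)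
  obtain ⟨a, ha, haT⟩ := exists_commute_fixed hTp (S := fixd P {v}) (b.fixd_odd hN)
    (fun t ht x hx => ⟨conj_mem_of_fix (hTfix ht).1 hx.1, conj_ne_one hx.2.1, by
      intro w hw
      rw [Set.mem_singleton_iff.1 hw]
      exact ((hvT t ht).symm.mul_right (hx.2.2 v rfl)).mul_right (hvT t ht).symm.inv_right⟩)
  -- the fixed part of each of `g`, `k`, `g * k`
  have key : ∀ z ∈ T, z * z = v →
      (fixd R {v}).ncard + 1 = ((fixd R (insert z {v})).ncard + 1) ^ 2 ∧
        {x | x ∈ {x | x ∈ {x | x ∈ pairCore P R ∧ MulAut.conj f x = x⁻¹} ∧ MulAut.conj v x = x} ∧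
          MulAut.conj z x = x}.ncard = (fixd R (insert z {v})).ncard := by
    intro z hz hzz
    have hzv : Commute z v := hvT z hz
    refine ⟨?_, ?_⟩
    · refine half b.ne.symm {v} (hTfix hz).2 (hTfix hz).1 (by rintro w rfl; exact b.right)
        (by rintro w rfl; exact b.left) (fun c hc => ⟨conj_mem_of_fix (hTfix hz).2 hc.1,
          conj_ne_one hc.2.1, ?_⟩) (fun c hc => by rw [hzz]; exact hc.2.2 v rfl) ha.1 ha.2.1
          ha.2.2 (haT z hz) ?_
      · intro w hw
        rw [Set.mem_singleton_iff.1 hw]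
        exact (hzv.symm.mul_right (hc.2.2 v rfl)).mul_right hzv.symm.inv_right
      · by_contra hall
        push Not at hall
        rcases b.symm.tiny hN (hTfix hz).2 (hTfix hz).1 hzv hall ⟨2, h4 z hzz⟩ with rfl | rfl
        · exact b.ne_one (by rw [← hzz, one_mul])
        · exact b.ne_one (mul_left_cancel (hzz.trans (mul_one z).symm))
    · have hV : ∀ w ∈ insert z ({v} : Set G), w • P = P ∧ w • R = R := by
        rintro w (rfl | rfl)
        · exact ⟨(hTfix hz).1, (hTfix hz).2⟩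
        · exact ⟨b.left, b.right⟩
      have h1 := (invI_bijOn b.ne hf (insert z {v}) (by
        rintro w (rfl | rfl)
        · exact hfT w hz
        · exact hvf)).ncard_eq
      have h2 := (fixs_bijOn b.ne (insert z {v}) (fun w hw => (hV w hw).1) (fun w hw => (hV w hw).2)
        ha.1 ha.2.1 (by
          rintro w (rfl | rfl)
          · exact haT w hz
          · exact ha.2.2 w rfl)).ncard_eq
      rw [← h2, ← h1]
      congr 1
      ext x
      simp only [Set.mem_ofPred_eq, MulAut.conj_apply, Set.forall_mem_insert, Set.mem_singleton_iff,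
        forall_eq, Commute, SemiconjBy, mul_inv_eq_iff_eq_mul]
      tauto
  obtain ⟨eg, fg⟩ := key g hgT hg
  obtain ⟨ek, fk⟩ := key k hkT hk
  obtain ⟨egk, fgk⟩ := key (g * k) hgkT hgkgk
  set B := (fixd R (insert g {v})).ncard + 1 with hB
  have hBk : (fixd R (insert k {v})).ncard + 1 = B :=
    Nat.pow_left_injective two_ne_zero (ek.symm.trans eg)
  have hBgk : (fixd R (insert (g * k) {v})).ncard + 1 = B :=
    Nat.pow_left_injective two_ne_zero (egk.symm.trans eg)
  obtain ⟨j, hj, ej⟩ := b.symm.two_pow hN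
  have hJmaps : ∀ z ∈ T, ∀ x ∈ {x | x ∈ {x | x ∈ pairCore P R ∧ MulAut.conj f x = x⁻¹} ∧
      MulAut.conj v x = x}, MulAut.conj z x ∈ {x | x ∈ {x | x ∈ pairCore P R ∧
        MulAut.conj f x = x⁻¹} ∧ MulAut.conj v x = x} := by
    rintro z hz x ⟨⟨hxO, hxf⟩, hxv⟩
    refine ⟨⟨conj_mem_oddOf (mem_pairStab_of_fix (hTfix hz).1 (hTfix hz).2) hxO, ?_⟩, ?_⟩
    · rw [← MulAut.mul_apply, ← map_mul, ← (hfT z hz).eq, map_mul, MulAut.mul_apply, hxf, map_inv]
    · rw [← MulAut.mul_apply, ← map_mul, ← (hvT z hz).eq, map_mul, MulAut.mul_apply, hxv]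
  refine triple_false ((invI_sym hf).fixed (MulAut.conj v)) (σ := MulAut.conj g)
    (τ := MulAut.conj k) (B := B) (hJmaps g hgT) (hJmaps k hkT) ?_ ?_ ?_ ?_ ?_ ?_ ?_ ?_ ?_
  · rintro x ⟨-, hxv⟩
    rw [← MulAut.mul_apply, ← map_mul, hg, hxv]
  · rintro x ⟨-, hxv⟩
    rw [← MulAut.mul_apply, ← map_mul, hk, hxv]
  · rintro x ⟨-, hxv⟩
    have e : g * k = k * g * v := by
      calc g * k = k * (k⁻¹ * g * k) := by group
        _ = k * g⁻¹ := by
          rw [show k⁻¹ * g * k = g⁻¹ by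
            calc k⁻¹ * g * k = k⁻¹ * (k * g * k⁻¹)⁻¹ * k := by rw [hgk, inv_inv]
              _ = g⁻¹ := by group]
        _ = k * (g * v) := by
          rw [show g⁻¹ = g * v from inv_eq_of_mul_eq_one_right (by rw [← mul_assoc, hg, b.sq])]
        _ = _ := by rw [mul_assoc]
    rw [← MulAut.mul_apply, ← map_mul, e, map_mul, MulAut.mul_apply, hxv, map_mul, MulAut.mul_apply]
  · by_contra hlt
    have h1 : B = 1 := by omega
    rw [h1, one_pow, ej] at eg
    have : 2 ≤ 2 ^ j := Nat.le_self_pow (by omega) 2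
    omega
  · intro e3
    rw [e3, ej] at eg
    have h2 : 2 ∣ 2 ^ j := dvd_pow_self 2 (by omega)
    omega
  · rw [b.invI_fixed hN hf hvf, eg]
  · rw [fg]
  · rw [fk, hBk]
  · rw [← hBgk, ← fgk]
    congr 2
    ext x
    simp only [Set.mem_ofPred_eq, ← MulAut.mul_apply, ← map_mul]

/-- The 2-subgroups of the stabiliser of two points are cyclic. -/
theorem isCyclic_two_stab {P R : h.Pt} (hne : P ≠ R) {T : Subgroup G} (hT : IsPGroup 2 T)
    (hfix : T ≤ MulAction.stabilizer G P ⊓ MulAction.stabilizer G R) : IsCyclic T := by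
  have : Fact (Nat.Prime 2) := ⟨Nat.prime_two⟩
  have huniq : ∀ x y : T, orderOf x = 2 → orderOf y = 2 → y ∈ Subgroup.zpowers x := by
    intro x y hx hy
    have hbad : ∀ z : T, orderOf z = 2 → Bad P R (z : G) := fun z hz => by
      rw [← Subgroup.orderOf_coe] at hz
      exact ⟨hne, Involutions.Basic.invol_mul_self hz, Involutions.Basic.invol_ne_one hz,
        (hfix z.2).1, (hfix z.2).2⟩
    suffices x = y by rw [this]; exact Subgroup.mem_zpowers y
    -- a central involution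
    have : Nontrivial T := ⟨⟨x, 1, fun e => by rw [e, orderOf_one] at hx; omega⟩⟩
    have : Nontrivial (Subgroup.center T) := hT.center_nontrivial
    have hcp : IsPGroup 2 (Subgroup.center T) := hT.to_subgroup _
    obtain ⟨⟨z, hz⟩, hzo⟩ := exists_prime_orderOf_dvd_card' (G := Subgroup.center T) 2 (by
      obtain ⟨n, hn⟩ := IsPGroup.iff_card.1 hcp
      have : 1 < Nat.card (Subgroup.center T) := Finite.one_lt_card
      rw [hn] at this ⊢
      exact dvd_pow_self 2 (by rintro rfl; simp at this))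
    rw [Subgroup.orderOf_mk] at hzo
    have heq : ∀ w : T, orderOf w = 2 → w = z := fun w hw => Subtype.ext
      ((hbad w hw).eq_of_commute' hN (hbad z hzo)
        (congrArg Subtype.val (Subgroup.mem_center_iff.1 hz w)))
    rw [heq x hx, heq y hy]
  rcases PGroups.isCyclic_or_quaternion hT huniq with hc | ⟨-, n, hn, ⟨e⟩⟩
  · exact hc
  exfalso
  obtain ⟨i, rfl⟩ : ∃ i, n = i + 1 := ⟨n - 1, by omega⟩
  set g₀ : QuaternionGroup (2 ^ (i + 1)) := QuaternionGroup.a (2 ^ i : ℕ) with hg₀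
  set k₀ : QuaternionGroup (2 ^ (i + 1)) := QuaternionGroup.xa 0 with hk₀
  have hgg : g₀ * g₀ = QuaternionGroup.a ((2 ^ (i + 1) : ℕ) : ZMod (2 * 2 ^ (i + 1))) := by
    rw [hg₀, QuaternionGroup.a_mul_a, ← Nat.cast_add]
    exact congrArg (fun j : ℕ => QuaternionGroup.a (j : ZMod (2 * 2 ^ (i + 1)))) (by ring)
  have hkk : k₀ * k₀ = g₀ * g₀ := by
    rw [hgg, hk₀, QuaternionGroup.xa_mul_xa]; simp
  have hkg : k₀ * g₀ = g₀⁻¹ * k₀ := by
    rw [hg₀, hk₀]
    show QuaternionGroup.xa 0 * QuaternionGroup.a _ = QuaternionGroup.a (-_) * QuaternionGroup.xa 0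
    rw [QuaternionGroup.xa_mul_a, QuaternionGroup.a_mul_xa]; simp
  have hne1 : g₀ * g₀ ≠ 1 := by
    rw [hgg, QuaternionGroup.one_def]
    intro e'
    have e'' := QuaternionGroup.a.inj e'
    rw [ZMod.natCast_eq_zero_iff] at e''
    have h1 := Nat.le_of_dvd (by positivity) e''
    have h2 : 0 < 2 ^ (i + 1) := by positivity
    omega
  have hv4 : g₀ * g₀ * (g₀ * g₀) = 1 := by
    rw [hgg, QuaternionGroup.a_mul_a, ← Nat.cast_add, ← two_mul, ZMod.natCast_self,
      ← QuaternionGroup.one_def]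
  have hmap : ∀ y z, ((e.symm (y * z) : T) : G) = (e.symm y : T) * (e.symm z : T) := fun y z => by
    rw [map_mul, Subgroup.coe_mul]
  refine no_quaternion hN (P := P) (R := R) (g := (e.symm g₀ : T)) (k := (e.symm k₀ : T))
    (v := (e.symm (g₀ * g₀) : T)) ⟨hne, ?_, ?_, (hfix (e.symm _).2).1, (hfix (e.symm _).2).2⟩
    (hfix (e.symm _).2).1 (hfix (e.symm _).2).2 (hfix (e.symm _).2).1 (hfix (e.symm _).2).2
    (hmap _ _).symm (by rw [← hkk, hmap]) ?_
  · rw [← hmap, hv4, map_one, OneMemClass.coe_one]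
  · intro e'
    exact hne1 (e.symm.injective (Subtype.ext (e'.trans (by rw [map_one]; rfl))))
  · rw [mul_inv_eq_iff_eq_mul, ← hmap, hkg, hmap, map_inv, InvMemClass.coe_inv]

end Conf

end Cfsg.Agent.Lib.OddTransp84.Core
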