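import Cfsg.Agent.Lib.OddTransp84.Core.Sylows

/-!
# Configurations generated by two points have no even pair

No involution centralises two points, provided the centre is trivial and proper lines have
`LineFacts`.
-/

set_option autoImplicit false

namespace Cfsg.Agent.Lib.OddTransp84.Core.Conf

open scoped Pointwise

universe u

variable {G : Type u} [Group G] {D : Set G} {h : Conf D}

lemma eq_one_of_centralizes_gen {A I : h.Pt} (hgen : line A I = ⊤) (hZ : Subgroup.center G = ⊥)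
    {g : G} (hA : g ∈ Subgroup.centralizer (A.1 : Set G))
    (hI : g ∈ Subgroup.centralizer (I.1 : Set G)) : g = 1 := by
  have hg : g ∈ Subgroup.center G := Subgroup.mem_center_iff.2 fun x =>
    (commute_of_centralizer hA hI (hgen ▸ Subgroup.mem_top x)).eq.symm
  rwa [hZ, Subgroup.mem_bot] at hg

lemma inverts_conj {x f a : G} (hx : x * a * x⁻¹ = a ∨ x * a * x⁻¹ = a⁻¹)
    (hf : f * a * f⁻¹ = a⁻¹) : x * f * x⁻¹ * a * (x * f * x⁻¹)⁻¹ = a⁻¹ := by
  rcases hx with hx | hx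
  · have h1 : x⁻¹ * a * x = a := by
      calc x⁻¹ * a * x = x⁻¹ * (x * a * x⁻¹) * x := by rw [hx]
        _ = a := by group
    calc x * f * x⁻¹ * a * (x * f * x⁻¹)⁻¹ = x * (f * (x⁻¹ * a * x) * f⁻¹) * x⁻¹ := by group
      _ = (x * a * x⁻¹)⁻¹ := by rw [h1, hf]; group
      _ = a⁻¹ := by rw [hx]
  · have h1 : x⁻¹ * a * x = a⁻¹ := by
      calc x⁻¹ * a * x = x⁻¹ * (x * a * x⁻¹)⁻¹ * x := by rw [hx, inv_inv]
        _ = a⁻¹ := by group
    calc x * f * x⁻¹ * a * (x * f * x⁻¹)⁻¹ = x * (f * (x⁻¹ * a * x) * f⁻¹) * x⁻¹ := by group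
      _ = x * (f * a * f⁻¹)⁻¹ * x⁻¹ := by rw [h1]; group
      _ = a⁻¹ := by rw [hf, inv_inv, hx]

variable [Finite G]

/-- Pairs centralised by an involution span proper lines. -/
lemma line_ne_top (hZ : Subgroup.center G = ⊥) {u : G} (hu1 : u ≠ 1) {P R : h.Pt}
    (hP : u ∈ Subgroup.centralizer (P.1 : Set G)) (hR : u ∈ Subgroup.centralizer (R.1 : Set G)) :
    line P R ≠ ⊤ := fun e => hu1 (eq_one_of_centralizes_gen e hZ hP hR)

lemma pairs_of_fixed (hZ : Subgroup.center G = ⊥)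
    (hL : ∀ P R : h.Pt, P ≠ R → line P R ≠ ⊤ → LineFacts P R) {A : h.Pt} {u : G} (hu : u * u = 1)
    (hu1 : u ≠ 1) (hA : u ∈ Subgroup.centralizer (A.1 : Set G)) {P R : h.Pt} (hne : P ≠ R)
    (hP : u • P = P) (hR : u • R = R) : LineFacts P R :=
  hL P R hne (line_ne_top hZ hu1 (centralizes_of_involution hu hA hP)
    (centralizes_of_involution hu hA hR))

omit [Finite G] in
/-- An element acting as a non-trivial element of the torus is fixed point free. -/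
lemma fpf_of_torus {A B : h.Pt} (L : LineFacts A B) (hAB : A ≠ B) [Finite G] {k : G}
    (hk : k ∈ lineStab A B) (hne : k ∉ Subgroup.centralizer (A.1 : Set G)) : Fpf A k := by
  intro e he he1 hc
  refine hne ((act_eq_one_iff (g := ⟨k, (mem_lineStab.1 hk).2.1⟩)).1 ?_)
  exact Torus.eq_one_of_fixes (L.torus_comm hAB) (fun x y hx hy => torus_trans hAB hx hy)
    (mem_torus.2 ⟨k, hk, rfl⟩) (e := ⟨e, he⟩) (fun e' => he1 (congrArg Subtype.val e'))
    (Subtype.ext (by rw [act_apply]; exact mul_inv_eq_iff_eq_mul.2 hc.eq))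

lemma torus_card {A B : h.Pt} (L : LineFacts A B) (hAB : A ≠ B) :
    Nat.card (torus A B) = (sharp A).ncard := by
  obtain ⟨e, he, he1⟩ := exists_ne_one A
  have he1' : (⟨e, he⟩ : A.1) ≠ 1 := fun e' => he1 (congrArg Subtype.val e')
  rw [← Nat.card_coe_set_eq]
  refine Nat.card_congr (Equiv.ofBijective (fun σ => ⟨((σ : MulAut A.1) ⟨e, he⟩ : A.1).1, ?_⟩) ?_)
  · exact ⟨((σ : MulAut A.1) ⟨e, he⟩).2,
      fun e' => he1' ((MulEquiv.map_eq_one_iff _).1 (Subtype.ext e'))⟩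
  constructor
  · rintro ⟨σ, hσ⟩ ⟨τ, hτ⟩ e'
    have e'' : σ ⟨e, he⟩ = τ ⟨e, he⟩ := Subtype.ext (congrArg Subtype.val e' :)
    refine Subtype.ext (eq_of_inv_mul_eq_one ?_)
    refine Torus.eq_one_of_fixes (L.torus_comm hAB) (fun x y hx hy => torus_trans hAB hx hy)
      (mul_mem (inv_mem hσ) hτ) he1' ?_
    rw [MulAut.mul_apply, ← e'', MulAut.inv_apply_self]
  · rintro ⟨b, hb, hb1⟩
    obtain ⟨σ, hσ, e'⟩ := torus_trans hAB (R := B) (a := ⟨e, he⟩) (a' := ⟨b, hb⟩) he1'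
      (fun e'' => hb1 (congrArg Subtype.val e''))
    exact ⟨⟨σ, hσ⟩, Subtype.ext (congrArg Subtype.val e' :)⟩

/-- A fixed point free element of order a power of `r` in the line. -/
lemma exists_fpf_in_line {A B : h.Pt} (L : LineFacts A B) (hAB : A ≠ B) {r : ℕ} (hr : r.Prime)
    (hrd : r ∣ (sharp A).ncard) :
    ∃ k ∈ lineStab A B, (∃ j, k ^ r ^ j = 1) ∧ Fpf A k := by
  have : Fact r.Prime := ⟨hr⟩
  obtain ⟨⟨σ, hσ⟩, ho⟩ := exists_prime_orderOf_dvd_card' (G := torus A B) r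
    (by rwa [torus_card L hAB])
  rw [Subgroup.orderOf_mk] at ho
  obtain ⟨k₀, hk₀, rfl⟩ := mem_torus.1 hσ
  set c := orderOf k₀ / r ^ (orderOf k₀).factorization r with hc
  have hcr : r.Coprime c := Nat.coprime_ordCompl hr (orderOf_pos k₀).ne'
  obtain ⟨s, hs⟩ := exists_pow_eq_self_of_coprime (n := c) (x := act A ⟨k₀, (mem_lineStab.1 hk₀).2.1⟩)
    (by rw [ho]; exact hcr.symm)
  have hk : k₀ ^ (c * s) ∈ lineStab A B := pow_mem hk₀ _
  refine ⟨_, hk, ⟨(orderOf k₀).factorization r, ?_⟩, fpf_of_torus L hAB hk fun e => ?_⟩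
  · rw [← pow_mul, show c * s * r ^ (orderOf k₀).factorization r
        = r ^ (orderOf k₀).factorization r * c * s by ring, hc,
      Nat.ordProj_mul_ordCompl_eq_self, pow_mul, pow_orderOf_eq_one, one_pow]
  · have h1 : act A (⟨k₀, (mem_lineStab.1 hk₀).2.1⟩ ^ (c * s)) = 1 := act_eq_one_iff.2 e
    rw [map_pow, pow_mul, hs] at h1
    rw [h1, orderOf_one] at ho
    exact hr.one_lt.ne ho

lemma fixedPoints_modEq {r : ℕ} (hr : r.Prime) {S : Subgroup G} (hS : IsPGroup r S) :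
    Nat.card h.Pt ≡ {P : h.Pt | ∀ x ∈ S, x • P = P}.ncard [MOD r] := by
  have : Fact r.Prime := ⟨hr⟩
  have h1 := hS.card_modEq_card_fixedPoints h.Pt
  rwa [show Nat.card (MulAction.fixedPoints S h.Pt) = {P : h.Pt | ∀ x ∈ S, x • P = P}.ncard from by
    rw [← Nat.card_coe_set_eq]
    exact Nat.card_congr (Equiv.subtypeEquivRight fun P =>
      ⟨fun hP x hx => hP ⟨x, hx⟩, fun hP x => hP x x.2⟩)] at h1

/-- No involution centralises two points. -/
theorem no_even (hZ : Subgroup.center G = ⊥) {A I : h.Pt} (hAI : A ≠ I) (hgen : line A I = ⊤)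
    (hL : ∀ P R : h.Pt, P ≠ R → line P R ≠ ⊤ → LineFacts P R) {P₀ R₀ : h.Pt} {u₀ : G}
    (hPR : P₀ ≠ R₀) (hu₀ : u₀ * u₀ = 1) (hu₀1 : u₀ ≠ 1)
    (hP₀ : u₀ ∈ Subgroup.centralizer (P₀.1 : Set G))
    (hR₀ : u₀ ∈ Subgroup.centralizer (R₀.1 : Set G)) : False := by
  classical
  obtain ⟨m, hm2, hm⟩ := exists_pow A
  have hmP : ∀ P : h.Pt, Nat.card P.1 = 2 ^ m := fun P => by rw [card_pt_eq P A, hm]
  obtain ⟨r, hr, hr2, hrd, hrm⟩ := exists_prime_dvd_two_pow_sub_one hm2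
  have hrfact : Fact r.Prime := ⟨hr⟩
  have hr3 : 3 ≤ r := by have := hr.two_le; omega
  have hrA : r ∣ (sharp A).ncard := by rwa [sharp_ncard, hm]
  have hodd : ∀ x : G, (∃ i, x ^ r ^ i = 1) → Odd (orderOf x) := fun x ⟨i, hi⟩ =>
    ((hr.odd_of_ne_two hr2).pow).of_dvd_nat (orderOf_dvd_of_pow_eq_one hi)
  -- an even pair at `A`
  obtain ⟨g, hg⟩ := exists_smul P₀ A
  have htr : ∀ X : h.Pt, u₀ ∈ Subgroup.centralizer (X.1 : Set G) →
      g * u₀ * g⁻¹ ∈ Subgroup.centralizer ((g • X).1 : Set G) := fun X hX => by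
    refine Subgroup.mem_centralizer_iff.2 fun a ha => ?_
    have h1 := Subgroup.mem_centralizer_iff.1 hX _ (mem_smul.1 ha)
    calc a * (g * u₀ * g⁻¹) = g * (g⁻¹ * a * g * u₀) * g⁻¹ := by group
      _ = g * (u₀ * (g⁻¹ * a * g)) * g⁻¹ := by rw [h1]
      _ = _ := by group
  set u := g * u₀ * g⁻¹ with hu'
  have hu : u * u = 1 := by
    rw [hu', show g * u₀ * g⁻¹ * (g * u₀ * g⁻¹) = g * (u₀ * u₀) * g⁻¹ by group, hu₀, mul_one,
      mul_inv_cancel]
  have hu1 : u ≠ 1 := conj_ne_one hu₀1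
  set B₀ := g • R₀ with hB₀
  have hAB₀ : A ≠ B₀ := by rw [← hg, hB₀, Ne, smul_left_cancel_iff]; exact hPR
  have huA : u ∈ Subgroup.centralizer (A.1 : Set G) := by have := htr P₀ hP₀; rwa [hg] at this
  have huB : u ∈ Subgroup.centralizer (B₀.1 : Set G) := htr R₀ hR₀
  have L₀ := pairs_of_fixed hZ hL hu hu1 huA hAB₀ (fix_of_centralizer huA) (fix_of_centralizer huB)
  obtain ⟨k, hk, hkr, hkA⟩ := exists_fpf_in_line L₀ hAB₀ hr hrA
  obtain ⟨hkl, hkAfix, hkBfix⟩ := mem_lineStab.1 hk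
  have hku : Commute k u := (commute_of_centralizer huA huB hkl).symm
  have hkF : ∀ i : h.Pt, k • i = i → u • i = i := fun i hi =>
    fixed_subset hu hu1 huA hm hr hrm hkAfix hkr hku hkA
      (fun α hα huα => pairs_of_fixed hZ hL hu hu1 huA hα.symm (fix_of_centralizer huA) huα) hi
  -- the number of points
  have hn : Nat.card h.Pt ≡ 2 [MOD r] := by
    have h1 := ncard_modEq_fixed (W := (Set.univ : Set h.Pt)) hr hkr fun _ _ => Set.mem_univ _
    rw [Set.ncard_univ] at h1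
    refine h1.trans ?_
    have hW : {x : h.Pt | x ∈ (Set.univ : Set h.Pt) ∧ k • x = x} = fixW ∅ k := by
      ext x; simp [fixW]
    rw [hW]
    refine fixW_modEq hmP hr hr2 hrm ∅ k (fun c hc => hc.elim) hkr ?_ ?_ ?_
    · intro γ hγ e he he1 hce
      by_cases hγA : γ = A
      · exact hkA e (hγA ▸ he) he1 hce
      · have hLγ := pairs_of_fixed hZ hL hu hu1 huA hγA (hkF γ hγ.1) (fix_of_centralizer huA)
        have h2 := (hLγ.centralizes_of_commute hγA (hmP γ) hr hrm hkAfix hkr he he1 hce).2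
        obtain ⟨a, ha, ha1⟩ := exists_ne_one A
        exact hkA a ha ha1 (Subgroup.mem_centralizer_iff.1 h2 a ha).symm
    · intro γ hγ δ hδ hne
      exact pairs_of_fixed hZ hL hu hu1 huA hne (hkF γ hγ.1) (hkF δ hδ.1)
    · exact (Set.one_lt_ncard (Set.toFinite _)).2
        ⟨A, ⟨hkAfix, fun c hc => hc.elim⟩, B₀, ⟨hkBfix, fun c hc => hc.elim⟩, hAB₀⟩
  have hfixS : ∀ S : Subgroup G, IsPGroup r S →
      {P : h.Pt | ∀ x ∈ S, x • P = P}.ncard % r = 2 := fun S hS => by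
    have h1 := ((fixedPoints_modEq (h := h) hr hS).symm.trans hn)
    rwa [Nat.ModEq, Nat.mod_eq_of_lt (show 2 < r by omega)] at h1
  -- an element of `r`-power order inverted by a swapper of the generating pair
  obtain ⟨a₀, ha₀, ha₀1⟩ := exists_ne_one A
  obtain ⟨b₀, hb₀, hb₀1⟩ := exists_ne_one I
  obtain ⟨f, hf, -, -⟩ := swp_surj hAI ha₀ ha₀1 hb₀ hb₀1
  have hff : f * f = 1 := h.sq f hf.1
  obtain ⟨R, hRO, hRp, hRinv, hRidx, -⟩ := exists_invariant_sylow (r := r)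
    (odd_card_oddOf (pairStab A I)) hff fun x hx => conj_mem_oddOf (swp_mem_pairStab hf) hx
  obtain ⟨y, hyR, hyf⟩ : ∃ y ∈ R, y⁻¹ * f * y ≠ f := by
    by_contra hall
    push Not at hall
    apply hRidx
    set O := pairCore A I
    let C : Subgroup O := (Subgroup.centralizer {f}).subgroupOf O
    have hRC : R.subgroupOf O ≤ C := fun x hx => by
      rw [Subgroup.mem_subgroupOf, Subgroup.mem_centralizer_singleton_iff]
      have h1 := hall _ hx
      rw [mul_assoc, inv_mul_eq_iff_eq_mul] at h1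
      exact h1.symm
    refine dvd_trans ?_ (Subgroup.index_dvd_of_le hRC)
    suffices C.index = (swp A I).ncard by
      rw [this, swp_ncard hAI, sharp_ncard, hmP I]; exact hrd
    rw [← Nat.card_coe_set_eq, Subgroup.index]
    have hwd : ∀ x y : O, x⁻¹ * y ∈ C ↔
        (x : G) * f * (x : G)⁻¹ = (y : G) * f * (y : G)⁻¹ := fun x y => by
      rw [Subgroup.mem_subgroupOf, Subgroup.mem_centralizer_singleton_iff]
      simp only [Subgroup.coe_mul, Subgroup.coe_inv]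
      constructor
      · intro e
        calc (x : G) * f * (x : G)⁻¹ = x * (f * ((x : G)⁻¹ * y)) * (y : G)⁻¹ := by group
          _ = x * (((x : G)⁻¹ * y) * f) * (y : G)⁻¹ := by rw [e]
          _ = _ := by group
      · intro e
        calc (x : G)⁻¹ * y * f = (x : G)⁻¹ * ((y : G) * f * (y : G)⁻¹) * y := by group
          _ = (x : G)⁻¹ * ((x : G) * f * (x : G)⁻¹) * y := by rw [e]
          _ = _ := by group
    refine Nat.card_congr (Equiv.ofBijective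
      (Quotient.lift (fun x : O => (⟨(x : G) * f * (x : G)⁻¹, ?_⟩ : swp A I)) ?_) ⟨?_, ?_⟩)
    · have h1 := swp_conj (g := (x : G)) hf
      rwa [(pairCore_fix hAI x.2).1, (pairCore_fix hAI x.2).2] at h1
    · intro x y hxy
      exact Subtype.ext ((hwd x y).1 (QuotientGroup.leftRel_apply.1 hxy))
    · intro x y
      induction x using Quotient.inductionOn with | _ x => ?_
      induction y using Quotient.inductionOn with | _ y => ?_
      exact fun e => Quotient.sound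
        (QuotientGroup.leftRel_apply.2 ((hwd x y).2 (congrArg Subtype.val e)))
    · rintro ⟨f', hf'⟩
      obtain ⟨z, hz, -, hzf⟩ := swp_exists_conj hAI hf hf'
      exact ⟨Quotient.mk'' (⟨z, hz⟩⁻¹ : O), Subtype.ext (by simpa using hzf)⟩
  set f' := y⁻¹ * f * y with hf'def
  have hyA := pairCore_fix hAI (hRO hyR)
  have hf' : f' ∈ swp A I := by
    have h1 := swp_conj (g := y⁻¹) hf
    rwa [inv_inv, inv_smul_eq_iff.2 hyA.1.symm, inv_smul_eq_iff.2 hyA.2.symm] at h1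
  set a := f * f' with ha
  have haR : a ∈ R := by
    have e : a = f * y⁻¹ * f⁻¹ * y := by rw [ha, hf'def, h.inv_eq hf.1]; group
    rw [e]
    exact mul_mem (hRinv _ (inv_mem hyR)) hyR
  have har : ∃ i, a ^ r ^ i = 1 := by
    obtain ⟨i, hi⟩ := hRp ⟨a, haR⟩
    exact ⟨i, by simpa using congrArg Subtype.val hi⟩
  have haA : a • A = A := (pairCore_fix hAI (hRO haR)).1
  have haI : a • I = I := (pairCore_fix hAI (hRO haR)).2
  have hainv : f * a * f⁻¹ = a⁻¹ := by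
    rw [ha, mul_inv_rev, h.inv_eq hf.1, h.inv_eq hf'.1, ← mul_assoc, hff, one_mul]
  have ha1 : a ≠ 1 := fun e => hyf (by
    rw [ha, mul_eq_one_iff_inv_eq, h.inv_eq hf.1] at e
    exact e.symm)
  have hanc : a ∉ Subgroup.centralizer (A.1 : Set G) := fun hc => hyf (by
    refine swp_eq hAI ha₀ ha₀1 hf' hf ?_
    have h1 := Subgroup.mem_centralizer_iff.1 hc a₀ ha₀
    calc f' * a₀ * f' = f * (a * a₀) * f' := by
          rw [ha]; simp only [← mul_assoc]; rw [hff, one_mul]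
      _ = f * (a₀ * a) * f' := by rw [h1]
      _ = f * a₀ * f := by
          rw [ha]; simp only [mul_assoc]; rw [h.sq f' hf'.1, mul_one])
  have hasq : a⁻¹ ≠ a := fun e => ha1 (eq_of_sq_eq (hodd a har) (by simp) (by
    rw [one_mul]; nth_rw 1 [← e]; rw [inv_mul_cancel]))
  -- a line through `A` containing the action of `a`
  set H := MulAction.stabilizer G A with hH
  obtain ⟨S₁⟩ := (inferInstance : Nonempty (Sylow r H))
  have hpa : IsPGroup r (Subgroup.zpowers (⟨a, haA⟩ : H)) := by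
    obtain ⟨i, hi⟩ := har
    obtain ⟨j, -, hj⟩ := (Nat.dvd_prime_pow hr).1 (orderOf_dvd_of_pow_eq_one hi)
    exact IsPGroup.of_card (n := j) (by rw [Nat.card_zpowers]; exact (orderOf_injective H.subtype H.subtype_injective _).symm.trans hj)
  obtain ⟨S, hS⟩ := hpa.exists_le_sylow
  obtain ⟨B, hB, hAB⟩ : ∃ B : h.Pt, (∀ x ∈ (S : Subgroup H), (x : G) • B = B) ∧ A ≠ B := by
    by_contra hnone
    push Not at hnone
    have h1 := hfixS _ (S.2.map H.subtype)
    have he : {P : h.Pt | ∀ x ∈ (S : Subgroup H).map H.subtype, x • P = P} = {A} := by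
      ext P
      refine ⟨fun hP => (hnone P fun x hx => hP x ⟨x, hx, rfl⟩).symm, ?_⟩
      rintro rfl x ⟨y, -, rfl⟩
      exact y.2
    rw [he, Set.ncard_singleton, Nat.mod_eq_of_lt (by omega)] at h1
    omega
  have hpk : IsPGroup r (Subgroup.zpowers (⟨k, hkAfix⟩ : H)) := by
    obtain ⟨i, hi⟩ := hkr
    obtain ⟨j, -, hj⟩ := (Nat.dvd_prime_pow hr).1 (orderOf_dvd_of_pow_eq_one hi)
    exact IsPGroup.of_card (n := j) (by rw [Nat.card_zpowers]; exact (orderOf_injective H.subtype H.subtype_injective _).symm.trans hj)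
  obtain ⟨S₂, hS₂⟩ := hpk.exists_le_sylow
  obtain ⟨c, hc⟩ := MulAction.exists_smul_eq H S₂ S
  have hk₁ : ((c : G) * k * (c : G)⁻¹) • B = B := by
    refine hB ⟨_, ?_⟩ ?_
    · exact H.mul_mem (H.mul_mem c.2 hkAfix) (H.inv_mem c.2)
    · rw [← hc]
      exact ⟨⟨k, hkAfix⟩, hS₂ (Subgroup.mem_zpowers _), rfl⟩
  set k₁ := (c : G) * k * (c : G)⁻¹ with hk₁def
  set u₁ := (c : G) * u * (c : G)⁻¹ with hu₁def
  have hu₁ : u₁ * u₁ = 1 := by
    rw [hu₁def, show (c : G) * u * (c : G)⁻¹ * (c * u * (c : G)⁻¹) = c * (u * u) * (c : G)⁻¹ by group,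
      hu, mul_one, mul_inv_cancel]
  have hu₁1 : u₁ ≠ 1 := conj_ne_one hu1
  have hu₁A : u₁ ∈ Subgroup.centralizer (A.1 : Set G) := Subgroup.mem_centralizer_iff.2 fun x hx => by
    have hx' : (c : G)⁻¹ * x * c ∈ A := by
      have h1 := conj_mem_of_fix (H.inv_mem c.2 : (c : G)⁻¹ • A = A) hx
      rwa [inv_inv] at h1
    have h1 := Subgroup.mem_centralizer_iff.1 huA _ hx'
    calc x * u₁ = c * ((c : G)⁻¹ * x * c * u) * (c : G)⁻¹ := by rw [hu₁def]; group
      _ = c * (u * ((c : G)⁻¹ * x * c)) * (c : G)⁻¹ := by rw [h1]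
      _ = _ := by rw [hu₁def]; group
  have hk₁u₁ : Commute k₁ u₁ := (Commute.conj_iff (c : G)).2 hku
  have hk₁A : k₁ • A = A := by
    rw [hk₁def, mul_smul, mul_smul, (H.inv_mem c.2 : (c : G)⁻¹ • A = A), hkAfix]; exact c.2
  have hk₁fpf : Fpf A k₁ := fun e he he1 hce => by
    refine hkA ((c : G)⁻¹ * e * c) ?_ ?_ ?_
    · have h1 := conj_mem_of_fix (H.inv_mem c.2 : (c : G)⁻¹ • A = A) he
      rwa [inv_inv] at h1
    · simpa using conj_ne_one (g := (c : G)⁻¹) he1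
    · have h1 := (Commute.conj_iff (c : G)⁻¹).2 hce
      rw [inv_inv, hk₁def, show (c : G)⁻¹ * (c * k * (c : G)⁻¹) * c = k by group] at h1
      exact h1
  have hk₁r : ∃ i, k₁ ^ r ^ i = 1 := by
    obtain ⟨i, hi⟩ := hkr
    exact ⟨i, by rw [hk₁def, conj_pow, hi, mul_one, mul_inv_cancel]⟩
  have hL₁ : ∀ α : h.Pt, α ≠ A → u₁ • α = α → LineFacts A α := fun α hα huα =>
    pairs_of_fixed hZ hL hu₁ hu₁1 hu₁A hα.symm (fix_of_centralizer hu₁A) huα
  have hu₁B : u₁ • B = B :=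
    fixed_subset hu₁ hu₁1 hu₁A hm hr hrm hk₁A hk₁r hk₁u₁ hk₁fpf hL₁ hk₁
  have hu₁Bc := centralizes_of_involution hu₁ hu₁A hu₁B
  have L₁ := hL₁ B hAB.symm hu₁B
  obtain ⟨k₂, hk₂, hk₂r, hak₂, hd₂, -⟩ := L₁.exists_line_part hAB hm hr hrm haA
    (hB _ (hS (Subgroup.mem_zpowers _))) har
  obtain ⟨hk₂l, hk₂A, hk₂B⟩ := mem_lineStab.1 hk₂
  have hk₂nc : k₂ ∉ Subgroup.centralizer (A.1 : Set G) := fun hc' => hanc (by
    have h1 := mul_mem hd₂ hc'
    rwa [inv_mul_cancel_right] at h1)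
  have hk₂fpf : Fpf A k₂ := fpf_of_torus L₁ hAB hk₂ hk₂nc
  have hk₂u₁ : Commute k₂ u₁ := (commute_of_centralizer hu₁A hu₁Bc hk₂l).symm
  have hafpf : Fpf A a := fun e he he1 hce => by
    have h1 : Commute (a * k₂⁻¹) e := (Subgroup.mem_centralizer_iff.1 hd₂ e he).symm
    have h2 := h1.inv_left.mul_left hce
    rw [show (a * k₂⁻¹)⁻¹ * a = k₂ by group] at h2
    exact hk₂fpf e he he1 h2
  -- the normaliser of `⟨a⟩`
  let Na : Subgroup G :=
    { carrier := {x | x * a * x⁻¹ = a ∨ x * a * x⁻¹ = a⁻¹}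
      one_mem' := Or.inl (by simp)
      mul_mem' := fun {x z} hx hz => by
        have e : x * z * a * (x * z)⁻¹ = x * (z * a * z⁻¹) * x⁻¹ := by group
        rcases hz with hz | hz
        · rw [Set.mem_ofPred_eq, e, hz]; exact hx
        · have e2 : x * a⁻¹ * x⁻¹ = (x * a * x⁻¹)⁻¹ := by group
          rcases hx with hx | hx
          · right; rw [e, hz, e2, hx]
          · left; rw [e, hz, e2, hx, inv_inv]
      inv_mem' := fun {x} hx => by
        rcases hx with hx | hx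
        · left
          conv_lhs => rw [← hx]
          group
        · right
          calc x⁻¹ * a * x⁻¹⁻¹ = x⁻¹ * (x * a * x⁻¹)⁻¹ * x := by rw [hx, inv_inv, inv_inv]
            _ = a⁻¹ := by group }
  have hfN : f ∈ Na := Or.inr hainv
  have haN : a ∈ Na := Or.inl (by rw [mul_inv_cancel_right])
  have hkN : k₂ ∈ Na := Or.inl (mul_inv_eq_iff_eq_mul.2 hak₂.eq.symm)
  have hiso : ∀ x ∈ Na, Commute f (x * f * x⁻¹) → x * f * x⁻¹ = f := by
    intro x hx hcx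
    by_contra hne
    set f₁ := x * f * x⁻¹ with hf₁
    have hf₁D : f₁ ∈ D := h.conj x f hf.1
    have hf₁N : f₁ ∈ Na := mul_mem (mul_mem hx hfN) (inv_mem hx)
    set d := f * f₁ with hd
    have hdD : d ∈ D := h.mul f hf.1 f₁ hf₁D hcx (Ne.symm hne)
    have hda : d * a * d⁻¹ = a := by
      calc d * a * d⁻¹ = f * (f₁ * a * f₁⁻¹) * f⁻¹ := by rw [hd]; group
        _ = (f * a * f⁻¹)⁻¹ := by rw [hf₁, inverts_conj hx hainv]; group
        _ = a := by rw [hainv, inv_inv]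
    have hdc : Commute a d := (mul_inv_eq_iff_eq_mul.1 hda).symm
    set α := h.pt hdD
    have hfα : f ∈ α := (mem_iff_commute (mem_pt hdD) (h.ne d hdD) hf.1).2
      ((Commute.refl f).mul_right hcx)
    have haα : a • α = α := fix_of_commute (mem_pt hdD) (h.ne d hdD) hdc
    have h1 : Commute (a * f * a⁻¹) f := commute_mem (conj_mem_of_fix haα hfα) hfα
    have h2 : a * f * a⁻¹ ∈ swp A I := by
      have h3 := swp_conj (g := a) hf
      rwa [haA, haI] at h3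
    have h4 := swp_eq_of_commute hAI hf h2 h1.symm
    refine hasq ?_
    calc a⁻¹ = f * a * f⁻¹ := hainv.symm
      _ = a := by rw [← mul_inv_eq_iff_eq_mul.1 h4.symm, mul_inv_cancel_right]
  -- the group `M`
  set O := oddOf Na with hO
  have hOc : ∀ x ∈ O, Commute x a := by
    intro x hx
    refine mul_inv_eq_iff_eq_mul.1 ?_
    rcases (oddOf_le Na hx : x ∈ Na) with e | e
    · exact e
    · exfalso
      have h2 : Commute (x * x) a := mul_inv_eq_iff_eq_mul.1 (by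
        calc x * x * a * (x * x)⁻¹ = x * (x * a * x⁻¹) * x⁻¹ := by group
          _ = x * a⁻¹ * x⁻¹ := by rw [e]
          _ = (x * a * x⁻¹)⁻¹ := by group
          _ = a := by rw [e, inv_inv])
      have h3 : Commute x a := by
        have h4 := h2.pow_left ((orderOf (x * x) + 1) / 2)
        rwa [← sqrtOdd, sqrtOdd_sq (odd_orderOf_oddOf hx)] at h4
      exact hasq (by rw [← e, h3.eq, mul_inv_cancel_right])
  set K := Subgroup.zpowers a ⊔ Subgroup.zpowers k₂ with hK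
  have hKp : IsPGroup r K := by
    have hp : ∀ x : G, (∃ i, x ^ r ^ i = 1) → IsPGroup r (Subgroup.zpowers x) := fun x ⟨i, hi⟩ => by
      obtain ⟨j, -, hj⟩ := (Nat.dvd_prime_pow hr).1 (orderOf_dvd_of_pow_eq_one hi)
      exact IsPGroup.of_card (n := j) (by rw [Nat.card_zpowers, hj])
    refine IsPGroup.to_sup_of_normal_left' (hp a har) (hp k₂ hk₂r) ?_
    refine (Subgroup.zpowers_le.2 (Subgroup.mem_centralizer_iff.2 ?_)).trans
      (Subgroup.centralizer_le_normalizer _)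
    intro z hz
    obtain ⟨i, rfl⟩ := Subgroup.mem_zpowers_iff.1 hz
    exact (hak₂.zpow_left i).eq
  have haK : a ∈ K := Subgroup.mem_sup_left (Subgroup.mem_zpowers _)
  have hk₂K : k₂ ∈ K := Subgroup.mem_sup_right (Subgroup.mem_zpowers _)
  have hKN : K ≤ Na := sup_le (Subgroup.zpowers_le.2 haN) (Subgroup.zpowers_le.2 hkN)
  have hKnO : K ≤ Subgroup.normalizer (O : Set G) :=
    Subgroup.le_normalizer_iff.2 fun x hx z hz => conj_mem_oddOf (hKN hx) hz
  set M := O ⊔ K with hM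
  have hMa : ∀ x ∈ M, Commute x a := by
    have h1 : M ≤ Subgroup.centralizer {a} := sup_le
      (fun x hx => Subgroup.mem_centralizer_singleton_iff.2 (hOc x hx).eq)
      (sup_le (Subgroup.zpowers_le.2 (Subgroup.mem_centralizer_singleton_iff.2 rfl))
        (Subgroup.zpowers_le.2 (Subgroup.mem_centralizer_singleton_iff.2 hak₂.eq.symm)))
    exact fun x hx => Subgroup.mem_centralizer_singleton_iff.1 (h1 hx)
  have hMN : M ≤ Na := sup_le (oddOf_le _) hKN
  have hMo : Odd (Nat.card M) := by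
    by_contra heven
    rw [Nat.not_odd_iff_even, even_iff_two_dvd] at heven
    have : Fact (Nat.Prime 2) := ⟨Nat.prime_two⟩
    obtain ⟨⟨x, hx⟩, hx2⟩ := exists_prime_orderOf_dvd_card' (G := M) 2 heven
    rw [Subgroup.orderOf_mk] at hx2
    have hx' : x ∈ (O : Set G) * (K : Set G) := by
      rw [← Subgroup.coe_mul_of_right_le_normalizer_left O K hKnO]; exact hx
    obtain ⟨o, ho, z, hz, rfl⟩ := Set.mem_mul.1 hx'
    have hpow : ∀ n : ℕ, (o * z) ^ n * (z ^ n)⁻¹ ∈ O := fun n => by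
      induction n with
      | zero => simp [O.one_mem]
      | succ n ih =>
        rw [show (o * z) ^ (n + 1) * (z ^ (n + 1))⁻¹ = o * (z * ((o * z) ^ n * (z ^ n)⁻¹) * z⁻¹) by
          rw [pow_succ' (o * z), pow_succ' z]; group]
        exact O.mul_mem ho (conj_mem_oddOf (hKN hz) ih)
    obtain ⟨i, hi⟩ := hKp ⟨z, hz⟩
    have hi' : z ^ r ^ i = 1 := by simpa using congrArg Subtype.val hi
    have h1 := hpow (r ^ i)
    rw [hi', inv_one, mul_one] at h1
    have h2 := odd_orderOf_oddOf h1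
    rw [Nat.Coprime.orderOf_pow (by rw [hx2]; exact Nat.coprime_two_left.2 ((hr.odd_of_ne_two hr2).pow)),
      hx2] at h2
    exact Nat.not_odd_iff_even.2 even_two h2
  have hfM : ∀ x ∈ M, f * x * f⁻¹ ∈ M := by
    have h1 : M ≤ M.comap (MulAut.conj f).toMonoidHom := by
      refine sup_le (fun x hx => Subgroup.mem_sup_left (conj_mem_oddOf hfN hx))
        (sup_le (Subgroup.zpowers_le.2 ?_) (Subgroup.zpowers_le.2 ?_))
      · show f * a * f⁻¹ ∈ M
        rw [hainv]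
        exact inv_mem (Subgroup.mem_sup_right haK)
      · show f * k₂ * f⁻¹ ∈ M
        have h2 := commutator_mem_oddOf hfN hff (h.ne f hf.1) hiso hkN
        rw [show f * k₂ * f⁻¹ = f * k₂ * f⁻¹ * k₂⁻¹ * k₂ by group]
        exact M.mul_mem (Subgroup.mem_sup_left h2) (Subgroup.mem_sup_right hk₂K)
    exact fun x hx => h1 hx
  obtain ⟨Sm, hSmM, hSmp, hSminv, -, hSmconj⟩ := exists_invariant_sylow (r := r) hMo hff hfM
  obtain ⟨c₂, hc₂, hKc⟩ := hSmconj K (le_sup_right) hKp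
  set g₀ := c₂⁻¹ * f * c₂ with hg₀
  have hg₀D : g₀ ∈ D := by simpa [hg₀] using h.conj c₂⁻¹ f hf.1
  have hc₂a : Commute c₂ a := hMa c₂ hc₂
  have hg₀a : g₀ * a * g₀⁻¹ = a⁻¹ := by
    have h1 := inverts_conj (x := c₂⁻¹)
      (Or.inl (mul_inv_eq_iff_eq_mul.2 hc₂a.inv_left.eq)) hainv
    rwa [inv_inv] at h1
  set S₀ : Subgroup G := Sm.comap (MulAut.conj c₂).toMonoidHom with hS₀
  have hS₀mem : ∀ x, x ∈ S₀ ↔ c₂ * x * c₂⁻¹ ∈ Sm := fun x => Iff.rfl
  have hS₀p : IsPGroup r S₀ := hSmp.comap_of_injective _ (MulAut.conj c₂).injective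
  have hS₀a : a ∈ S₀ := (hS₀mem a).2 (hKc a haK)
  have hS₀k : k₂ ∈ S₀ := (hS₀mem k₂).2 (hKc k₂ hk₂K)
  have hS₀g : ∀ x ∈ S₀, g₀⁻¹ * x * g₀ ∈ S₀ := fun x hx => by
    rw [hS₀mem] at hx ⊢
    have h1 := hSminv _ hx
    have e : c₂ * (g₀⁻¹ * x * g₀) * c₂⁻¹ = f⁻¹ * (c₂ * x * c₂⁻¹) * f := by rw [hg₀]; group
    rw [e, h.inv_eq hf.1]
    rwa [h.inv_eq hf.1] at h1
  set F₀ := {P : h.Pt | ∀ x ∈ S₀, x • P = P} with hF₀
  have hF₀u : ∀ P ∈ F₀, u₁ • P = P := fun P hP =>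
    fixed_subset hu₁ hu₁1 hu₁A hm hr hrm hk₂A hk₂r hk₂u₁ hk₂fpf hL₁ (hP k₂ hS₀k)
  obtain ⟨γ, hγ⟩ : F₀.Nonempty := by
    by_contra hempty
    rw [Set.not_nonempty_iff_eq_empty] at hempty
    have h1 := hfixS S₀ hS₀p
    rw [← hF₀, hempty, Set.ncard_empty, Nat.zero_mod] at h1
    omega
  have hδ : g₀ • γ ∈ F₀ := fun x hx => by
    have h1 := hγ _ (hS₀g x hx)
    rw [mul_smul, mul_smul, inv_smul_eq_iff] at h1
    exact h1
  have hne : γ ≠ g₀ • γ := by
    intro e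
    have hgm : g₀ ∈ γ := (D_fix_iff hg₀D).1 e.symm
    have h1 : Commute (a * g₀ * a⁻¹) g₀ :=
      commute_mem (conj_mem_of_fix (hγ a hS₀a) hgm) hgm
    have h2 : Commute f (c₂ * a * c₂⁻¹ * f * (c₂ * a * c₂⁻¹)⁻¹) := by
      have h3 := (Commute.conj_iff c₂).2 h1.symm
      rwa [show c₂ * g₀ * c₂⁻¹ = f by rw [hg₀]; group,
        show c₂ * (a * g₀ * a⁻¹) * c₂⁻¹ = c₂ * a * c₂⁻¹ * f * (c₂ * a * c₂⁻¹)⁻¹ by
          rw [hg₀]; group] at h3
    rw [show c₂ * a * c₂⁻¹ = a by rw [hc₂a.eq, mul_inv_cancel_right]] at h2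
    have h4 := hiso a haN h2
    refine hasq ?_
    calc a⁻¹ = f * a * f⁻¹ := hainv.symm
      _ = a := by rw [← mul_inv_eq_iff_eq_mul.1 h4, mul_inv_cancel_right]
  have hu₁γ := centralizes_of_involution hu₁ hu₁A (hF₀u γ hγ)
  have hu₁δ := centralizes_of_involution hu₁ hu₁A (hF₀u _ hδ)
  have L₃ := pairs_of_fixed hZ hL hu₁ hu₁1 hu₁A hne (hF₀u γ hγ) (hF₀u _ hδ)
  obtain ⟨k₃, hk₃, hk₃r, hak₃, hd₃, hd₃'⟩ :=
    L₃.exists_line_part hne (hmP γ) hr hrm (hγ a hS₀a) (hδ a hS₀a) har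
  obtain ⟨hk₃l, -, -⟩ := mem_lineStab.1 hk₃
  set l := line γ (g₀ • γ) with hl
  have hg₀l : g₀ ∈ l := swp_le_sup hne ⟨hg₀D, rfl⟩
  set d₃ := a * k₃⁻¹ with hd₃def
  have hd₃g : Commute d₃ g₀ := commute_of_centralizer hd₃ hd₃' hg₀l
  have hd₃o : Odd (orderOf d₃) := by
    obtain ⟨i, hi⟩ := har
    obtain ⟨j, hj⟩ := hk₃r
    refine hodd _ ⟨i + j, ?_⟩
    rw [hd₃def, hak₃.inv_right.mul_pow, pow_add, pow_mul, hi, one_pow, inv_pow, mul_comm (r ^ i),
      pow_mul, hj, one_pow, inv_one, one_mul]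
  have hd₃k : Commute d₃ k₃ := hak₃.mul_left (Commute.refl k₃).inv_left
  have hd₃l : d₃ * d₃ ∈ l := by
    have hea : a = d₃ * k₃ := by rw [hd₃def, inv_mul_cancel_right]
    have hmem : g₀ * k₃ * g₀⁻¹ ∈ l := mul_mem (mul_mem hg₀l hk₃l) (inv_mem hg₀l)
    have e : g₀ * a * g₀⁻¹ = d₃ * (g₀ * k₃ * g₀⁻¹) := by
      rw [hea]
      calc g₀ * (d₃ * k₃) * g₀⁻¹ = (g₀ * d₃) * k₃ * g₀⁻¹ := by group
        _ = _ := by rw [← hd₃g.eq]; group
    rw [hg₀a, hea] at e
    have e2 : d₃ * d₃ = k₃⁻¹ * (g₀ * k₃ * g₀⁻¹)⁻¹ := by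
      have e3 : d₃⁻¹ * k₃⁻¹ = d₃ * (g₀ * k₃ * g₀⁻¹) := by
        rw [← mul_inv_rev, ← hd₃k.eq]; exact e
      calc d₃ * d₃ = d₃ * (d₃ * (g₀ * k₃ * g₀⁻¹)) * (g₀ * k₃ * g₀⁻¹)⁻¹ := by group
        _ = _ := by rw [← e3]; group
    rw [e2]
    exact mul_mem (inv_mem hk₃l) (inv_mem hmem)
  have hal : a ∈ l := by
    have h1 : d₃ ∈ l := by
      rw [← sqrtOdd_sq hd₃o, sqrtOdd]
      exact pow_mem hd₃l _
    have h2 := mul_mem h1 hk₃l
    rwa [hd₃def, inv_mul_cancel_right] at h2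
  have hau₁ : Commute a u₁ := (commute_of_centralizer hu₁γ hu₁δ hal).symm
  have hu₁I : u₁ • I = I :=
    fixed_subset hu₁ hu₁1 hu₁A hm hr hrm haA har hau₁ hafpf hL₁ haI
  exact hu₁1 (eq_one_of_centralizes_gen hgen hZ hu₁A (centralizes_of_involution hu₁ hu₁A hu₁I))

end Cfsg.Agent.Lib.OddTransp84.Core.Conf
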