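import Cfsg.Agent.Lib.OddTransp84.Core.Shell
import Cfsg.Agent.Lib.Involutions.IndexTwo

/-!
# Configurations without even pairs: every involution fixes one point
-/

set_option autoImplicit false

namespace Cfsg.Agent.Lib.OddTransp84.Core.Conf

open MulAction

universe u

variable {G : Type u} [Group G] [Finite G] {D : Set G} {h : Conf D}

/-- Elements of 2-power order fixing two points lie in every subgroup of index two of the stabiliser
of one of them. -/
lemma mem_of_index_two (hF : Full h) {P R : h.Pt} (hne : P ≠ R) {K : Subgroup (stabilizer G P)}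
    (hK : K.index = 2) {x : G} (hP : x • P = P) (hR : x • R = R) (hx : ∃ i, x ^ 2 ^ i = 1) :
    (⟨x, hP⟩ : stabilizer G P) ∈ K := by
  have : K.Normal := Subgroup.normal_of_index_eq_two hK
  have hcard : Nat.card (stabilizer G P ⧸ K) = 2 := hK
  have : Fact (Nat.Prime 2) := ⟨Nat.prime_two⟩
  have : IsCyclic (stabilizer G P ⧸ K) := isCyclic_of_prime_card hcard
  let : CommGroup (stabilizer G P ⧸ K) := IsCyclic.commGroup
  have hA : ∀ a : stabilizer G P ⧸ K, a * a = 1 := fun a => by
    have h1 : a ^ Nat.card (stabilizer G P ⧸ K) = 1 := pow_card_eq_one'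
    rwa [hcard, pow_two] at h1
  exact (QuotientGroup.eq_one_iff _).1
    (hom_stab_eq_one (hom_eq_one (h := h) hF.gen hF.two) (QuotientGroup.mk' K) hA hP hR hne hx)

/-- `q₀ = 2` is impossible. -/
lemma one_false (hF : Full h) (hN : NoEven h) {P R : h.Pt} {v : G} (b : Bad P R v)
    (hc : (fixd P {v}).ncard = 1) : False := by
  classical
  let _ : MulAction (stabilizer G P) (sharp P) :=
    { smul := fun g a => ⟨(g : G) * a * (g : G)⁻¹, conj_mem_of_fix g.2 a.2.1, conj_ne_one a.2.2⟩
      one_smul := fun a => Subtype.ext (show (1 : G) * a * (1 : G)⁻¹ = a by simp)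
      mul_smul := fun g k a => Subtype.ext
        (show (g : G) * k * a * ((g : G) * k)⁻¹ = g * (k * a * (k : G)⁻¹) * (g : G)⁻¹ by group) }
  have : Fintype (sharp P) := Fintype.ofFinite _
  let χ : stabilizer G P →* ℤˣ :=
    Equiv.Perm.sign.comp (MulAction.toPermHom (stabilizer G P) (sharp P))
  have hv : χ ⟨v, b.left⟩ = -1 := by
    refine Equiv.Perm.IsSwap.sign_eq (Equiv.Perm.card_support_eq_two.1 ?_)
    set σ := MulAction.toPermHom (stabilizer G P) (sharp P) ⟨v, b.left⟩ with hσ
    have hfix : (σ.supportᶜ : Finset (sharp P)).card = 1 := by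
      rw [← hc, ← Set.ncard_coe_finset, ← Set.ncard_image_of_injective _ Subtype.val_injective]
      congr 1
      ext x
      simp only [Finset.coe_compl, Set.mem_image, Set.mem_compl_iff, Finset.mem_coe,
        Equiv.Perm.mem_support, not_not]
      constructor
      · rintro ⟨a, ha, rfl⟩
        refine ⟨a.2.1, a.2.2, ?_⟩
        intro w hw
        rw [Set.mem_singleton_iff.1 hw]
        exact mul_inv_eq_iff_eq_mul.1 (congrArg Subtype.val ha)
      · intro hx
        exact ⟨⟨x, hx.1, hx.2.1⟩, Subtype.ext (mul_inv_eq_iff_eq_mul.2 (hx.2.2 v rfl).eq), rfl⟩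
    have h3 : Fintype.card (sharp P) = 3 := by
      rw [← Nat.card_eq_fintype_card, Nat.card_coe_set_eq, sharp_ncard, b.card_eq hN, hc]
      rfl
    rw [Finset.card_compl, h3] at hfix
    have := σ.support.card_le_univ
    omega
  have h1 := hom_stab_eq_one (hom_eq_one (h := h) hF.gen hF.two) χ Int.units_mul_self b.left b.right
    b.ne ⟨1, by rw [pow_one, pow_two, b.sq]⟩
  rw [hv] at h1
  exact absurd h1 (by decide)

/-- `n = q + 1` is impossible. -/
lemma linear_false (hF : Full h) (hN : NoEven h) {P R : h.Pt} {v : G} (b : Bad P R v)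
    (hn : Nat.card h.Pt = Nat.card P.1 + 1) : False := by
  classical
  have : Fact (Nat.Prime 2) := ⟨Nat.prime_two⟩
  have hreg : ∀ γ : h.Pt, γ ≠ P → ∃ a, a ∈ P ∧ a • R = γ := by
    have himg : (fun a : G => a • R) '' (P.1 : Set G) = {γ : h.Pt | γ ≠ P} := by
      refine Set.eq_of_subset_of_ncard_le ?_ ?_ (Set.toFinite _)
      · rintro _ ⟨a, ha, rfl⟩ e
        exact b.ne ((smul_left_cancel a (e.trans (fix_of_mem ha).symm)) : R = P).symm
      · rw [Set.ncard_image_of_injOn]
        · have e : {γ : h.Pt | γ ≠ P} = {P}ᶜ := by ext; simp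
          rw [e, Set.ncard_compl, Set.ncard_singleton, hn, ← SetLike.coe_sort_coe,
            Nat.card_coe_set_eq]
          omega
        · intro a ha a' ha' e
          by_contra hne
          have hfix : (a'⁻¹ * a) • R = R := by
            rw [mul_smul, show a • R = a' • R from e, inv_smul_smul]
          have hm : a'⁻¹ * a ∈ P := mul_mem_pt (P.1.inv_mem ha') ha
          have h1 : a'⁻¹ * a ≠ 1 := fun e' => hne (inv_mul_eq_one.1 e').symm
          exact b.ne (D_fix_unique (mem_D hm h1) (fix_of_mem hm) hfix)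
    intro γ hγ
    obtain ⟨a, ha, e⟩ := (himg.symm ▸ hγ : γ ∈ (fun a : G => a • R) '' (P.1 : Set G))
    exact ⟨a, ha, e⟩
  set H₂ := stabilizer G P ⊓ stabilizer G R with hH₂
  set ρ : H₂ →* (act P).range :=
    ((act P).comp (Subgroup.inclusion inf_le_left)).codRestrict _ fun x => ⟨_, rfl⟩ with hρ
  have hρs : Function.Surjective ρ := by
    rintro ⟨_, g, rfl⟩
    obtain ⟨a, ha, e⟩ := hreg ((g : G) • R) fun e =>
      b.ne ((smul_left_cancel (g : G) (e.trans (show (g : G) • P = P from g.2).symm)) : R = P).symm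
    have hfix : a⁻¹ * g ∈ H₂ := ⟨by
      show (a⁻¹ * g) • P = P
      rw [mul_smul, show (g : G) • P = P from g.2, inv_smul_eq_iff, fix_of_mem ha], by
      show (a⁻¹ * g) • R = R
      rw [mul_smul, ← e, inv_smul_smul]⟩
    refine ⟨⟨_, hfix⟩, Subtype.ext ?_⟩
    show act P (Subgroup.inclusion inf_le_left ⟨a⁻¹ * g, hfix⟩) = act P g
    rw [show Subgroup.inclusion inf_le_left (⟨a⁻¹ * g, hfix⟩ : H₂) =
      (⟨a, fix_of_mem ha⟩ : stabilizer G P)⁻¹ * g from rfl, map_mul, map_inv,
      (act_eq_one_iff (g := ⟨a, fix_of_mem ha⟩)).2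
        (Subgroup.mem_centralizer_iff.2 fun p hp => (commute_mem ha hp).eq.symm), inv_one, one_mul]
  obtain ⟨T⟩ := (inferInstance : Nonempty (Sylow 2 H₂))
  have hTc : IsCyclic (T : Subgroup H₂) :=
    (((T : Subgroup H₂).equivMapOfInjective H₂.subtype H₂.subtype_injective).isCyclic).2
      (isCyclic_two_stab hN b.ne (T.2.map H₂.subtype) (Subgroup.map_subtype_le _))
  have hTA : IsCyclic ((T.mapSurjective hρs : Sylow 2 _) : Subgroup (act P).range) := by
    rw [Sylow.coe_mapSurjective]
    exact isCyclic_of_surjective ((ρ.subgroupMap (T : Subgroup H₂)))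
      (ρ.subgroupMap_surjective _)
  have heven : Even (Nat.card (act P).range) := by
    have h1 : orderOf (ρ ⟨v, b.left, b.right⟩) = 2 := by
      refine orderOf_eq_prime ?_ fun e => b.not_centralizes hN
        ((act_eq_one_iff (g := ⟨v, b.left⟩)).1 (congrArg Subtype.val e))
      rw [← map_pow, show (⟨v, b.left, b.right⟩ : H₂) ^ 2 = 1 from Subtype.ext (by
        rw [SubmonoidClass.coe_pow, pow_two]; exact b.sq), map_one]
    rw [even_iff_two_dvd, ← h1]
    exact orderOf_dvd_natCard _
  obtain ⟨K, hK⟩ := Involutions.IndexTwo.exists_index_two_of_cyclic_sylow heven _ hTA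
  set K' : Subgroup (stabilizer G P) := K.comap (act P).rangeRestrict
  have hK' : K'.index = 2 := by
    rw [Subgroup.index_comap_of_surjective _ (act P).rangeRestrict_surjective, hK]
  have hle : ((T.mapSurjective hρs : Sylow 2 _) : Subgroup (act P).range) ≤ K := by
    rw [Sylow.coe_mapSurjective]
    rintro _ ⟨t, ht, rfl⟩
    obtain ⟨i, hi⟩ := T.2 ⟨t, ht⟩
    have hi' : (t : G) ^ 2 ^ i = 1 := by
      have := congrArg (fun y : (T : Subgroup H₂) => ((y : H₂) : G)) hi
      simpa using this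
    have hm := mem_of_index_two hF b.ne hK' t.2.1 t.2.2 ⟨i, hi'⟩
    exact hm
  have h2 := Subgroup.index_dvd_of_le hle
  rw [hK] at h2
  exact (T.mapSurjective hρs).not_dvd_index h2

variable (hI : BenderOne.PropSplit.{u}) (ih : Below G)
include hI ih

/-- The type at a bad involution: unitary, with its shell. -/
lemma unitary_of_bad (hF : Full h) (hN : NoEven h) {P R : h.Pt} {v : G} (b : Bad P R v) :
    2 ≤ (fixd P {v}).ncard ∧ (fixSet h v).ncard = ((fixd P {v}).ncard + 1) ^ 3 + 1 ∧
      Nat.card h.Pt = ((fixd P {v}).ncard + 1) ^ 3 *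
        ((fixd P {v}).ncard ^ 3 + (fixd P {v}).ncard ^ 2 + (fixd P {v}).ncard + 1) + 1 ∧
      ∃ S : Subgroup G, Shell P v S := by
  have hc : 2 ≤ (fixd P {v}).ncard := by
    by_contra hlt
    have := (b.fixd_odd hN).pos
    exact one_false hF hN b (by omega)
  have C : LCtx h P R v := ⟨hF, hN, b, hc⟩
  obtain ⟨f, Q, hf, hH, hQ2, hinv, hq, hk, hcase⟩ := C.layer_types hI ih
  have hmu := mu hN hF b
  have hkn : (fixSet h v).ncard ≤ Nat.card h.Pt := Set.ncard_le_card _
  rcases hcase with hl | hs | hu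
  · exfalso
    refine linear_false hF hN b ?_
    rw [hl.1, hq] at hk
    rw [hk, Nat.add_sub_cancel] at hmu
    rw [hk] at hkn
    rw [b.card_eq hN]
    generalize (fixd P {v}).ncard = c at *
    have h1 : Nat.card h.Pt - (c + 1 + 1) = c * (c + 1) :=
      Nat.eq_of_mul_eq_mul_left (show 0 < c + 2 by omega) (by rw [hmu]; ring)
    have h2 : (c + 1) ^ 2 = c * (c + 1) + (c + 1) := by ring
    omega
  · exfalso
    rw [hs.1, hq] at hk
    rw [hk, Nat.add_sub_cancel] at hmu
    have hodd := b.fixd_odd hN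
    generalize (fixd P {v}).ncard = c at *
    have h1 : c + 2 ∣ (((c + 1) ^ 2 + 1) * c * (c + 1) ^ 2) := hmu ▸ Dvd.intro _ rfl
    have h2 : c + 2 ∣ (((c + 1) ^ 2 + 1) * c * (c + 1) ^ 2 + 4) :=
      ⟨c ^ 4 + 2 * c ^ 3 + 3 * c ^ 2 + 2, by ring⟩
    have h3 := (Nat.dvd_add_right h1).1 h2
    have h4 := Nat.le_of_dvd (by norm_num) h3
    obtain ⟨j, hj⟩ := hodd
    omega
  · obtain ⟨hQ3, -⟩ := id hu
    rw [hQ3, hq] at hk
    refine ⟨hc, hk, ?_, C.shell_exists hf hH hQ2 hinv hq hu⟩
    rw [hk, Nat.add_sub_cancel] at hmu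
    rw [hk] at hkn
    generalize (fixd P {v}).ncard = c at *
    have h1 : Nat.card h.Pt - ((c + 1) ^ 3 + 1) = (c ^ 2 + c + 1) * c * (c + 1) ^ 3 :=
      Nat.eq_of_mul_eq_mul_left (show 0 < c + 2 by omega) (by rw [hmu]; ring)
    have h2 : (c + 1) ^ 3 * (c ^ 3 + c ^ 2 + c + 1) =
        (c ^ 2 + c + 1) * c * (c + 1) ^ 3 + (c + 1) ^ 3 := by ring
    omega

/-- An involution acting on `P` as an involution fixing two points fixes two points. -/
lemma bad_of_act (hF : Full h) (hN : NoEven h) {P R : h.Pt} {v : G} (b : Bad P R v) {x : G}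
    (hx : x * x = 1) (hxP : x • P = P) (hvx : v * x ∈ Subgroup.centralizer (P.1 : Set G)) :
    ∃ R', Bad P R' x := by
  have hxC : x ∉ Subgroup.centralizer (P.1 : Set G) := fun hc => b.not_centralizes hN (by
    have h1 := mul_mem hvx (inv_mem hc)
    rwa [mul_inv_cancel_right] at h1)
  have hx1 : x ≠ 1 := fun e => hxC (e ▸ one_mem _)
  have hxD : x ∉ D := fun hd => hxC (Subgroup.mem_centralizer_iff.2 fun p hp =>
    (commute_mem ((D_fix_iff hd).1 hxP) hp).eq.symm)
  by_contra hall
  push Not at hall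
  have honly : ∀ γ : h.Pt, x • γ = γ → γ = P := fun γ hγ => by
    by_contra hne
    exact hall γ ⟨Ne.symm hne, hx, hx1, hxP, hγ⟩
  obtain ⟨d, hd, hd1⟩ := exists_ne_one R
  have hdD := mem_D hd hd1
  have heven : ¬ Odd (orderOf (x * d)) := fun ho => by
    obtain ⟨y, -, -, hy⟩ := exists_conj_of_odd hx (h.sq d hdD) ho
    exact hxD (by
      have h1 := h.conj y d hdD
      rwa [← hy, show y * (y⁻¹ * x * y) * y⁻¹ = x by group] at h1)
  rw [Nat.not_odd_iff_even] at heven
  obtain ⟨n, hn⟩ := heven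
  set j := (x * d) ^ n with hj
  have hjj : j * j = 1 := by rw [hj, ← pow_add, ← hn, pow_orderOf_eq_one]
  have hji : j⁻¹ = j := inv_eq_of_mul_eq_one_right hjj
  have hjx : Commute j x := by
    have h1 : x * j * x⁻¹ = j := by
      rw [hj, ← conj_pow, show x * (x * d) * x⁻¹ = (x * d)⁻¹ by
        rw [inv_eq_of_mul_eq_one_right hx, mul_inv_rev, h.inv_eq hdD, inv_eq_of_mul_eq_one_right hx,
          ← mul_assoc x x d, hx, one_mul], inv_pow, ← hj, hji]
    exact (mul_inv_eq_iff_eq_mul.1 h1).symm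
  have hjd : Commute j d := by
    have h1 : Commute j (x * d) := by rw [hj]; exact (Commute.refl (x * d)).pow_left n
    have h2 := hjx.mul_right h1
    rwa [← mul_assoc, hx, one_mul] at h2
  have hj1 : j ≠ 1 := fun e => by
    have h1 := orderOf_dvd_of_pow_eq_one (hj ▸ e : (x * d) ^ n = 1)
    have h2 := orderOf_pos (x * d)
    have := Nat.le_of_dvd (by omega) h1
    omega
  have hjR : j • R = R := fix_of_commute hd hd1 hjd
  have hjP : j • P = P := honly _ (by rw [← mul_smul, ← hjx.eq, mul_smul, hxP])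
  have bj : Bad P R j := ⟨b.ne, hjj, hj1, hjP, hjR⟩
  obtain ⟨-, -, -, S, hS⟩ := unitary_of_bad hI ih hF hN bj
  obtain ⟨s, hs, hsR⟩ := hS.trans R (x • R) hjR
    (by rw [← mul_smul, hjx.eq, mul_smul, hjR]) b.ne.symm
    (fun e => b.ne ((smul_left_cancel x (e.trans hxP.symm)) : R = P).symm)
  obtain ⟨hsL, hsC, -⟩ := (hS.mem_iff s).1 hs
  have hsP : s • P = P := fix_of_centralizer hsC
  set y := s⁻¹ * x with hy
  have hxS : ∀ z ∈ S, x * z * x⁻¹ ∈ S := fun z hz => by
    obtain ⟨hzL, hzC, i, hi⟩ := (hS.mem_iff z).1 hz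
    refine (hS.mem_iff _).2 ⟨?_, Subgroup.mem_centralizer_iff.2 fun p hp => ?_,
      i, by rw [conj_pow, hi, mul_one, mul_inv_cancel]⟩
    · have h1 : lay D j ≤ (lay D j).comap (MulAut.conj x).toMonoidHom :=
        (Subgroup.closure_le _).2 fun d hd => by
          refine mem_lay (h.conj x d hd.1) ?_
          have h2 := (Commute.conj_iff x).2 hd.2
          rwa [show x * j * x⁻¹ = j by rw [← hjx.eq, mul_inv_cancel_right]] at h2
      exact h1 hzL
    · have hp' : x⁻¹ * p * x ∈ P := by
        have h1 := conj_mem_of_fix (g := x⁻¹) (inv_smul_eq_iff.2 hxP.symm) hp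
        rwa [inv_inv] at h1
      calc p * (x * z * x⁻¹) = x * ((x⁻¹ * p * x) * z) * x⁻¹ := by group
        _ = x * (z * (x⁻¹ * p * x)) * x⁻¹ := by rw [Subgroup.mem_centralizer_iff.1 hzC _ hp']
        _ = x * z * x⁻¹ * p := by group
  have hy2 : y * y = s⁻¹ * (x * s⁻¹ * x⁻¹) := by
    rw [hy, inv_eq_of_mul_eq_one_right hx]; group
  have hy2S : y * y ∈ S := hy2 ▸ mul_mem (inv_mem hs) (hxS _ (inv_mem hs))
  obtain ⟨-, hy2C, hy2i⟩ := (hS.mem_iff _).1 hy2S
  have hyP : y • P = P := by rw [hy, mul_smul, hxP, inv_smul_eq_iff, hsP]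
  have hyR : y • R = R := by rw [hy, mul_smul, ← hsR, inv_smul_smul]
  have hyy : y * y = 1 := eq_one_of_centralizes_two hN b.ne hy2C (by rw [mul_smul, hyR, hyR]) hy2i
  have hy1 : y ≠ 1 := fun e => hxC (by
    rw [hy, inv_mul_eq_one] at e
    exact e ▸ hsC)
  have hyj : y = j := Bad.eq_of_commute' hN ⟨b.ne, hyy, hy1, hyP, hyR⟩ bj
    ((commute_of_mem_lay hsL).inv_left.mul_left hjx.symm)
  have hxe : x = s * j := by rw [← hyj, hy, mul_inv_cancel_left]
  have hsj : Commute s j := commute_of_mem_lay hsL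
  have hss : s * s = 1 := by
    rw [hxe, show s * j * (s * j) = s * (j * s) * j by group, ← hsj.eq,
      show s * (s * j) * j = s * s * (j * j) by group, hjj, mul_one] at hx
    exact hx
  have hsPm : s ∈ P := hS.invol s hs hss
  have hs1 : s ≠ 1 := fun e => by
    rw [e, one_mul] at hxe
    exact b.ne ((honly R (hxe ▸ hjR)).symm)
  obtain ⟨δ, bδ⟩ := bad_mul hN hF bj (d := s) ⟨mem_D hsPm hs1, hsj⟩
  exact hall δ (by rw [hxe, ← pt_eq (mem_D hsPm hs1) hsPm]; exact bδ)

/-- A configuration without even pairs: no involution fixes two points. -/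
lemma no_bad (hF : Full h) (hN : NoEven h) {P R : h.Pt} {v : G} (b : Bad P R v) : False := by
  classical
  obtain ⟨hc, -, hn, S, hS⟩ := unitary_of_bad hI ih hF hN b
  set c := (fixd P {v}).ncard with hcdef
  set W := P.1 ⊔ S with hW
  have hSC : ∀ s ∈ S, s ∈ Subgroup.centralizer (P.1 : Set G) := fun s hs => ((hS.mem_iff s).1 hs).2.1
  have hSv : ∀ s ∈ S, Commute s v := fun s hs => commute_of_mem_lay ((hS.mem_iff s).1 hs).1
  have hWp : IsPGroup 2 W := IsPGroup.to_sup_of_normal_left'
    (fun a => ⟨1, Subtype.ext (by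
      rw [pow_one, SubmonoidClass.coe_pow, pow_two, OneMemClass.coe_one]; exact sq_mem a.2)⟩)
    hS.two ((show S ≤ Subgroup.centralizer (P.1 : Set G) from hSC).trans
      (Subgroup.centralizer_le_normalizer _))
  have hWC : W ≤ Subgroup.centralizer (P.1 : Set G) :=
    sup_le (fun a ha => Subgroup.mem_centralizer_iff.2 fun p hp => (commute_mem ha hp).eq.symm) hSC
  set X : Set G := {x | x * x = 1 ∧ v * x ∈ W} with hX
  have hXP : ∀ x ∈ X, x • P = P := fun x hx => by
    have h1 := fix_of_centralizer (hWC hx.2)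
    rw [mul_smul] at h1
    calc x • P = v • v • x • P := by rw [← mul_smul v v, b.sq, one_smul]
      _ = v • P := by rw [h1]
      _ = P := b.left
  have hXbad : ∀ x ∈ X, ∃ R', Bad P R' x := fun x hx =>
    bad_of_act hI ih hF hN b hx.1 (hXP x hx) (hWC hx.2)
  -- many involutions in the coset
  have hXcard : (c + 1) ^ 3 ≤ X.ncard := by
    have : Fintype G := Fintype.ofFinite G
    set T : Finset (G × G) := Finset.univ.filter
      (fun p => p.1 ∈ P ∧ p.2 ∈ S ∧ p.1 * (v * p.1 * v) = p.2 * p.2) with hT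
    have hTm : ∀ p, p ∈ T ↔ p.1 ∈ P ∧ p.2 ∈ S ∧ p.1 * (v * p.1 * v) = p.2 * p.2 :=
      fun p => by simp [hT]
    have hTcard : T.card = (c + 1) ^ 3 * (c + 1) := by
      set SF : Finset G := Finset.univ.filter (fun s => s ∈ S) with hSF
      have hSc : SF.card = (c + 1) ^ 3 := by
        have e : (SF : Set G) = (S : Set G) := by ext; simp [hSF]
        rw [← Set.ncard_coe_finset, e, ← Nat.card_coe_set_eq, SetLike.coe_sort_coe, hS.card]
      rw [← hSc, Finset.card_eq_sum_card_fiberwise (f := Prod.snd) (t := SF)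
        (fun p hp => by simpa [hSF] using ((hTm p).1 hp).2.1)]
      refine Finset.sum_const_nat fun s hs => ?_
      have hs' : s ∈ S := by simpa [hSF] using hs
      have hfib : (T.filter fun p => p.2 = s).card =
          {p | p ∈ P ∧ p * (v * p * v) = s * s}.ncard := by
        rw [← Set.ncard_coe_finset, ← Set.ncard_image_of_injective _ (f := fun p : G => (p, s))
          (fun p p' e => (Prod.ext_iff.1 e).1)]
        congr 1
        ext ⟨p, s'⟩
        simp only [Finset.coe_filter, hTm, Set.mem_ofPred_eq, Set.mem_image, Prod.mk.injEq]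
        constructor
        · rintro ⟨⟨h1, -, h2⟩, rfl⟩
          exact ⟨p, ⟨h1, h2⟩, rfl, rfl⟩
        · rintro ⟨q, ⟨h1, h2⟩, rfl, rfl⟩
          exact ⟨⟨h1, hs', h2⟩, rfl⟩
      rw [hfib, b.nu hN (hS.sq s hs') ((hSv s hs').mul_left (hSv s hs')).symm]
    set XF : Finset G := Finset.univ.filter (fun x => x ∈ X) with hXF
    have hXFc : XF.card = X.ncard := by
      have e : (XF : Set G) = X := by ext; simp [hXF]
      rw [← Set.ncard_coe_finset, e]
    have hmap : ∀ p ∈ T, v * p.1 * p.2 ∈ XF := fun p hp => by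
      obtain ⟨hp1, hp2, hpe⟩ := (hTm p).1 hp
      simp only [hXF, Finset.mem_filter, Finset.mem_univ, true_and, hX, Set.mem_ofPred_eq]
      refine ⟨?_, ?_⟩
      · have hvp : v * p.1 * v ∈ P := by
          rw [← involution_conj b.sq]; exact conj_mem_of_fix b.left hp1
        have hsp : Commute p.2 p.1 := (Subgroup.mem_centralizer_iff.1 (hSC _ hp2) _ hp1).symm
        have hssP : p.2 * p.2 * (p.2 * p.2) = 1 := sq_mem (hS.sq _ hp2)
        calc v * p.1 * p.2 * (v * p.1 * p.2) = v * p.1 * (p.2 * v) * p.1 * p.2 := by group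
          _ = (v * p.1 * v) * (p.2 * p.1) * p.2 := by rw [(hSv _ hp2).eq]; group
          _ = (v * p.1 * v * p.1) * (p.2 * p.2) := by rw [hsp.eq]; group
          _ = 1 := by rw [(commute_mem hvp hp1).eq, hpe, hssP]
      · rw [← mul_assoc, ← mul_assoc, b.sq, one_mul]
        exact mul_mem (Subgroup.mem_sup_left hp1) (Subgroup.mem_sup_right hp2)
    have hfibre : ∀ x ∈ XF, (T.filter fun p => v * p.1 * p.2 = x).card ≤ c + 1 := by
      intro x _
      by_cases hne : (T.filter fun p => v * p.1 * p.2 = x).Nonempty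
      · obtain ⟨p₀, hp₀⟩ := hne
        rw [Finset.mem_filter, hTm] at hp₀
        obtain ⟨⟨hq1, hq2, -⟩, hqx⟩ := hp₀
        set Cv : Finset G := Finset.univ.filter (fun a => a = 1 ∨ a ∈ fixd P {v}) with hCv
        have hCc : Cv.card = c + 1 := by
          have e : (Cv : Set G) = insert 1 (fixd P {v}) := by ext; simp [hCv]
          rw [← Set.ncard_coe_finset, e, Set.ncard_insert_of_notMem (fun hx => hx.2.1 rfl)
            (Set.toFinite _)]
        rw [← hCc]
        refine Finset.card_le_card_of_injOn (fun p => p.1⁻¹ * p₀.1) ?_ ?_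
        · intro p hp
          rw [Finset.mem_coe, Finset.mem_filter, hTm] at hp
          obtain ⟨⟨hp1, hp2, -⟩, hpx⟩ := hp
          simp only [Finset.mem_coe, hCv, Finset.mem_filter, Finset.mem_univ, true_and]
          by_cases e : p.1⁻¹ * p₀.1 = 1
          · exact Or.inl e
          refine Or.inr ⟨mul_mem_pt (P.1.inv_mem hp1) hq1, e, ?_⟩
          intro w hw
          rw [Set.mem_singleton_iff.1 hw]
          have e' : p.1⁻¹ * p₀.1 = p.2 * p₀.2⁻¹ := by
            have h1 : p₀.1 * p₀.2 = p.1 * p.2 := by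
              have h2 := hqx.trans hpx.symm
              rw [mul_assoc, mul_assoc] at h2
              exact mul_left_cancel h2
            calc p.1⁻¹ * p₀.1 = p.1⁻¹ * (p₀.1 * p₀.2) * p₀.2⁻¹ := by group
              _ = p.2 * p₀.2⁻¹ := by rw [h1]; group
          rw [e']
          exact ((hSv _ hp2).mul_left (hSv _ hq2).inv_left).symm
        · intro p hp p' hp' e
          rw [Finset.mem_coe, Finset.mem_filter] at hp hp'
          have e1 : p.1 = p'.1 := inv_injective (mul_right_cancel e)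
          have h2 := hp.2.trans hp'.2.symm
          rw [e1] at h2
          exact Prod.ext e1 (mul_left_cancel h2)
      · rw [Finset.not_nonempty_iff_eq_empty] at hne
        rw [hne]; simp
    have h1 := Finset.card_eq_sum_card_fiberwise (f := fun p : G × G => v * p.1 * p.2) (t := XF) hmap
    have h2 := Finset.sum_le_card_nsmul XF _ (c + 1) hfibre
    rw [← h1, hTcard, hXFc, smul_eq_mul] at h2
    exact Nat.le_of_mul_le_mul_right h2 (by omega)
  -- their fixed points other than `P` are disjoint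
  have : Fintype X := Fintype.ofFinite X
  set F : X → Set h.Pt := fun x => fixSet h (x : G) \ {P} with hF'
  have hFc : ∀ x : X, (F x).ncard = (c + 1) ^ 3 := fun x => by
    obtain ⟨R', bx⟩ := hXbad x x.2
    obtain ⟨-, hk, -, -⟩ := unitary_of_bad hI ih hF hN bx
    rw [hF', Set.ncard_sdiff_singleton_of_mem (show P ∈ fixSet h (x : G) from hXP x x.2), hk,
      bx.ncard_eq hN b, Nat.add_sub_cancel]
  have hdisj : Pairwise (fun x x' : X => Disjoint (F x) (F x')) := by
    intro x x' hne
    refine Set.disjoint_left.2 fun i hi hi' => hne (Subtype.ext ?_)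
    have hconj : ∀ w ∈ P.1, v * w * v ∈ P.1 := fun w hw => by
      rw [← involution_conj b.sq]; exact conj_mem_of_fix b.left hw
    have hWnorm : W ≤ W.comap (MulAut.conj v).toMonoidHom := sup_le
      (fun w hw => Subgroup.mem_sup_left (show v * w * v⁻¹ ∈ P.1 from conj_mem_of_fix b.left hw))
      (fun w hw => Subgroup.mem_sup_right (show v * w * v⁻¹ ∈ S by
        rw [← (hSv w hw).eq, mul_inv_cancel_right]; exact hw))
    have hm : (x : G) * x' ∈ W := by
      have h1 : v * (v * (x : G)) * v⁻¹ * (v * x') ∈ W := mul_mem (hWnorm x.2.2) x'.2.2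
      rwa [show v * (v * (x : G)) * v⁻¹ * (v * x') = v * v * ((x : G) * x') by group, b.sq,
        one_mul] at h1
    have hfix : ((x : G) * x') • i = i := by rw [mul_smul, hi'.1, hi.1]
    have h1 := eq_one_of_centralizes_two hN (Ne.symm hi.2) (hWC hm) hfix (by
      obtain ⟨j, hj⟩ := hWp ⟨_, hm⟩
      exact ⟨j, by simpa using congrArg Subtype.val hj⟩)
    rw [mul_eq_one_iff_eq_inv, inv_eq_of_mul_eq_one_right x'.2.1] at h1
    exact h1
  have hsum : (⋃ x : X, F x).ncard = X.ncard * (c + 1) ^ 3 := by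
    rw [Set.ncard_iUnion_of_finite (fun x => Set.toFinite (F x)) hdisj, finsum_eq_sum_of_fintype,
      Finset.sum_congr rfl (fun x _ => hFc x), Finset.sum_const, Finset.card_univ,
      ← Nat.card_eq_fintype_card, Nat.card_coe_set_eq, smul_eq_mul]
  have hle : (⋃ x : X, F x).ncard + 1 ≤ Nat.card h.Pt := by
    have h1 : P ∉ ⋃ x : X, F x := by simp [hF']
    rw [← Set.ncard_insert_of_notMem h1 (Set.toFinite _)]
    exact Set.ncard_le_card _
  rw [hsum, hn] at hle
  have h1 := Nat.mul_le_mul_right ((c + 1) ^ 3) hXcard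
  have h2 : c ^ 3 + c ^ 2 + c + 1 < (c + 1) ^ 3 := by
    have : (c + 1) ^ 3 = c ^ 3 + c ^ 2 + c + 1 + (2 * c ^ 2 + 2 * c) := by ring
    nlinarith
  have h3 := Nat.mul_lt_mul_of_pos_left h2 (show 0 < (c + 1) ^ 3 by positivity)
  omega

/-- In a configuration without even pairs every involution fixes one point. -/
theorem onePoint_of_below (hF : Full h) (hN : NoEven h) : OnePoint h := by
  intro v hv hv1 P R hP hR
  by_contra hne
  exact no_bad hI ih hF hN ⟨hne, hv, hv1, hP, hR⟩

omit hI ih in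
/-- In a configuration without even pairs generating a group with trivial centre, every involution
fixes one point. -/
theorem onePoint (hI : BenderOne.PropSplit.{u}) (hF : Full h) (hN : NoEven h) : OnePoint h := by
  suffices H : ∀ (n : ℕ) (X : Type u) [Group X] [Finite X] (DX : Set X) (hX : Conf DX),
      Nat.card X = n → Full hX → NoEven hX → OnePoint hX from H _ G D h rfl hF hN
  intro n
  induction n using Nat.strong_induction_on with
  | _ n ih =>
    intro X _ _ DX hX hn hFX hNX
    subst hn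
    exact onePoint_of_below hI (fun Y _ _ DY hY hlt => ih _ hlt Y DY hY rfl) hFX hNX

end Cfsg.Agent.Lib.OddTransp84.Core.Conf
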