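import Cfsg.Agent.Lib.OddTransp84.Core.Mean

/-!
# Configurations: an invariant set of involutions whose commuting classes are disjoint elementary
abelian groups, with products of odd order across classes

The classes, with `1`, are the points.
-/

set_option autoImplicit false

namespace Cfsg.Agent.Lib.OddTransp84.Core

universe u

variable {G : Type u} [Group G]

/-- The hypothesis: see the module docstring. -/
structure Conf (D : Set G) : Prop where
  sq : ∀ d ∈ D, d * d = 1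
  ne : ∀ d ∈ D, d ≠ 1
  conj : ∀ g : G, ∀ d ∈ D, g * d * g⁻¹ ∈ D
  trans : ∀ a ∈ D, ∀ b ∈ D, ∀ c ∈ D, Commute a b → Commute b c → Commute a c
  mul : ∀ a ∈ D, ∀ b ∈ D, Commute a b → a ≠ b → a * b ∈ D
  odd : ∀ a ∈ D, ∀ b ∈ D, ¬ Commute a b → Odd (orderOf (a * b))
  partner : ∀ d ∈ D, ∃ e ∈ D, e ≠ d ∧ Commute e d

/-- The subgroup generated by the members commuting with `d`. -/
def cl (D : Set G) (d : G) : Subgroup G := Subgroup.closure {x | x ∈ D ∧ Commute x d}

variable {D : Set G}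

namespace Conf

lemma inv_eq (h : Conf D) {d : G} (hd : d ∈ D) : d⁻¹ = d := inv_eq_of_mul_eq_one_right (h.sq d hd)

lemma mem_cl (h : Conf D) {d x : G} (hd : d ∈ D) :
    x ∈ cl D d ↔ x = 1 ∨ (x ∈ D ∧ Commute x d) := by
  refine ⟨fun hx => ?_, ?_⟩
  · induction hx using Subgroup.closure_induction with
    | mem y hy => exact Or.inr hy
    | one => exact Or.inl rfl
    | inv y _ ih =>
      rcases ih with rfl | ⟨hy, hc⟩
      · exact Or.inl inv_one
      · rw [h.inv_eq hy]; exact Or.inr ⟨hy, hc⟩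
    | mul y z _ _ iy iz =>
      rcases iy with rfl | ⟨hy, hyc⟩
      · rwa [one_mul]
      rcases iz with rfl | ⟨hz, hzc⟩
      · rw [mul_one]; exact Or.inr ⟨hy, hyc⟩
      by_cases e : y = z
      · subst e; exact Or.inl (h.sq y hy)
      · exact Or.inr ⟨h.mul y hy z hz (h.trans y hy d hd z hz hyc hzc.symm) e,
          hyc.mul_left hzc⟩
  · rintro (rfl | hx)
    · exact one_mem _
    · exact Subgroup.subset_closure hx

/-- The points. -/
def Pt (_h : Conf D) : Type u := {P : Subgroup G // ∃ d ∈ D, P = cl D d}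

instance (h : Conf D) : Membership G h.Pt := ⟨fun P x => x ∈ P.1⟩

lemma mem_def {h : Conf D} {P : h.Pt} {x : G} : x ∈ P ↔ x ∈ P.1 := Iff.rfl

instance finitePt [Finite G] (h : Conf D) : Finite h.Pt :=
  Subtype.finite

/-- The point of a member. -/
def pt (h : Conf D) {d : G} (hd : d ∈ D) : h.Pt := ⟨cl D d, d, hd, rfl⟩

variable {h : Conf D}

lemma mem_pt {d : G} (hd : d ∈ D) : d ∈ h.pt hd := (h.mem_cl hd).2 (Or.inr ⟨hd, Commute.refl d⟩)

lemma mem_D {P : h.Pt} {a : G} (ha : a ∈ P) (ha1 : a ≠ 1) : a ∈ D := by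
  obtain ⟨d, hd, e⟩ := P.2
  rw [mem_def, e, h.mem_cl hd] at ha
  exact (ha.resolve_left ha1).1

lemma commute_mem {P : h.Pt} {a b : G} (ha : a ∈ P) (hb : b ∈ P) : Commute a b := by
  obtain ⟨d, hd, e⟩ := P.2
  rw [mem_def, e, h.mem_cl hd] at ha hb
  rcases ha with rfl | ⟨ha, hac⟩
  · exact Commute.one_left b
  rcases hb with rfl | ⟨hb, hbc⟩
  · exact Commute.one_right a
  exact h.trans a ha d hd b hb hac hbc.symm

lemma sq_mem {P : h.Pt} {a : G} (ha : a ∈ P) : a * a = 1 := by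
  by_cases e : a = 1
  · simp [e]
  · exact h.sq a (mem_D ha e)

lemma inv_mem_eq {P : h.Pt} {a : G} (ha : a ∈ P) : a⁻¹ = a :=
  inv_eq_of_mul_eq_one_right (sq_mem ha)

lemma mul_mem_pt {P : h.Pt} {a b : G} (ha : a ∈ P) (hb : b ∈ P) : a * b ∈ P := P.1.mul_mem ha hb

lemma one_mem_pt (P : h.Pt) : (1 : G) ∈ P := P.1.one_mem

lemma mem_iff_commute {P : h.Pt} {a b : G} (ha : a ∈ P) (ha1 : a ≠ 1) (hb : b ∈ D) :
    b ∈ P ↔ Commute b a := by
  refine ⟨fun hbP => commute_mem hbP ha, fun hc => ?_⟩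
  obtain ⟨d, hd, e⟩ := P.2
  have ha' := ha
  rw [mem_def, e, h.mem_cl hd] at ha'
  rw [mem_def, e, h.mem_cl hd]
  obtain ⟨haD, hac⟩ := ha'.resolve_left ha1
  exact Or.inr ⟨hb, h.trans b hb a haD d hd hc hac⟩

lemma ext_pt {P R : h.Pt} (e : P.1 = R.1) : P = R := Subtype.ext e

lemma eq_of_commute {P R : h.Pt} {a b : G} (ha : a ∈ P) (ha1 : a ≠ 1) (hb : b ∈ R) (hb1 : b ≠ 1)
    (hc : Commute a b) : P = R := by
  refine ext_pt (SetLike.ext fun x => ?_)
  by_cases hx1 : x = 1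
  · subst hx1; exact ⟨fun _ => R.1.one_mem, fun _ => P.1.one_mem⟩
  constructor
  · intro hx
    have hxD : x ∈ D := mem_D (P := P) hx hx1
    exact (mem_iff_commute hb hb1 hxD).2
      (h.trans x hxD a (mem_D ha ha1) b (mem_D hb hb1) (commute_mem (P := P) hx ha) hc)
  · intro hx
    have hxD : x ∈ D := mem_D (P := R) hx hx1
    exact (mem_iff_commute ha ha1 hxD).2
      (h.trans x hxD b (mem_D hb hb1) a (mem_D ha ha1) (commute_mem (P := R) hx hb) hc.symm)

lemma eq_of_mem {P R : h.Pt} {a : G} (ha : a ∈ P) (hb : a ∈ R) (ha1 : a ≠ 1) : P = R :=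
  eq_of_commute ha ha1 hb ha1 (Commute.refl a)

lemma exists_ne_one (P : h.Pt) : ∃ a, a ∈ P ∧ a ≠ 1 := by
  obtain ⟨d, hd, e⟩ := P.2
  exact ⟨d, by rw [mem_def, e]; exact mem_pt (h := h) hd, h.ne d hd⟩

lemma pt_eq {P : h.Pt} {d : G} (hd : d ∈ D) (hdP : d ∈ P) : h.pt hd = P :=
  eq_of_mem (mem_pt hd) hdP (h.ne d hd)

lemma exists_other (P : h.Pt) {a : G} : ∃ b, b ∈ P ∧ b ≠ 1 ∧ b ≠ a := by
  obtain ⟨d, hd, hd1⟩ := exists_ne_one P
  obtain ⟨e, he, hne, hc⟩ := h.partner d (mem_D hd hd1)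
  have heP : e ∈ P := (mem_iff_commute hd hd1 he).2 hc
  by_cases hda : d = a
  · exact ⟨e, heP, h.ne e he, fun e' => hne (e'.trans hda.symm)⟩
  · exact ⟨d, hd, hd1, hda⟩

/-! ### The action -/

lemma map_cl (h : Conf D) (g : G) {d : G} (hd : d ∈ D) :
    (cl D d).map (MulAut.conj g).toMonoidHom = cl D (g * d * g⁻¹) := by
  ext x
  rw [Subgroup.mem_map_equiv, MulAut.conj_symm_apply, h.mem_cl hd, h.mem_cl (h.conj g d hd)]
  have hc : Commute (g⁻¹ * x * g) d ↔ Commute x (g * d * g⁻¹) := by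
    rw [← Commute.conj_iff g (a := g⁻¹ * x * g),
      show g * (g⁻¹ * x * g) * g⁻¹ = x by group]
  constructor
  · rintro (h1 | ⟨h1, h2⟩)
    · left
      calc x = g * (g⁻¹ * x * g) * g⁻¹ := by group
        _ = 1 := by rw [h1]; group
    · exact Or.inr ⟨by simpa [mul_assoc] using h.conj g _ h1, hc.1 h2⟩
  · rintro (rfl | ⟨h1, h2⟩)
    · left; group
    · exact Or.inr ⟨by simpa [mul_assoc] using h.conj g⁻¹ _ h1, hc.2 h2⟩

instance (h : Conf D) : SMul G h.Pt :=
  ⟨fun g P => ⟨P.1.map (MulAut.conj g).toMonoidHom, by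
    obtain ⟨d, hd, e⟩ := P.2
    exact ⟨g * d * g⁻¹, h.conj g d hd, by rw [e, map_cl h g hd]⟩⟩⟩

lemma mem_smul {g : G} {P : h.Pt} {x : G} : x ∈ g • P ↔ g⁻¹ * x * g ∈ P := by
  show x ∈ P.1.map (MulAut.conj g).toMonoidHom ↔ _
  rw [Subgroup.mem_map_equiv, MulAut.conj_symm_apply]
  rfl

instance (h : Conf D) : MulAction G h.Pt where
  one_smul P := ext_pt (SetLike.ext fun x => by
    have := mem_smul (g := (1 : G)) (P := P) (x := x)
    simpa [mem_def] using this)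
  mul_smul g g' P := ext_pt (SetLike.ext fun x => by
    have h1 := mem_smul (g := g * g') (P := P) (x := x)
    have h2 := mem_smul (g := g) (P := g' • P) (x := x)
    have h3 := mem_smul (g := g') (P := P) (x := g⁻¹ * x * g)
    rw [show (g * g')⁻¹ * x * (g * g') = g'⁻¹ * (g⁻¹ * x * g) * g' by group] at h1
    exact h1.trans (h3.symm.trans h2.symm))

lemma conj_mem_smul {g : G} {P : h.Pt} {a : G} (ha : a ∈ P) : g * a * g⁻¹ ∈ g • P := by
  rw [mem_smul, show g⁻¹ * (g * a * g⁻¹) * g = a by group]; exact ha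

lemma conj_mem_of_fix {g : G} {P : h.Pt} (hg : g • P = P) {a : G} (ha : a ∈ P) :
    g * a * g⁻¹ ∈ P := by
  have := conj_mem_smul (g := g) ha
  rwa [hg] at this

lemma conj_ne_one {g a : G} (ha : a ≠ 1) : g * a * g⁻¹ ≠ 1 := by
  intro e
  exact ha (by simpa using e)

lemma smul_eq_of_mem {g : G} {P R : h.Pt} {a : G} (ha : a ∈ P) (ha1 : a ≠ 1)
    (hb : g * a * g⁻¹ ∈ R) : g • P = R :=
  eq_of_mem (conj_mem_smul ha) hb (conj_ne_one ha1)

lemma smul_pt {g d : G} (hd : d ∈ D) : g • h.pt hd = h.pt (h.conj g d hd) :=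
  smul_eq_of_mem (mem_pt hd) (h.ne d hd) (mem_pt _)

lemma fix_of_mem {P : h.Pt} {a : G} (ha : a ∈ P) : a • P = P := by
  obtain ⟨b, hb, hb1⟩ := exists_ne_one P
  refine smul_eq_of_mem hb hb1 ?_
  rw [(commute_mem ha hb).eq, mul_inv_cancel_right]; exact hb

lemma fix_of_commute {P : h.Pt} {g a : G} (ha : a ∈ P) (ha1 : a ≠ 1) (hg : Commute g a) :
    g • P = P :=
  smul_eq_of_mem ha ha1 (by rw [hg.eq, mul_inv_cancel_right]; exact ha)

lemma involution_conj {t : G} (ht : t * t = 1) (x : G) : t * x * t⁻¹ = t * x * t := by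
  rw [inv_eq_of_mul_eq_one_right ht]

/-- An involution fixing a point centralises a member in it. -/
lemma exists_commute {P : h.Pt} {t : G} (ht : t * t = 1) (hP : t • P = P) :
    ∃ a, a ∈ P ∧ a ≠ 1 ∧ Commute t a := by
  obtain ⟨a, ha, ha1⟩ := exists_ne_one P
  have hb : t * a * t ∈ P := by rw [← involution_conj ht]; exact conj_mem_of_fix hP ha
  by_cases hab : a * (t * a * t) = 1
  · refine ⟨a, ha, ha1, ?_⟩
    have h1 : t * a * t = a := by
      rw [← inv_eq_of_mul_eq_one_right hab, inv_mem_eq ha]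
    calc t * a = t * a * t * t := by rw [mul_assoc (t * a), ht, mul_one]
      _ = a * t := by rw [h1]
  · refine ⟨_, mul_mem_pt ha hb, hab, ?_⟩
    calc t * (a * (t * a * t)) = (t * a * t) * (a * t) := by simp [mul_assoc]
      _ = (t * a * t * a) * t := by rw [mul_assoc (t * a * t)]
      _ = (a * (t * a * t)) * t := by rw [(commute_mem hb ha).eq]

/-- A member fixes its own point only. -/
lemma D_fix_iff {P : h.Pt} {d : G} (hd : d ∈ D) : d • P = P ↔ d ∈ P := by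
  refine ⟨fun e => ?_, fix_of_mem⟩
  obtain ⟨a, ha, ha1, hc⟩ := exists_commute (h.sq d hd) e
  exact (mem_iff_commute ha ha1 hd).2 hc

lemma D_fix_unique {P R : h.Pt} {d : G} (hd : d ∈ D) (hP : d • P = P) (hR : d • R = R) : P = R :=
  eq_of_mem ((D_fix_iff hd).1 hP) ((D_fix_iff hd).1 hR) (h.ne d hd)

/-- Two members of different points are interchanged by a member in the group they generate. -/
lemma exists_mid (h : Conf D) {a b : G} (ha : a ∈ D) (hb : b ∈ D) (hc : ¬ Commute a b) :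
    ∃ f ∈ D, f ∈ Subgroup.closure ({a, b} : Set G) ∧ f * a * f = b := by
  have ho := h.odd a ha b hb hc
  obtain ⟨o, rfl⟩ : ∃ o, o = a * b := ⟨_, rfl⟩
  set g := sqrtOdd (sqrtOdd (a * b)⁻¹) with hg
  have ho' : Odd (orderOf (a * b)⁻¹) := by rwa [orderOf_inv]
  have hflip : a * g * a = g⁻¹ := by
    have h1 : a * (a * b)⁻¹ * a = (a * b)⁻¹⁻¹ := by
      rw [mul_inv_rev, h.inv_eq ha, h.inv_eq hb, mul_inv_rev, h.inv_eq ha, h.inv_eq hb,
        mul_assoc, mul_assoc, h.sq a ha, mul_one]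
    have hp : ∀ (y : G) (n : ℕ), a * y * a = y⁻¹ → a * y ^ n * a = (y ^ n)⁻¹ := by
      intro y n hy
      have := (conj_pow (a := a) (b := y) (i := n)).symm
      rw [h.inv_eq ha] at this
      rw [this, hy, inv_pow]
    rw [hg, sqrtOdd, sqrtOdd]
    exact hp _ _ (hp _ _ h1)
  have hsa : a ∈ Subgroup.closure ({a, b} : Set G) := Subgroup.subset_closure (Or.inl rfl)
  have hsb : b ∈ Subgroup.closure ({a, b} : Set G) := Subgroup.subset_closure (Or.inr rfl)
  have hgm : g ∈ Subgroup.closure ({a, b} : Set G) := by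
    rw [hg, sqrtOdd, sqrtOdd]
    exact Subgroup.pow_mem _ (Subgroup.pow_mem _ (Subgroup.inv_mem _
      (Subgroup.mul_mem _ hsa hsb)) _) _
  refine ⟨g * a * g⁻¹, h.conj g a ha,
    Subgroup.mul_mem _ (Subgroup.mul_mem _ hgm hsa)
      (Subgroup.inv_mem _ hgm), ?_⟩
  have hga : g * a * g⁻¹ = g * g * a := by
    rw [← hflip]
    calc g * a * (a * g * a) = g * (a * a) * g * a := by simp [mul_assoc]
      _ = g * g * a := by rw [h.sq a ha, mul_one]
  have h4 : g * g = sqrtOdd (a * b)⁻¹ := sqrtOdd_mul_self (odd_orderOf_sqrtOdd ho')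
  rw [hga]
  calc g * g * a * a * (g * g * a) = g * g * (a * a) * (g * g) * a := by simp [mul_assoc]
    _ = (a * b)⁻¹ * a := by rw [h.sq a ha, mul_one, h4, sqrtOdd_mul_self ho']
    _ = b := by rw [mul_inv_rev, h.inv_eq ha, h.inv_eq hb, mul_assoc, h.sq a ha, mul_one]

/-- The members interchanging two points. -/
def swp (P R : h.Pt) : Set G := {f | f ∈ D ∧ f • P = R}

lemma swp_symm {P R : h.Pt} {f : G} (hf : f ∈ swp P R) : f ∈ swp R P :=
  ⟨hf.1, by rw [← hf.2, ← mul_smul, h.sq f hf.1, one_smul]⟩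

lemma swp_not_mem {P R : h.Pt} (hne : P ≠ R) {f : G} (hf : f ∈ swp P R) : f ∉ P := by
  intro e
  exact hne ((fix_of_mem e).symm.trans hf.2)

lemma swp_conj {P R : h.Pt} {f g : G} (hf : f ∈ swp P R) :
    g * f * g⁻¹ ∈ swp (g • P) (g • R) :=
  ⟨h.conj g f hf.1, by rw [mul_smul, mul_smul, inv_smul_smul, hf.2]⟩

lemma swp_eq_of_commute {P R : h.Pt} (hne : P ≠ R) {f f' : G} (hf : f ∈ swp P R)
    (hf' : f' ∈ swp P R) (hc : Commute f f') : f = f' := by
  by_contra e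
  have hm : f * f' ∈ D := h.mul f hf.1 f' hf'.1 hc e
  have hfix : (f * f') • P = P := by rw [mul_smul, hf'.2, ← hf.2, ← mul_smul, h.sq f hf.1, one_smul]
  have h1 := (D_fix_iff hm).1 hfix
  exact swp_not_mem hne hf ((mem_iff_commute h1 (h.ne _ hm) hf.1).2
    ((Commute.refl f).mul_right hc))

lemma swp_conj_mem {P R : h.Pt} {f a : G} (hf : f ∈ swp P R) (ha : a ∈ P) : f * a * f ∈ R := by
  rw [← involution_conj (h.sq f hf.1), ← hf.2]; exact conj_mem_smul ha

lemma swp_conj_ne_one {P R : h.Pt} {f a : G} (hf : f ∈ swp P R) (ha1 : a ≠ 1) : f * a * f ≠ 1 := by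
  rw [← involution_conj (h.sq f hf.1)]; exact conj_ne_one ha1

lemma swp_surj {P R : h.Pt} (hne : P ≠ R) {a b : G} (ha : a ∈ P) (ha1 : a ≠ 1) (hb : b ∈ R)
    (hb1 : b ≠ 1) : ∃ f ∈ swp P R, f ∈ P.1 ⊔ R.1 ∧ f * a * f = b := by
  have hc : ¬ Commute a b := fun e => hne (eq_of_commute ha ha1 hb hb1 e)
  obtain ⟨f, hf, hm, he⟩ := exists_mid h (mem_D ha ha1) (mem_D hb hb1) hc
  refine ⟨f, ⟨hf, smul_eq_of_mem ha ha1 (by rw [involution_conj (h.sq f hf), he]; exact hb)⟩, ?_, he⟩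
  refine (Subgroup.closure_le _).2 ?_ hm
  rintro x (rfl | rfl)
  · exact Subgroup.mem_sup_left ha
  · exact Subgroup.mem_sup_right hb

end Conf

end Cfsg.Agent.Lib.OddTransp84.Core
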