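import Cfsg.Agent.Lib.OddTransp84.Core.Conf

/-!
# Configurations: counting

All points have the same order `2 ^ m`, `m ≥ 2`; their number is odd; exactly one member interchanges
two given members of different points; centralisers in two fixed points correspond.
-/

set_option autoImplicit false

namespace Cfsg.Agent.Lib.OddTransp84.Core.Conf

universe u

variable {G : Type u} [Group G] [Finite G] {D : Set G} {h : Conf D}

/-- The members in a point. -/
def sharp (P : h.Pt) : Set G := {a | a ∈ P ∧ a ≠ 1}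

omit [Finite G] in
lemma exists_smul (P R : h.Pt) : ∃ g : G, g • P = R := by
  by_cases e : P = R
  · exact ⟨1, by rw [one_smul, e]⟩
  obtain ⟨a, ha, ha1⟩ := exists_ne_one P
  obtain ⟨b, hb, hb1⟩ := exists_ne_one R
  obtain ⟨f, hf, -⟩ := swp_surj e ha ha1 hb hb1
  exact ⟨f, hf.2⟩

omit [Finite G] in
lemma card_pt_eq (P R : h.Pt) : Nat.card P.1 = Nat.card R.1 := by
  obtain ⟨g, rfl⟩ := exists_smul P R
  exact (Subgroup.card_map_of_injective (K := P.1) (MulAut.conj g).injective).symm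

lemma sharp_ncard (P : h.Pt) : (sharp P).ncard = Nat.card P.1 - 1 := by
  have e : sharp P = (P.1 : Set G) \ {1} := by
    ext a; simp [sharp, mem_def]
  rw [e, Set.ncard_sdiff (Set.singleton_subset_iff.2 P.1.one_mem) (Set.toFinite _),
    Set.ncard_singleton, ← Nat.card_coe_set_eq]
  rfl

lemma exists_pow (P : h.Pt) : ∃ m, 2 ≤ m ∧ Nat.card P.1 = 2 ^ m := by
  have : Fact (Nat.Prime 2) := ⟨Nat.prime_two⟩
  have hp : IsPGroup 2 P.1 := fun x => ⟨1, Subtype.ext (by
    rw [pow_one, SubmonoidClass.coe_pow, pow_two, OneMemClass.coe_one]; exact sq_mem x.2)⟩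
  obtain ⟨m, hm⟩ := IsPGroup.iff_card.1 hp
  refine ⟨m, ?_, hm⟩
  obtain ⟨a, ha, ha1⟩ := exists_ne_one P
  obtain ⟨b, hb, hb1, hba⟩ := exists_other P (a := a)
  have h3 : 3 ≤ Nat.card P.1 := by
    have e : ({1, a, b} : Set G).ncard = 3 :=
      Set.ncard_eq_three.2 ⟨1, a, b, ha1.symm, hb1.symm, hba.symm, rfl⟩
    rw [← e, ← SetLike.coe_sort_coe, Nat.card_coe_set_eq]
    refine Set.ncard_le_ncard ?_ (Set.toFinite _)
    rintro x (rfl | rfl | rfl)
    exacts [one_mem_pt P, ha, hb]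
  rw [hm] at h3
  by_contra hlt
  interval_cases m <;> omega

lemma four_le (P : h.Pt) : 4 ≤ Nat.card P.1 := by
  obtain ⟨m, hm, e⟩ := exists_pow P
  rw [e]
  calc 4 = 2 ^ 2 := rfl
    _ ≤ 2 ^ m := Nat.pow_le_pow_right two_pos hm

/-- The number of members. -/
lemma D_ncard (P : h.Pt) : D.ncard = Nat.card h.Pt * (sharp P).ncard := by
  classical
  have := Fintype.ofFinite h.Pt
  have hU : D = ⋃ R : h.Pt, sharp R := by
    ext a
    simp only [Set.mem_iUnion]
    exact ⟨fun ha => ⟨h.pt ha, mem_pt ha, h.ne a ha⟩, fun ⟨_, ha, ha1⟩ => mem_D ha ha1⟩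
  conv_lhs => rw [hU]
  rw [Set.ncard_iUnion_of_finite (fun R => Set.toFinite (sharp R))
    (fun R R' hne => Set.disjoint_left.2 fun a ha ha' => hne (eq_of_mem ha.1 ha'.1 ha.2)),
    finsum_eq_sum_of_fintype, Finset.sum_congr rfl
      (fun R _ => (sharp_ncard R).trans ((congrArg (· - 1) (card_pt_eq R P)).trans
        (sharp_ncard P).symm)),
    Finset.sum_const, Finset.card_univ, Nat.card_eq_fintype_card, smul_eq_mul]

lemma le_swp_ncard {P R : h.Pt} (hne : P ≠ R) : (sharp R).ncard ≤ (swp P R).ncard := by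
  obtain ⟨a, ha, ha1⟩ := exists_ne_one P
  have hsub : sharp R ⊆ (fun f => f * a * f) '' swp P R := fun b hb =>
    let ⟨f, hf, _, he⟩ := swp_surj hne ha ha1 hb.1 hb.2
    ⟨f, hf, he⟩
  exact (Set.ncard_le_ncard hsub (Set.toFinite _)).trans (Set.ncard_image_le (Set.toFinite _))

lemma swp_ncard {P R : h.Pt} (hne : P ≠ R) : (swp P R).ncard = (sharp R).ncard := by
  classical
  have := Fintype.ofFinite h.Pt
  set s : Finset h.Pt := Finset.univ.erase P with hs
  have hU : D \ sharp P = ⋃ R' : s, swp P (R' : h.Pt) := by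
    ext f
    simp only [Set.mem_iUnion]
    constructor
    · rintro ⟨hf, hfP⟩
      exact ⟨⟨f • P, Finset.mem_erase.2 ⟨fun e => hfP ⟨(D_fix_iff hf).1 e, h.ne f hf⟩,
        Finset.mem_univ _⟩⟩, hf, rfl⟩
    · rintro ⟨⟨R', hR'⟩, hf⟩
      exact ⟨hf.1, fun e => (Finset.mem_erase.1 hR').1 (hf.2.symm.trans (fix_of_mem e.1))⟩
  have hsum : (D \ sharp P).ncard = ∑ R' ∈ s, (swp P R').ncard := by
    rw [hU, Set.ncard_iUnion_of_finite (fun R' : s => Set.toFinite (swp P (R' : h.Pt)))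
      (fun R' R'' hne' => Set.disjoint_left.2 fun f hf hf' =>
        hne' (Subtype.ext (hf.2.symm.trans hf'.2))),
      finsum_eq_sum_of_fintype, Finset.sum_coe_sort s (fun R' => (swp P R').ncard)]
  have hDP : (D \ sharp P).ncard = ∑ _R' ∈ s, (sharp R).ncard := by
    have hsub : sharp P ⊆ D := fun a ha => mem_D ha.1 ha.2
    rw [Set.ncard_sdiff hsub (Set.toFinite _), D_ncard R, Finset.sum_const, hs,
      Finset.card_erase_of_mem (Finset.mem_univ _), Finset.card_univ, smul_eq_mul,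
      Nat.card_eq_fintype_card, sharp_ncard, sharp_ncard, card_pt_eq P R, Nat.sub_mul, one_mul]
  have hle : ∀ R' ∈ s, (sharp R).ncard ≤ (swp P R').ncard := fun R' hR' => by
    rw [sharp_ncard R, card_pt_eq R R', ← sharp_ncard]
    exact le_swp_ncard (Finset.mem_erase.1 hR').1.symm
  exact ((Finset.sum_eq_sum_iff_of_le hle).1 (hDP.symm.trans hsum) R
    (Finset.mem_erase.2 ⟨hne.symm, Finset.mem_univ _⟩)).symm

/-- Exactly one member interchanges two given members. -/
lemma swp_bijOn {P R : h.Pt} (hne : P ≠ R) {a : G} (ha : a ∈ P) (ha1 : a ≠ 1) :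
    Set.BijOn (fun f => f * a * f) (swp P R) (sharp R) := by
  have hmaps : Set.MapsTo (fun f => f * a * f) (swp P R) (sharp R) := fun f hf =>
    ⟨swp_conj_mem hf ha, swp_conj_ne_one hf ha1⟩
  have hsurj : Set.SurjOn (fun f => f * a * f) (swp P R) (sharp R) := fun b hb =>
    let ⟨f, hf, _, he⟩ := swp_surj hne ha ha1 hb.1 hb.2
    ⟨f, hf, he⟩
  refine ⟨hmaps, ?_, hsurj⟩
  exact fun f hf f' hf' he =>
    Set.inj_on_of_surj_on_of_ncard_le (fun f _ => f * a * f) (fun f hf => hmaps hf)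
      (fun b hb => let ⟨f, hf, he⟩ := hsurj hb; ⟨f, hf, he⟩) (swp_ncard hne).le hf hf' he
      (Set.toFinite _)

lemma swp_eq {P R : h.Pt} (hne : P ≠ R) {a f f' : G} (ha : a ∈ P) (ha1 : a ≠ 1) (hf : f ∈ swp P R)
    (hf' : f' ∈ swp P R) (he : f * a * f = f' * a * f') : f = f' :=
  (swp_bijOn hne ha ha1).injOn hf hf' he

/-- Swappers lie in the group generated by the two points. -/
lemma swp_le_sup {P R : h.Pt} (hne : P ≠ R) {f : G} (hf : f ∈ swp P R) : f ∈ P.1 ⊔ R.1 := by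
  obtain ⟨a, ha, ha1⟩ := exists_ne_one P
  obtain ⟨f', hf', hm, he⟩ :=
    swp_surj hne ha ha1 (swp_conj_mem hf ha) (swp_conj_ne_one hf ha1)
  rwa [← swp_eq hne ha ha1 hf' hf he]

/-- An element commuting with a member and its partner commutes with the interchanging member. -/
lemma commute_swp {P R : h.Pt} (hne : P ≠ R) {a f g : G} (hgP : g • P = P) (hgR : g • R = R)
    (ha : a ∈ P) (ha1 : a ≠ 1) (hf : f ∈ swp P R) (hca : Commute g a)
    (hcb : Commute g (f * a * f)) : Commute g f := by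
  have h1 : g * f * g⁻¹ ∈ swp P R := by
    have := swp_conj (g := g) hf; rwa [hgP, hgR] at this
  have h2 : g * f * g⁻¹ * a * (g * f * g⁻¹) = f * a * f := by
    calc g * f * g⁻¹ * a * (g * f * g⁻¹) = g * f * (g⁻¹ * a * g) * f * g⁻¹ := by group
      _ = g * (f * a * f) * g⁻¹ := by
        rw [mul_assoc g⁻¹ a g, ← hca.eq, ← mul_assoc g⁻¹ g a, inv_mul_cancel, one_mul]; group
      _ = f * a * f := by rw [hcb.eq, mul_inv_cancel_right]
  have h3 := swp_eq hne ha ha1 h1 hf h2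
  exact eq_mul_inv_iff_mul_eq.1 h3.symm |>.symm

lemma n_odd (h : Conf D) [Nonempty h.Pt] : Odd (Nat.card h.Pt) := by
  classical
  obtain ⟨P⟩ := (inferInstance : Nonempty h.Pt)
  obtain ⟨d, hd, hd1⟩ := exists_ne_one P
  have hdD := mem_D hd hd1
  have : Fact (Nat.Prime 2) := ⟨Nat.prime_two⟩
  have hp : IsPGroup 2 (Subgroup.zpowers d) := IsPGroup.of_card (n := 1) (by
    rw [Nat.card_zpowers, pow_one]
    exact orderOf_eq_prime (by rw [pow_two]; exact h.sq d hdD) hd1)
  have hmod := hp.card_modEq_card_fixedPoints h.Pt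
  have h1 : Nat.card (MulAction.fixedPoints (Subgroup.zpowers d) h.Pt) = 1 := by
    rw [Nat.card_eq_one_iff_unique]
    refine ⟨⟨fun x y => Subtype.ext ?_⟩, ⟨P, ?_⟩⟩
    · exact D_fix_unique hdD (x.2 ⟨d, Subgroup.mem_zpowers d⟩) (y.2 ⟨d, Subgroup.mem_zpowers d⟩)
    · rintro ⟨g, hg⟩
      obtain ⟨i, rfl⟩ := Subgroup.mem_zpowers_iff.1 hg
      show d ^ i • P = P
      exact fix_of_mem (P.1.zpow_mem hd i)
  rw [h1] at hmod
  exact Nat.odd_iff.2 hmod

/-! ### Centralisers in two fixed points -/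

/-- The members of a point commuting with all elements of a set. -/
def fixd (P : h.Pt) (V : Set G) : Set G := {a | a ∈ P ∧ a ≠ 1 ∧ ∀ v ∈ V, Commute v a}

/-- The swappers commuting with all elements of a set. -/
def fixs (P R : h.Pt) (V : Set G) : Set G := {f | f ∈ swp P R ∧ ∀ v ∈ V, Commute v f}

omit [Finite G] in
lemma fixs_symm {P R : h.Pt} (V : Set G) : fixs P R V = fixs R P V :=
  Set.ext fun _ => ⟨fun hf => ⟨swp_symm hf.1, hf.2⟩, fun hf => ⟨swp_symm hf.1, hf.2⟩⟩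

lemma fixs_bijOn {P R : h.Pt} (hne : P ≠ R) (V : Set G) (hP : ∀ v ∈ V, v • P = P)
    (hR : ∀ v ∈ V, v • R = R) {a : G} (ha : a ∈ P) (ha1 : a ≠ 1) (hca : ∀ v ∈ V, Commute v a) :
    Set.BijOn (fun f => f * a * f) (fixs P R V) (fixd R V) := by
  refine ⟨fun f hf => ⟨swp_conj_mem hf.1 ha, swp_conj_ne_one hf.1 ha1, fun v hv =>
    ((hf.2 v hv).mul_right (hca v hv)).mul_right (hf.2 v hv)⟩,
    (swp_bijOn hne ha ha1).injOn.mono fun f hf => hf.1, fun b hb => ?_⟩
  obtain ⟨f, hf, -, he⟩ := swp_surj hne ha ha1 hb.1 hb.2.1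
  exact ⟨f, ⟨hf, fun v hv => commute_swp hne (hP v hv) (hR v hv) ha ha1 hf (hca v hv)
    (he ▸ hb.2.2 v hv)⟩, he⟩

lemma fixd_ncard_eq {P R : h.Pt} (hne : P ≠ R) (V : Set G) (hP : ∀ v ∈ V, v • P = P)
    (hR : ∀ v ∈ V, v • R = R) (hPn : (fixd P V).Nonempty) (hRn : (fixd R V).Nonempty) :
    (fixd P V).ncard = (fixd R V).ncard := by
  obtain ⟨a, ha⟩ := hPn
  obtain ⟨b, hb⟩ := hRn
  have h1 := (fixs_bijOn hne V hP hR ha.1 ha.2.1 ha.2.2).ncard_eq
  have h2 := (fixs_bijOn hne.symm V hR hP hb.1 hb.2.1 hb.2.2).ncard_eq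
  rw [fixs_symm] at h2
  exact h2.symm.trans h1

omit [Finite G] in
lemma fixd_eq_sharp_iff {P : h.Pt} (V : Set G) :
    fixd P V = sharp P ↔ ∀ v ∈ V, v ∈ Subgroup.centralizer (P.1 : Set G) := by
  constructor
  · intro e v hv
    rw [Subgroup.mem_centralizer_iff]
    intro a ha
    by_cases ha1 : a = 1
    · simp [ha1]
    · have : a ∈ fixd P V := by rw [e]; exact ⟨ha, ha1⟩
      exact (this.2.2 v hv).eq.symm
  · intro hv
    ext a
    exact ⟨fun ha => ⟨ha.1, ha.2.1⟩, fun ha => ⟨ha.1, ha.2, fun v hv' =>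
      (Subgroup.mem_centralizer_iff.1 (hv v hv') a ha.1).symm⟩⟩

/-- An involution centralising a point centralises every point it fixes. -/
lemma centralizes_of_involution {P R : h.Pt} {t : G} (ht : t * t = 1)
    (hP : t ∈ Subgroup.centralizer (P.1 : Set G)) (hR : t • R = R) :
    t ∈ Subgroup.centralizer (R.1 : Set G) := by
  by_cases hne : P = R
  · exact hne ▸ hP
  obtain ⟨a, ha, ha1⟩ := exists_ne_one P
  have hca : Commute t a := (Subgroup.mem_centralizer_iff.1 hP a ha).symm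
  have hP' : t • P = P := fix_of_commute ha ha1 hca
  obtain ⟨b, hb, hb1, hcb⟩ := exists_commute ht hR
  have hsharp : fixd P {t} = sharp P := (fixd_eq_sharp_iff _).2 (by simpa using hP)
  have he := fixd_ncard_eq hne {t} (by simpa using hP') (by simpa using hR)
    ⟨a, ha, ha1, by simpa using hca⟩ ⟨b, hb, hb1, by simpa using hcb⟩
  have h2 : fixd R {t} = sharp R := Set.eq_of_subset_of_ncard_le (fun x hx => ⟨hx.1, hx.2.1⟩)
    (by rw [← he, hsharp, sharp_ncard, sharp_ncard, card_pt_eq P R]) (Set.toFinite _)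
  exact (fixd_eq_sharp_iff _).1 h2 t rfl

/-- An element whose square is trivial on the members commuting with `V`, acting non-trivially on
them and fixing a second point: its fixed part has square-root order. -/
lemma half {P R : h.Pt} (hne : P ≠ R) (V : Set G) {g : G} (hgP : g • P = P) (hgR : g • R = R)
    (hP : ∀ v ∈ V, v • P = P) (hR : ∀ v ∈ V, v • R = R)
    (hnorm : ∀ a ∈ fixd P V, g * a * g⁻¹ ∈ fixd P V)
    (hsq : ∀ a ∈ fixd P V, Commute (g * g) a)
    {b : G} (hb : b ∈ R) (hb1 : b ≠ 1) (hbV : ∀ v ∈ V, Commute v b) (hbg : Commute g b)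
    (hnt : ∃ a ∈ fixd P V, ¬ Commute g a) :
    (fixd P V).ncard + 1 = ((fixd P (insert g V)).ncard + 1) ^ 2 := by
  classical
  -- the subgroup `A` and the endomorphism `x ↦ x (g x g⁻¹)`
  let A : Subgroup G :=
    { carrier := {x | x ∈ P ∧ ∀ v ∈ V, Commute v x}
      one_mem' := ⟨one_mem_pt P, fun v _ => Commute.one_right v⟩
      mul_mem' := fun hx hy => ⟨mul_mem_pt hx.1 hy.1, fun v hv => (hx.2 v hv).mul_right (hy.2 v hv)⟩
      inv_mem' := fun hx => ⟨P.1.inv_mem hx.1, fun v hv => (hx.2 v hv).inv_right⟩ }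
  have hAg : ∀ x ∈ A, g * x * g⁻¹ ∈ A := fun x hx => by
    by_cases hx1 : x = 1
    · simp [hx1]
    · have := hnorm x ⟨hx.1, hx1, hx.2⟩
      exact ⟨this.1, this.2.2⟩
  let φ : A →* A :=
    { toFun := fun x => ⟨x.1 * (g * x.1 * g⁻¹), A.mul_mem x.2 (hAg x.1 x.2)⟩
      map_one' := Subtype.ext (by simp)
      map_mul' := fun x y => Subtype.ext (by
        simp only [Subgroup.coe_mul]
        have hc : Commute (g * x.1 * g⁻¹) y.1 := commute_mem (hAg x.1 x.2).1 y.2.1
        calc x.1 * y.1 * (g * (x.1 * y.1) * g⁻¹)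
            = x.1 * (y.1 * (g * x.1 * g⁻¹)) * (g * y.1 * g⁻¹) := by group
          _ = x.1 * (g * x.1 * g⁻¹) * (y.1 * (g * y.1 * g⁻¹)) := by rw [← hc.eq]; group) }
  have hker : ∀ x : A, x ∈ φ.ker ↔ Commute g x.1 := fun x => by
    rw [MonoidHom.mem_ker]
    constructor
    · intro e
      have e' : x.1 * (g * x.1 * g⁻¹) = 1 := congrArg Subtype.val e
      have h1 := inv_eq_of_mul_eq_one_right e'
      rw [inv_mem_eq x.2.1] at h1
      exact mul_inv_eq_iff_eq_mul.1 h1.symm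
    · intro hc
      exact Subtype.ext (show x.1 * (g * x.1 * g⁻¹) = 1 by
        rw [hc.eq, mul_inv_cancel_right]; exact sq_mem x.2.1)
  have hrange : φ.range ≤ φ.ker := by
    rintro _ ⟨x, rfl⟩
    rw [hker]
    show g * (x.1 * (g * x.1 * g⁻¹)) = x.1 * (g * x.1 * g⁻¹) * g
    have h2 : g * g * x.1 = x.1 * (g * g) := by
      by_cases hx1 : x.1 = 1
      · simp [hx1]
      · exact hsq x.1 ⟨x.2.1, hx1, x.2.2⟩
    calc g * (x.1 * (g * x.1 * g⁻¹)) = g * x.1 * g⁻¹ * (g * g * x.1) * g⁻¹ := by group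
      _ = g * x.1 * g⁻¹ * x.1 * g := by rw [h2]; group
      _ = _ := by rw [(commute_mem (hAg x.1 x.2).1 x.2.1).eq]
  obtain ⟨a, ha, hna⟩ := hnt
  have haA : a ∈ A := ⟨ha.1, ha.2.2⟩
  set c : A := φ ⟨a, haA⟩ with hc
  have hcker : Commute g c.1 := (hker c).1 (hrange ⟨_, rfl⟩)
  have hc1 : c.1 ≠ 1 := fun e => hna ((hker ⟨a, haA⟩).1 (Subtype.ext e))
  have htrans : φ.ker ≤ φ.range := fun x hx => by
    by_cases hx1 : x.1 = 1
    · rw [show x = 1 from Subtype.ext hx1]; exact one_mem _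
    -- an element commuting with `g` and `V` taking `c` to `x`
    obtain ⟨f, hf, -, he⟩ := swp_surj hne c.2.1 hc1 hb hb1
    obtain ⟨f', hf', -, he'⟩ := swp_surj hne x.2.1 hx1 hb hb1
    have hxg : Commute g x.1 := (hker x).1 hx
    have hfg := commute_swp hne hgP hgR c.2.1 hc1 hf hcker (he ▸ hbg)
    have hf'g := commute_swp hne hgP hgR x.2.1 hx1 hf' hxg (he' ▸ hbg)
    have hfV : ∀ v ∈ V, Commute v (f' * f) := fun v hv =>
      (commute_swp hne (hP v hv) (hR v hv) x.2.1 hx1 hf' (x.2.2 v hv) (he' ▸ hbV v hv)).mul_right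
        (commute_swp hne (hP v hv) (hR v hv) c.2.1 hc1 hf (c.2.2 v hv) (he ▸ hbV v hv))
    have hsP : (f' * f) • P = P := by rw [mul_smul, hf.2, (swp_symm hf').2]
    have hinv : (f' * f)⁻¹ = f * f' := by rw [mul_inv_rev, h.inv_eq hf.1, h.inv_eq hf'.1]
    have hyA : f' * f * a * (f' * f)⁻¹ ∈ A := ⟨conj_mem_of_fix hsP ha.1, fun v hv =>
      ((hfV v hv).mul_right (ha.2.2 v hv)).mul_right (hfV v hv).inv_right⟩
    refine ⟨⟨_, hyA⟩, Subtype.ext ?_⟩
    show f' * f * a * (f' * f)⁻¹ * (g * (f' * f * a * (f' * f)⁻¹) * g⁻¹) = x.1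
    have hgσ : g * (f' * f) = f' * f * g := (hf'g.mul_right hfg).eq
    calc f' * f * a * (f' * f)⁻¹ * (g * (f' * f * a * (f' * f)⁻¹) * g⁻¹)
        = f' * f * a * (f' * f)⁻¹ * (g * (f' * f)) * a * (g * (f' * f))⁻¹ := by group
      _ = f' * f * (a * (g * a * g⁻¹)) * (f' * f)⁻¹ := by rw [hgσ]; group
      _ = f' * (f * c.1 * f) * f' := by
        rw [hinv, show a * (g * a * g⁻¹) = c.1 from rfl]; group
      _ = f' * (f' * x.1 * f') * f' := by rw [he, he']
      _ = x.1 := by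
        rw [show f' * (f' * x.1 * f') * f' = (f' * f') * x.1 * (f' * f') by group,
          h.sq f' hf'.1, one_mul, mul_one]
  have hkr : Nat.card φ.range = Nat.card φ.ker := by rw [le_antisymm hrange htrans]
  have hcA : Nat.card A = Nat.card φ.ker * Nat.card φ.ker := by
    rw [← φ.ker.index_mul_card, Subgroup.index_ker, hkr]
  have hA : Nat.card A = (fixd P V).ncard + 1 := by
    have e : (A : Set G) = insert 1 (fixd P V) := by
      ext x
      constructor
      · intro hx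
        by_cases hx1 : x = 1
        · exact Or.inl hx1
        · exact Or.inr ⟨hx.1, hx1, hx.2⟩
      · rintro (rfl | hx)
        · exact A.one_mem
        · exact ⟨hx.1, hx.2.2⟩
    rw [show Nat.card A = (A : Set G).ncard from Nat.card_coe_set_eq _, e,
      Set.ncard_insert_of_notMem (fun hx => hx.2.1 rfl) (Set.toFinite _)]
  have hK : Nat.card φ.ker = (fixd P (insert g V)).ncard + 1 := by
    have e : (Subtype.val '' (φ.ker : Set A)) = insert 1 (fixd P (insert g V)) := by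
      ext x
      constructor
      · rintro ⟨y, hy, rfl⟩
        by_cases hy1 : y.1 = 1
        · exact Or.inl hy1
        · exact Or.inr ⟨y.2.1, hy1, fun v hv => hv.elim (fun e => e ▸ (hker y).1 hy) (y.2.2 v)⟩
      · rintro (rfl | hx)
        · exact ⟨1, φ.ker.one_mem, rfl⟩
        · exact ⟨⟨x, hx.1, fun v hv => hx.2.2 v (Or.inr hv)⟩,
            (hker _).2 (hx.2.2 g (Or.inl rfl)), rfl⟩
    rw [show Nat.card φ.ker = (φ.ker : Set A).ncard from Nat.card_coe_set_eq _,
      ← Set.ncard_image_of_injective _ Subtype.val_injective, e,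
      Set.ncard_insert_of_notMem (fun hx => hx.2.1 rfl) (Set.toFinite _)]
  rw [← hA, ← hK, hcA, pow_two]

end Cfsg.Agent.Lib.OddTransp84.Core.Conf
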