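import Cfsg.Agent.Lib.OddTransp84.Core.Line

/-!
# Configurations: fixed points of fixed point free elements commuting with an involution
-/

set_option autoImplicit false

namespace Cfsg.Agent.Lib.OddTransp84.Core.Conf

universe u

variable {G : Type u} [Group G] {D : Set G} {h : Conf D}

/-- No non-trivial element of the point commutes with `k`. -/
def Fpf (P : h.Pt) (k : G) : Prop := ∀ e ∈ P, e ≠ 1 → ¬ Commute k e

variable [Finite G]

lemma exists_swp_commute {P R : h.Pt} (hne : P ≠ R) {u : G} (hu : u * u = 1) (hP : u • P = R) :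
    ∃ f ∈ swp P R, Commute u f := by
  classical
  have hR : u • R = P := by rw [← hP, ← mul_smul, hu, one_smul]
  have hui : u⁻¹ = u := inv_eq_of_mul_eq_one_right hu
  have hmaps : ∀ f ∈ swp P R, u * f * u⁻¹ ∈ swp P R := fun f hf => by
    have h1 := swp_conj (g := u) hf
    rw [hP, hR] at h1
    exact swp_symm h1
  by_contra hcon
  push Not at hcon
  let σ : Equiv.Perm (swp P R) :=
    Function.Involutive.toPerm (fun f => ⟨u * f * u⁻¹, hmaps f f.2⟩) fun f => Subtype.ext (by
      show u * (u * f * u⁻¹) * u⁻¹ = f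
      rw [hui, show u * (u * (f : G) * u) * u = (u * u) * f * (u * u) by group, hu, one_mul, mul_one])
  have hodd : Odd (Nat.card (swp P R)) := by
    obtain ⟨m, hm, e⟩ := exists_pow R
    rw [Nat.card_coe_set_eq, swp_ncard hne, sharp_ncard, e]
    exact Nat.Even.sub_odd Nat.one_le_two_pow (even_two.pow_of_ne_zero (by omega)) odd_one
  have : Fintype (swp P R) := Fintype.ofFinite _
  have h2 : (σ : Equiv.Perm (swp P R)) ^ 2 ^ 1 = 1 := Equiv.ext fun f => by
    rw [pow_one, pow_two, Equiv.Perm.mul_apply, Equiv.Perm.one_apply]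
    refine Subtype.ext ?_
    show u * (u * (f : G) * u⁻¹) * u⁻¹ = f
    rw [hui, show u * (u * (f : G) * u) * u = (u * u) * f * (u * u) by group, hu, one_mul, mul_one]
  have : Fact (Nat.Prime 2) := ⟨Nat.prime_two⟩
  have hnd : ¬ 2 ∣ Fintype.card (swp P R) := by
    rw [← Nat.card_eq_fintype_card, ← even_iff_two_dvd]
    exact Nat.not_even_iff_odd.2 hodd
  obtain ⟨f, hf⟩ := Equiv.Perm.exists_fixed_point_of_prime (p := 2) (n := 1) hnd h2
  exact hcon f f.2 (mul_inv_eq_iff_eq_mul.1 (congrArg Subtype.val hf))

/-- An element of prime power order commuting with an involution `u` centralising `P`, fixed point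
free on `P`, fixes only points fixed by `u`. -/
theorem fixed_subset {P : h.Pt} {u k : G} (hu : u * u = 1) (hu1 : u ≠ 1)
    (huP : u ∈ Subgroup.centralizer (P.1 : Set G)) {m : ℕ} (hm : Nat.card P.1 = 2 ^ m) {r : ℕ}
    (hr : r.Prime) (hrm : ¬ r ∣ m) (hkP : k • P = P) (hk : ∃ i, k ^ r ^ i = 1) (hku : Commute k u)
    (hfpf : Fpf P k) (hL : ∀ α : h.Pt, α ≠ P → u • α = α → LineFacts P α) {i : h.Pt}
    (hi : k • i = i) : u • i = i := by
  by_contra hij
  have hne : i ≠ u • i := fun e => hij e.symm
  have huD : u ∉ D := fun huD => by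
    have huPm : u ∈ P := (D_fix_iff huD).1 (fix_of_centralizer huP)
    exact hfpf u huPm hu1 hku
  have huniq : ∀ f ∈ swp i (u • i), Commute u f →
      u * f ∈ Subgroup.centralizer (i.1 : Set G) := by
    intro f hf hc
    set z := u * f with hz
    have hff : f * f = 1 := h.sq f hf.1
    have hzz : z * z = 1 := by
      calc u * f * (u * f) = u * (f * u) * f := by group
        _ = (u * u) * (f * f) := by rw [← hc.eq]; group
        _ = 1 := by rw [hu, hff, one_mul]
    set α := h.pt hf.1 with hα
    have hfα : f ∈ α := mem_pt hf.1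
    have huα : u • α = α := fix_of_commute hfα (h.ne f hf.1) hc
    have huc := centralizes_of_involution hu huP huα
    have hzα : z ∈ Subgroup.centralizer (α.1 : Set G) := mul_mem huc
      (Subgroup.mem_centralizer_iff.2 fun a ha => (commute_mem hfα ha).eq.symm)
    refine centralizes_of_involution hzz hzα ?_
    rw [hz, mul_smul, hf.2, ← mul_smul, hu, one_smul]
  obtain ⟨f, hf, hc⟩ := exists_swp_commute hne hu rfl
  obtain ⟨a, ha, ha1⟩ := exists_ne_one i
  have hkj : k • (u • i) = u • i := by rw [← mul_smul, hku.eq, mul_smul, hi]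
  have hf' : k * f * k⁻¹ ∈ swp i (u • i) := by
    have h1 := swp_conj (g := k) hf
    rwa [hi, hkj] at h1
  have hc' : Commute u (k * f * k⁻¹) :=
    (hku.symm.mul_right hc).mul_right hku.symm.inv_right
  have hsame : ∀ g ∈ swp i (u • i), Commute u g → g * a * g = u * a * u := fun g hg hcg => by
    have h1 := Subgroup.mem_centralizer_iff.1 (huniq g hg hcg) a ha
    have h2 : g * g = 1 := h.sq g hg.1
    have h3 : a = u * g * a * (g * u) := by
      rw [← h1]
      calc a = a * (u * u) := by rw [hu, mul_one]
        _ = a * (u * (g * g) * u) := by rw [h2, mul_one]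
        _ = a * (u * g) * (g * u) := by group
    calc g * a * g = g * (u * g * a * (g * u)) * g := by rw [← h3]
      _ = (g * u) * g * a * (g * (u * g)) := by group
      _ = u * (g * g) * a * ((g * g) * u) := by
          conv_lhs => rw [← hcg.eq, show u * g = g * u from hcg.eq]
          rw [show g * (g * u) = (g * g) * u by group,
            show g * u * g = u * (g * g) by rw [← hcg.eq]; group]
      _ = u * a * u := by rw [h2, mul_one, one_mul]
  have heq : k * f * k⁻¹ = f :=
    swp_eq hne ha ha1 hf' hf ((hsame _ hf' hc').trans (hsame f hf hc).symm)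
  have hkf : Commute k f := mul_inv_eq_iff_eq_mul.1 heq
  set α := h.pt hf.1 with hα
  have hfα : f ∈ α := mem_pt hf.1
  by_cases hαP : α = P
  · exact hfpf f (hαP ▸ hfα) (h.ne f hf.1) hkf
  · obtain ⟨e, he, he1⟩ := exists_ne_one P
    have huα : u • α = α := fix_of_commute hfα (h.ne f hf.1) hc
    have h1 := ((hL α hαP huα).symm.centralizes_of_commute hαP (by rwa [card_pt_eq α P]) hr hrm hkP
      hk hfα (h.ne f hf.1) hkf).2
    exact hfpf e he he1 (Subgroup.mem_centralizer_iff.1 h1 e he).symm

end Cfsg.Agent.Lib.OddTransp84.Core.Conf
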