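import Mathlib

/-!
# Square roots of elements of odd order and the geometric mean

In a set `I` of elements of odd order closed under inverses, square roots and `x y x`, an involutory
automorphism `σ` gives a bijection `(c, y) ↦ c y c` from fixed times inverted elements to `I`.
-/

set_option autoImplicit false

namespace Cfsg.Agent.Lib.OddTransp84.Core

variable {G : Type*} [Group G]

/-- The square root of an element of odd order. -/
noncomputable def sqrtOdd (x : G) : G := x ^ ((orderOf x + 1) / 2)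

lemma sqrtOdd_mul_self {x : G} (h : Odd (orderOf x)) : sqrtOdd x * sqrtOdd x = x := by
  obtain ⟨i, hi⟩ := h
  rw [sqrtOdd, ← pow_add, hi, show (2 * i + 1 + 1) / 2 + (2 * i + 1 + 1) / 2 = (2 * i + 1) + 1 by omega,
    pow_succ, ← hi, pow_orderOf_eq_one, one_mul]

lemma sqrtOdd_sq {y : G} (h : Odd (orderOf y)) : sqrtOdd (y * y) = y := by
  obtain ⟨i, hi⟩ := h
  have hc : Nat.Coprime (orderOf y) 2 := by rw [hi]; simp
  rw [sqrtOdd, ← sq, Nat.Coprime.orderOf_pow hc, ← pow_mul, hi,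
    show 2 * ((2 * i + 1 + 1) / 2) = (2 * i + 1) + 1 by omega, pow_succ, ← hi, pow_orderOf_eq_one,
    one_mul]

lemma odd_orderOf_pow {x : G} (h : Odd (orderOf x)) (n : ℕ) : Odd (orderOf (x ^ n)) :=
  h.of_dvd_nat (orderOf_pow_dvd n)

lemma odd_orderOf_sqrtOdd {x : G} (h : Odd (orderOf x)) : Odd (orderOf (sqrtOdd x)) :=
  odd_orderOf_pow h _

lemma eq_of_sq_eq {x y : G} (hx : Odd (orderOf x)) (hy : Odd (orderOf y)) (h : x * x = y * y) :
    x = y := by rw [← sqrtOdd_sq hx, h, sqrtOdd_sq hy]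

/-- Elements of odd order, closed under inverses, square roots and `x y x`. -/
structure SymSet (I : Set G) : Prop where
  odd : ∀ x ∈ I, Odd (orderOf x)
  inv : ∀ x ∈ I, x⁻¹ ∈ I
  sqrt : ∀ x ∈ I, sqrtOdd x ∈ I
  tri : ∀ x ∈ I, ∀ y ∈ I, x * y * x ∈ I

/-- The fixed and inverted parts of a symmetric set are symmetric. -/
lemma SymSet.fixed {I : Set G} (h : SymSet I) (σ : G ≃* G) : SymSet {x | x ∈ I ∧ σ x = x} where
  odd x hx := h.odd x hx.1
  inv x hx := ⟨h.inv x hx.1, by rw [map_inv, hx.2]⟩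
  sqrt x hx := ⟨h.sqrt x hx.1, by rw [sqrtOdd, map_pow, hx.2]⟩
  tri x hx y hy := ⟨h.tri x hx.1 y hy.1, by rw [map_mul, map_mul, hx.2, hy.2]⟩

lemma SymSet.inverted {I : Set G} (h : SymSet I) (σ : G ≃* G) :
    SymSet {x | x ∈ I ∧ σ x = x⁻¹} where
  odd x hx := h.odd x hx.1
  inv x hx := ⟨h.inv x hx.1, by rw [map_inv, hx.2]⟩
  sqrt x hx := ⟨h.sqrt x hx.1, by rw [sqrtOdd, map_pow, hx.2, inv_pow]⟩
  tri x hx y hy := ⟨h.tri x hx.1 y hy.1, by
    rw [map_mul, map_mul, hx.2, hy.2]; simp [mul_assoc]⟩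

/-- The geometric mean gives `|I| = |fixed| * |inverted|`. -/
theorem SymSet.ncard_eq {I : Set G} (h : SymSet I) (σ : G ≃* G) (hσI : ∀ x ∈ I, σ x ∈ I)
    (hσ : ∀ x ∈ I, σ (σ x) = x) :
    I.ncard = {x | x ∈ I ∧ σ x = x}.ncard * {x | x ∈ I ∧ σ x = x⁻¹}.ncard := by
  rw [← Set.ncard_prod]
  refine (Set.ncard_congr (fun p _ => p.1 * p.2 * p.1) ?_ ?_ ?_).symm
  · rintro ⟨c, y⟩ ⟨hc, hy⟩
    exact h.tri c hc.1 y hy.1
  · rintro ⟨c, y⟩ ⟨c', y'⟩ ⟨hc, hy⟩ ⟨hc', hy'⟩ he
    simp only [Set.mem_ofPred_eq] at hc hy hc' hy' he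
    set x := c * y * c with hx
    have hxI : x ∈ I := h.tri c hc.1 y hy.1
    -- `c * c` solves `m x⁻¹ m = σ x`
    have key : ∀ d w : G, d ∈ I → σ d = d → σ w = w⁻¹ → d * w * d = x →
        (sqrtOdd x)⁻¹ * (d * d) * (sqrtOdd x)⁻¹ =
          sqrtOdd ((sqrtOdd x)⁻¹ * σ x * (sqrtOdd x)⁻¹) := by
      intro d w hd hσd hσw hdw
      set s := sqrtOdd x with hs
      have hsI : s ∈ I := h.sqrt x hxI
      have hddI : d * d ∈ I := by
        have h2 := h.tri (sqrtOdd d) (h.sqrt d hd) d hd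
        have hc : Commute (sqrtOdd d) d := (Commute.refl d).pow_left _
        rwa [hc.eq, mul_assoc, sqrtOdd_mul_self (h.odd d hd)] at h2
      have hW : s⁻¹ * (d * d) * s⁻¹ ∈ I := h.tri _ (h.inv s hsI) _ hddI
      rw [← sqrtOdd_sq (h.odd _ hW)]
      congr 1
      have hss : s⁻¹ * s⁻¹ = x⁻¹ := by rw [← mul_inv_rev, sqrtOdd_mul_self (h.odd x hxI)]
      have hσx : σ x = d * w⁻¹ * d := by rw [← hdw, map_mul, map_mul, hσd, hσw]
      calc s⁻¹ * (d * d) * s⁻¹ * (s⁻¹ * (d * d) * s⁻¹)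
          = s⁻¹ * (d * d * (s⁻¹ * s⁻¹) * (d * d)) * s⁻¹ := by group
        _ = s⁻¹ * σ x * s⁻¹ := by
          rw [hss, hσx, ← hdw]
          group
    have h1 := key c y hc.1 hc.2 hy.2 rfl
    have h2 := key c' y' hc'.1 hc'.2 hy'.2 he.symm
    have hcc : c * c = c' * c' := by
      have h3 := h1.trans h2.symm
      exact mul_left_cancel (mul_right_cancel h3)
    have hce : c = c' := eq_of_sq_eq (h.odd c hc.1) (h.odd c' hc'.1) hcc
    subst hce
    exact Prod.ext rfl (mul_left_cancel (mul_right_cancel (hx ▸ he)))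
  · intro x hx
    set s := sqrtOdd x with hs
    have hsI : s ∈ I := h.sqrt x hx
    have hss : s * s = x := sqrtOdd_mul_self (h.odd x hx)
    set z := s⁻¹ * σ x * s⁻¹ with hz
    have hzI : z ∈ I := h.tri _ (h.inv s hsI) _ (hσI x hx)
    set w := sqrtOdd z with hw
    have hwI : w ∈ I := h.sqrt z hzI
    set m := s * w * s with hm
    have hmI : m ∈ I := h.tri s hsI w hwI
    have hmx : m * x⁻¹ * m = σ x := by
      calc m * x⁻¹ * m = s * (w * (s * (s * s)⁻¹ * s) * w) * s := by rw [hm, hss]; group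
        _ = s * (w * w) * s := by group
        _ = σ x := by rw [hw, sqrtOdd_mul_self (h.odd z hzI), hz]; group
    have hσm : σ m = m := by
      have h1 : σ m * (σ x)⁻¹ * σ m = x := by rw [← map_inv, ← map_mul, ← map_mul, hmx, hσ x hx]
      have h2 : σ m * x⁻¹ * σ m = σ x := by
        conv_lhs => rw [← h1]
        group
      have hW : ∀ d ∈ I, d * x⁻¹ * d = σ x → s⁻¹ * d * s⁻¹ = w := by
        intro d hd hdx
        refine eq_of_sq_eq (h.odd _ (h.tri _ (h.inv s hsI) _ hd)) (h.odd w hwI) ?_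
        rw [hw, sqrtOdd_mul_self (h.odd z hzI), hz, ← hdx, ← hss]
        group
      have h3 := hW _ (hσI m hmI) h2
      rw [← hW _ hmI hmx] at h3
      exact mul_left_cancel (mul_right_cancel h3)
    set c := sqrtOdd m with hc
    have hcI : c ∈ I := h.sqrt m hmI
    have hcc : c * c = m := sqrtOdd_mul_self (h.odd m hmI)
    have hσc : σ c = c := by rw [hc, sqrtOdd, map_pow, hσm]
    refine ⟨(c, c⁻¹ * x * c⁻¹), ⟨⟨hcI, hσc⟩, h.tri _ (h.inv c hcI) x hx, ?_⟩, by group⟩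
    rw [map_mul, map_mul, map_inv, hσc, ← hmx, ← hcc]
    group

end Cfsg.Agent.Lib.OddTransp84.Core
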