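import Cfsg.Agent.Lib.ZStar.Consequences
import Cfsg.Agent.Lib.ZStar.StronglyClosed
import Cfsg.Agent.Lib.OddTransp84.Core.Mean

/-!
# Glauberman's theorem inside a subgroup
-/

set_option autoImplicit false

namespace Cfsg.Agent.Lib.OddTransp84.Core

universe u

variable {G : Type u} [Group G] [Finite G]

/-- The odd core of a subgroup, in the group. -/
def oddOf (N : Subgroup G) : Subgroup G := (Cfsg.oddCore ↥N).map N.subtype

lemma oddOf_le (N : Subgroup G) : oddOf N ≤ N := Subgroup.map_subtype_le _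

lemma odd_card_oddOf (N : Subgroup G) : Odd (Nat.card (oddOf N)) := by
  rw [oddOf, Nat.card_congr (Subgroup.equivMapOfInjective _ _ N.subtype_injective).toEquiv.symm]
  exact ZStar.Elements.oddCore_odd

lemma odd_orderOf_oddOf {N : Subgroup G} {x : G} (hx : x ∈ oddOf N) : Odd (orderOf x) :=
  (odd_card_oddOf N).of_dvd_nat (Subgroup.orderOf_dvd_natCard _ hx)

lemma conj_mem_oddOf {N : Subgroup G} {g x : G} (hg : g ∈ N) (hx : x ∈ oddOf N) :
    g * x * g⁻¹ ∈ oddOf N := by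
  obtain ⟨y, hy, rfl⟩ := hx
  have hn : (Cfsg.oddCore ↥N).Normal := by unfold Cfsg.oddCore; infer_instance
  exact ⟨⟨g, hg⟩ * y * ⟨g, hg⟩⁻¹, hn.conj_mem y hy ⟨g, hg⟩, rfl⟩

lemma isIsolated_mk {N : Subgroup G} {f : G} (hfN : f ∈ N) (hf : f * f = 1) (hf1 : f ≠ 1)
    (hiso : ∀ g ∈ N, Commute f (g * f * g⁻¹) → g * f * g⁻¹ = f) :
    Cfsg.IsIsolatedInvolution (⟨f, hfN⟩ : N) := by
  refine ⟨?_, fun g hg => Subtype.ext (hiso g g.2 (congrArg Subtype.val hg.eq))⟩
  rw [Subgroup.orderOf_mk]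
  exact orderOf_eq_prime (by rw [pow_two, hf]) hf1

/-- An isolated involution of `N` is central modulo the odd core of `N`. -/
theorem commutator_mem_oddOf {N : Subgroup G} {f g : G} (hfN : f ∈ N) (hf : f * f = 1) (hf1 : f ≠ 1)
    (hiso : ∀ g ∈ N, Commute f (g * f * g⁻¹) → g * f * g⁻¹ = f) (hg : g ∈ N) :
    f * g * f⁻¹ * g⁻¹ ∈ oddOf N :=
  ⟨_, ZStar.Consequences.isolated_commutator_mem ZStar.StronglyClosed.involutionThm
    (isIsolated_mk hfN hf hf1 hiso) ⟨g, hg⟩, rfl⟩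

/-- If the product of two involutions of `N`, one of them isolated, has odd order, it lies in the
odd core of `N`. -/
theorem mul_mem_oddOf {N : Subgroup G} {f f' : G} (hfN : f ∈ N) (hf : f * f = 1) (hf1 : f ≠ 1)
    (hiso : ∀ g ∈ N, Commute f (g * f * g⁻¹) → g * f * g⁻¹ = f) (hf'N : f' ∈ N) (hf' : f' * f' = 1)
    (ho : Odd (orderOf (f * f'))) : f * f' ∈ oddOf N := by
  have h := commutator_mem_oddOf hfN hf hf1 hiso hf'N
  rw [inv_eq_of_mul_eq_one_right hf, inv_eq_of_mul_eq_one_right hf'] at h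
  rw [← sqrtOdd_sq ho, sqrtOdd]
  refine Subgroup.pow_mem _ ?_ _
  simpa [mul_assoc] using h

/-- Two involutions with product of odd order are conjugate by a power of the product. -/
theorem exists_conj_of_odd {f f' : G} (hf : f * f = 1) (hf' : f' * f' = 1)
    (ho : Odd (orderOf (f * f'))) :
    ∃ y : G, y ∈ Subgroup.zpowers (f * f') ∧ f * y * f = y⁻¹ ∧ y⁻¹ * f * y = f' := by
  have hfi : f⁻¹ = f := inv_eq_of_mul_eq_one_right hf
  have hflip : f * (f * f') * f = (f * f')⁻¹ := by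
    rw [mul_inv_rev, hfi, inv_eq_of_mul_eq_one_right hf', ← mul_assoc f f f', hf, one_mul]
  have hy : f * sqrtOdd (f * f') * f = (sqrtOdd (f * f'))⁻¹ := by
    have h1 := (conj_pow (a := f) (b := f * f') (i := (orderOf (f * f') + 1) / 2)).symm
    rw [hfi] at h1
    rw [sqrtOdd, h1, hflip, inv_pow]
  refine ⟨sqrtOdd (f * f'), Subgroup.npow_mem_zpowers _ _, hy, ?_⟩
  rw [← hy]
  calc f * sqrtOdd (f * f') * f * f * sqrtOdd (f * f')
      = f * (sqrtOdd (f * f') * (f * f) * sqrtOdd (f * f')) := by simp [mul_assoc]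
    _ = f' := by rw [hf, mul_one, sqrtOdd_mul_self ho, ← mul_assoc, hf, one_mul]

end Cfsg.Agent.Lib.OddTransp84.Core
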