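import Cfsg.Agent.Lib.OddTransp84.Core.Count

/-!
# Configurations on subgroups and on central quotients
-/

set_option autoImplicit false

namespace Cfsg.Agent.Lib.OddTransp84.Core

universe u v

variable {G : Type u} [Group G] {D : Set G}

/-- The members in a subgroup. -/
def memIn (M : Subgroup G) (D : Set G) : Set M := {x | (x : G) ∈ D}

lemma closure_memIn {M : Subgroup G} {D' : Set G} (hsub : D' ⊆ D) (hM : Subgroup.closure D' = M) :
    Subgroup.closure (memIn M D) = ⊤ := by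
  rw [eq_top_iff]
  rintro ⟨x, hx⟩ -
  have h1 : M ≤ (Subgroup.closure (memIn M D)).map M.subtype := by
    conv_lhs => rw [← hM]
    rw [Subgroup.closure_le]
    exact fun d hd => ⟨⟨d, hM ▸ Subgroup.subset_closure hd⟩, Subgroup.subset_closure (hsub hd), rfl⟩
  obtain ⟨y, hy, hyx⟩ := h1 hx
  exact (Subtype.ext hyx : y = ⟨x, hx⟩) ▸ hy

namespace Conf

/-- The configuration in a subgroup. -/
theorem restrict (h : Conf D) {M : Subgroup G}
    (hp : ∀ d ∈ D, d ∈ M → ∃ e ∈ D, e ∈ M ∧ e ≠ d ∧ Commute e d) : Conf (memIn M D) where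
  sq d hd := Subtype.ext (h.sq d hd)
  ne d hd e := h.ne d hd (congrArg Subtype.val e)
  conj g d hd := h.conj g d hd
  trans a ha b hb c hc hab hbc := Subtype.ext (h.trans a ha b hb c hc (congrArg Subtype.val hab.eq)
    (congrArg Subtype.val hbc.eq)).eq
  mul a ha b hb hab hne := h.mul a ha b hb (congrArg Subtype.val hab.eq) fun e => hne (Subtype.ext e)
  odd a ha b hb hab := by
    rw [← Subgroup.orderOf_coe, Subgroup.coe_mul]
    exact h.odd a ha b hb fun e => hab (Subtype.ext e.eq)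
  partner d hd := by
    obtain ⟨e, he, heM, hne, hc⟩ := hp d hd d.2
    exact ⟨⟨e, heM⟩, he, fun e' => hne (congrArg Subtype.val e'), Subtype.ext hc.eq⟩

variable {h : Conf D} {M : Subgroup G} {hM : Conf (memIn M D)}

/-- The point of the whole configuration containing a point of the restricted one. -/
noncomputable def emb (h : Conf D) (γ : hM.Pt) : h.Pt :=
  h.pt (show ((exists_ne_one γ).choose : G) ∈ D from
    (mem_D (exists_ne_one γ).choose_spec.1 (exists_ne_one γ).choose_spec.2 :))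

lemma mem_emb_iff {γ : hM.Pt} {a : M} : (a : G) ∈ emb h γ ↔ a ∈ γ := by
  obtain ⟨hcm, hc1⟩ := (exists_ne_one γ).choose_spec
  set c := (exists_ne_one γ).choose
  have hcD : (c : G) ∈ D := (mem_D hcm hc1 :)
  have hce : (c : G) ∈ emb h γ := mem_pt hcD
  by_cases ha1 : a = 1
  · subst ha1
    exact ⟨fun _ => one_mem_pt γ, fun _ => one_mem_pt _⟩
  constructor
  · intro ha
    refine (mem_iff_commute hcm hc1 ?_).2 (Subtype.ext (commute_mem ha hce).eq)
    exact mem_D (P := emb h γ) ha fun e => ha1 (Subtype.ext e)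
  · intro ha
    exact (mem_iff_commute hce (h.ne _ hcD) (show (a : G) ∈ D from (mem_D ha ha1 :))).2
      (congrArg Subtype.val (commute_mem ha hcm).eq)

lemma emb_injective : Function.Injective (emb h (hM := hM)) := fun γ δ e => by
  obtain ⟨a, ha, ha1⟩ := exists_ne_one γ
  exact eq_of_mem ha (mem_emb_iff.1 (e ▸ mem_emb_iff.2 ha)) ha1

lemma smul_emb (g : M) (γ : hM.Pt) : (g : G) • emb h γ = emb h (g • γ) := by
  obtain ⟨a, ha, ha1⟩ := exists_ne_one γ
  exact smul_eq_of_mem (mem_emb_iff.2 ha) (fun e => ha1 (Subtype.ext e))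
    ((mem_emb_iff (a := g * a * g⁻¹)).2 (conj_mem_smul ha))

lemma exists_emb_eq {γ : h.Pt} {a : G} (haM : a ∈ M) (ha : a ∈ γ) (ha1 : a ≠ 1) :
    ∃ γ' : hM.Pt, emb h γ' = γ := by
  have haD : (⟨a, haM⟩ : M) ∈ memIn M D := (mem_D ha ha1 : a ∈ D)
  exact ⟨hM.pt haD, eq_of_mem ((mem_emb_iff (a := ⟨a, haM⟩)).2 (mem_pt haD)) ha ha1⟩

variable {H : Type v} [Group H] {π : G →* H}

lemma commute_of_map (h : Conf D) (hker : π.ker ≤ Subgroup.center G) {a b : G} (ha : a ∈ D)
    (hb : b ∈ D) (hc : Commute (π a) (π b)) : Commute a b := by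
  by_contra hab
  have ho := h.odd a ha b hb hab
  have h2 : a * b * (a * b) ∈ π.ker := by
    rw [MonoidHom.mem_ker, map_mul, map_mul]
    calc π a * π b * (π a * π b) = π a * (π b * π a) * π b := by group
      _ = π a * π a * (π b * π b) := by rw [← hc.eq]; group
      _ = 1 := by rw [← map_mul, ← map_mul, h.sq a ha, h.sq b hb, map_one, one_mul]
  have h3 : a * b ∈ π.ker := by
    rw [← sqrtOdd_sq ho, sqrtOdd]
    exact pow_mem h2 _
  have h4 := Subgroup.mem_center_iff.1 (hker h3) a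
  apply hab
  calc a * b = a * (a * (a * b)) := by rw [← mul_assoc a a b, h.sq a ha, one_mul]
    _ = a * (a * b * a) := by rw [h4]
    _ = b * a := by rw [← mul_assoc, ← mul_assoc, h.sq a ha, one_mul]

/-- The configuration in a central quotient. -/
theorem quot (h : Conf D) (hsurj : Function.Surjective π) (hker : π.ker ≤ Subgroup.center G)
    (hDZ : ∀ d ∈ D, d ∉ Subgroup.center G) : Conf (π '' D) where
  sq := by rintro _ ⟨d, hd, rfl⟩; rw [← map_mul, h.sq d hd, map_one]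
  ne := by rintro _ ⟨d, hd, rfl⟩ e; exact hDZ d hd (hker e)
  conj g := by
    rintro _ ⟨d, hd, rfl⟩
    obtain ⟨g, rfl⟩ := hsurj g
    exact ⟨g * d * g⁻¹, h.conj g d hd, by rw [map_mul, map_mul, map_inv]⟩
  trans := by
    rintro _ ⟨a, ha, rfl⟩ _ ⟨b, hb, rfl⟩ _ ⟨c, hc, rfl⟩ hab hbc
    exact (h.trans a ha b hb c hc (commute_of_map h hker ha hb hab)
      (commute_of_map h hker hb hc hbc)).map π
  mul := by
    rintro _ ⟨a, ha, rfl⟩ _ ⟨b, hb, rfl⟩ hab hne
    exact ⟨a * b, h.mul a ha b hb (commute_of_map h hker ha hb hab) fun e => hne (e ▸ rfl), map_mul π a b⟩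
  odd := by
    rintro _ ⟨a, ha, rfl⟩ _ ⟨b, hb, rfl⟩ hab
    rw [← map_mul]
    exact (h.odd a ha b hb fun e => hab (e.map π)).of_dvd_nat (orderOf_map_dvd π _)
  partner := by
    rintro _ ⟨d, hd, rfl⟩
    obtain ⟨e, he, hne, hc⟩ := h.partner d hd
    refine ⟨π e, ⟨e, he, rfl⟩, fun e' => hDZ _ (h.mul e he d hd hc hne) (hker ?_), hc.map π⟩
    rw [MonoidHom.mem_ker, map_mul, e', ← map_mul, h.sq d hd, map_one]

variable {hQ : Conf (π '' D)}

/-- The point of the quotient. -/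
noncomputable def qpt (hQ : Conf (π '' D)) (γ : h.Pt) : hQ.Pt :=
  hQ.pt (show π (exists_ne_one γ).choose ∈ π '' D from
    ⟨_, mem_D (exists_ne_one γ).choose_spec.1 (exists_ne_one γ).choose_spec.2, rfl⟩)

lemma mem_qpt {γ : h.Pt} {a : G} (ha : a ∈ γ) : π a ∈ qpt hQ γ := by
  obtain ⟨hcm, hc1⟩ := (exists_ne_one γ).choose_spec
  by_cases ha1 : π a = 1
  · rw [ha1]; exact one_mem_pt _
  have hcD : π (exists_ne_one γ).choose ∈ π '' D := ⟨_, mem_D hcm hc1, rfl⟩
  refine (mem_iff_commute (mem_pt hcD) (hQ.ne _ hcD)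
    ⟨a, mem_D ha (fun e => ha1 (by rw [e, map_one])), rfl⟩).2 ?_
  exact (commute_mem ha hcm).map π

lemma qpt_injective (hker : π.ker ≤ Subgroup.center G) :
    Function.Injective (qpt hQ (h := h)) := fun γ δ e => by
  obtain ⟨a, ha, ha1⟩ := exists_ne_one γ
  obtain ⟨b, hb, hb1⟩ := exists_ne_one δ
  have h1 := mem_qpt (hQ := hQ) hb
  rw [← e] at h1
  exact eq_of_commute ha ha1 hb hb1 (commute_of_map h hker (mem_D ha ha1) (mem_D hb hb1)
    (commute_mem (mem_qpt (hQ := hQ) ha) h1))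

lemma qpt_surjective : Function.Surjective (qpt hQ (h := h)) := fun γ => by
  obtain ⟨x, hx, hx1⟩ := exists_ne_one γ
  obtain ⟨d, hd, rfl⟩ := mem_D hx hx1
  exact ⟨h.pt hd, eq_of_mem (mem_qpt (mem_pt hd)) hx hx1⟩

lemma qpt_smul (g : G) (γ : h.Pt) : π g • qpt hQ γ = qpt hQ (g • γ) := by
  obtain ⟨a, ha, ha1⟩ := exists_ne_one γ
  have hd : π a ∈ π '' D := ⟨a, mem_D ha ha1, rfl⟩
  refine smul_eq_of_mem (mem_qpt ha) (hQ.ne _ hd) ?_
  rw [← map_inv, ← map_mul, ← map_mul]
  exact mem_qpt (conj_mem_smul ha)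

lemma exists_of_mem_qpt (hker : π.ker ≤ Subgroup.center G) {γ : h.Pt} {x : H} (hx : x ∈ qpt hQ γ) :
    ∃ a, a ∈ γ ∧ π a = x := by
  by_cases hx1 : x = 1
  · exact ⟨1, one_mem_pt γ, by rw [map_one, hx1]⟩
  obtain ⟨d, hd, rfl⟩ := mem_D hx hx1
  obtain ⟨a, ha, ha1⟩ := exists_ne_one γ
  exact ⟨d, (mem_iff_commute ha ha1 hd).2
    (commute_of_map h hker hd (mem_D ha ha1) (commute_mem hx (mem_qpt ha))), rfl⟩

/-- A group generated by a configuration with two points has no abelian quotient. -/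
theorem hom_eq_one (hgen : Subgroup.closure D = ⊤) (htwo : ∀ P : h.Pt, ∃ R : h.Pt, P ≠ R)
    {A : Type*} [CommGroup A] (φ : G →* A) (g : G) : φ g = 1 := by
  have hd : ∀ d ∈ D, φ d = 1 := by
    intro d hd
    obtain ⟨e, he, hne, hc⟩ := h.partner d hd
    obtain ⟨R, hR⟩ := htwo (h.pt hd)
    obtain ⟨b, hb, hb1⟩ := exists_ne_one R
    have hconj : ∀ a, a ∈ h.pt hd → a ≠ 1 → φ a = φ b := fun a ha ha1 => by
      obtain ⟨f, hf, -, hfe⟩ := swp_surj hR ha ha1 hb hb1
      rw [← hfe, map_mul, map_mul, mul_comm (φ f), mul_assoc, ← map_mul, h.sq f hf.1, map_one,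
        mul_one]
    have hem : e ∈ h.pt hd := (mem_iff_commute (mem_pt hd) (h.ne d hd) he).2 hc
    have hdeD : d * e ∈ D := h.mul d hd e he hc.symm hne.symm
    have hde := hconj _ (mul_mem_pt (mem_pt hd) hem) (h.ne _ hdeD)
    rw [map_mul, hconj d (mem_pt hd) (h.ne d hd), hconj e hem (h.ne e he)] at hde
    rw [hconj d (mem_pt hd) (h.ne d hd)]
    exact mul_eq_left.1 hde
  have h1 : Subgroup.closure D ≤ φ.ker := (Subgroup.closure_le _).2 hd
  exact h1 (hgen ▸ Subgroup.mem_top g)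

/-- The quotient by the centre has trivial centre. -/
theorem center_quotient_eq_bot (hgen : Subgroup.closure D = ⊤)
    (htwo : ∀ P : h.Pt, ∃ R : h.Pt, P ≠ R) :
    Subgroup.center (G ⧸ Subgroup.center G) = ⊥ := by
  rw [Subgroup.eq_bot_iff_forall]
  intro x hx
  induction x using QuotientGroup.induction_on with | _ x => ?_
  rw [QuotientGroup.eq_one_iff, Subgroup.mem_center_iff]
  have hmem : ∀ g, x * g * x⁻¹ * g⁻¹ ∈ Subgroup.center G := fun g => by
    rw [← QuotientGroup.eq_one_iff, QuotientGroup.mk_mul, QuotientGroup.mk_mul,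
      QuotientGroup.mk_mul, ← Subgroup.mem_center_iff.1 hx (g : G ⧸ Subgroup.center G),
      QuotientGroup.mk_inv, QuotientGroup.mk_inv]
    group
  let φ : G →* Subgroup.center G :=
    { toFun := fun g => ⟨_, hmem g⟩
      map_one' := Subtype.ext (by simp)
      map_mul' := fun g g' => Subtype.ext (by
        have hc := Subgroup.mem_center_iff.1 (hmem g') g
        show x * (g * g') * x⁻¹ * (g * g')⁻¹ = x * g * x⁻¹ * g⁻¹ * (x * g' * x⁻¹ * g'⁻¹)
        calc x * (g * g') * x⁻¹ * (g * g')⁻¹ = x * g * x⁻¹ * (x * g' * x⁻¹ * g'⁻¹) * g⁻¹ := by group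
          _ = x * g * x⁻¹ * g⁻¹ * (g * (x * g' * x⁻¹ * g'⁻¹)) * g⁻¹ := by group
          _ = _ := by rw [hc]; group) }
  intro g
  let : CommGroup (Subgroup.center G) :=
    { (inferInstance : Group (Subgroup.center G)) with
      mul_comm := fun a b => Subtype.ext (Subgroup.mem_center_iff.1 b.2 a.1) }
  have h1 : x * g * x⁻¹ * g⁻¹ = 1 :=
    congrArg Subtype.val (hom_eq_one (h := h) hgen htwo φ g)
  exact (mul_inv_eq_iff_eq_mul.1 (mul_inv_eq_one.1 h1)).symm

end Conf

end Cfsg.Agent.Lib.OddTransp84.Core
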