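import Cfsg.Agent.Lib.OddTransp84.Core.Bad
import Cfsg.Agent.Lib.OddTransp84.Core.Sub

/-!
# Configurations without even pairs: the layer of an involution fixing two points

The members commuting with `u` generate a group whose quotient by its centre is again a
configuration without even pairs; its points are the points fixed by `u`.
-/

set_option autoImplicit false

namespace Cfsg.Agent.Lib.OddTransp84.Core

universe u

variable {G : Type u} [Group G]

/-- The group generated by the members commuting with `v`. -/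
def lay (D : Set G) (v : G) : Subgroup G := Subgroup.closure {d | d ∈ D ∧ Commute d v}

/-- Its quotient by the centre. -/
abbrev LayQuot (D : Set G) (v : G) : Type u := ↥(lay D v) ⧸ Subgroup.center ↥(lay D v)

/-- The projection. -/
abbrev layMap (D : Set G) (v : G) : ↥(lay D v) →* LayQuot D v := QuotientGroup.mk' _

/-- The members of the quotient. -/
def layD (D : Set G) (v : G) : Set (LayQuot D v) := layMap D v '' memIn (lay D v) D

lemma commute_of_mem_lay {D : Set G} {v x : G} (hx : x ∈ lay D v) : Commute x v := by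
  have h1 : lay D v ≤ Subgroup.centralizer {v} := (Subgroup.closure_le _).2 fun d hd =>
    Subgroup.mem_centralizer_singleton_iff.2 hd.2.eq
  exact Subgroup.mem_centralizer_singleton_iff.1 (h1 hx)

lemma mem_lay {D : Set G} {v d : G} (hd : d ∈ D) (hc : Commute d v) : d ∈ lay D v :=
  Subgroup.subset_closure ⟨hd, hc⟩

/-- A subgroup element of finite order has powers agreeing with it in a group where its image has
order prime to a given number. -/
lemma exists_two_part [Finite G] (x : G) :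
    ∃ c : ℕ, Odd c ∧ ∃ i, (x ^ c) ^ 2 ^ i = 1 := by
  refine ⟨orderOf x / 2 ^ (orderOf x).factorization 2, ?_, (orderOf x).factorization 2, ?_⟩
  · rw [← Nat.not_even_iff_odd, even_iff_two_dvd]
    exact Nat.not_dvd_ordCompl Nat.prime_two (orderOf_pos x).ne'
  · rw [← pow_mul, mul_comm, Nat.ordProj_mul_ordCompl_eq_self, pow_orderOf_eq_one]

namespace Conf

variable {D : Set G} {h : Conf D}

/-- The standing hypotheses of the layer of `v`. -/
structure LCtx (h : Conf D) (P R : h.Pt) (v : G) : Prop where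
  full : Full h
  noEven : NoEven h
  bad : Bad P R v
  big : 2 ≤ (fixd P {v}).ncard

namespace LCtx

variable [Finite G] {P R : h.Pt} {v : G} (C : LCtx h P R v)
include C

lemma exists_pair {γ : h.Pt} (hγ : v • γ = γ) : ∃ δ : h.Pt, Bad γ δ v := by
  by_cases e : γ = P
  · exact ⟨R, e ▸ C.bad⟩
  · exact ⟨P, e, C.bad.sq, C.bad.ne_one, hγ, C.bad.left⟩

lemma ncard_fixd {γ : h.Pt} (hγ : v • γ = γ) :
    (fixd γ {v}).ncard = (fixd P {v}).ncard := by
  obtain ⟨δ, hb⟩ := C.exists_pair hγ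
  exact hb.ncard_eq C.noEven C.bad

omit C in
lemma fix_of_cd {d : G} (hd : d ∈ D) (hc : Commute d v) : v • h.pt hd = h.pt hd :=
  fix_of_commute (mem_pt hd) (h.ne d hd) hc.symm

lemma exists_mem {γ : h.Pt} (hγ : v • γ = γ) (a : G) :
    ∃ e ∈ γ, e ≠ 1 ∧ e ≠ a ∧ Commute e v := by
  have h2 : 1 < (fixd γ {v}).ncard := by
    have h0 := C.ncard_fixd hγ
    have := C.big
    omega
  obtain ⟨e, he, hne⟩ := Set.exists_ne_of_one_lt_ncard h2 a
  exact ⟨e, he.1, he.2.1, hne, (he.2.2 v rfl).symm⟩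

lemma confL : Conf (memIn (lay D v) D) := h.restrict fun d hd hdL => by
  have hc := commute_of_mem_lay hdL
  obtain ⟨e, he, he1, hne, hec⟩ := C.exists_mem (fix_of_cd hd hc) d
  exact ⟨e, mem_D he he1, mem_lay (mem_D he he1) hec, hne, commute_mem he (mem_pt hd)⟩

lemma not_central {d : G} (hd : d ∈ D) (hdL : d ∈ lay D v) :
    (⟨d, hdL⟩ : lay D v) ∉ Subgroup.center (lay D v) := fun hz => by
  have key : ∀ γ : h.Pt, v • γ = γ → d ∈ γ := fun γ hγ => by
    obtain ⟨e, he, he1, -, hec⟩ := C.exists_mem hγ 1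
    refine (mem_iff_commute he he1 hd).2 ?_
    exact (congrArg Subtype.val
      (Subgroup.mem_center_iff.1 hz ⟨e, mem_lay (mem_D he he1) hec⟩)).symm
  exact C.bad.ne (eq_of_mem (key P C.bad.left) (key R C.bad.right) (h.ne d hd))

lemma confQ : Conf (layD D v) :=
  C.confL.quot (QuotientGroup.mk'_surjective _) (by rw [QuotientGroup.ker_mk'])
    fun d hd => C.not_central hd d.2

lemma layMap_eq_one {x : lay D v} : layMap D v x = 1 ↔ x ∈ Subgroup.center (lay D v) :=
  QuotientGroup.eq_one_iff x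

/-- The point of the quotient attached to a point fixed by `v`. -/
noncomputable def bar (γ : h.Pt) (hγ : v • γ = γ) : C.confQ.Pt :=
  C.confQ.pt (d := layMap D v ⟨(C.exists_mem hγ 1).choose,
      mem_lay (mem_D (C.exists_mem hγ 1).choose_spec.1 (C.exists_mem hγ 1).choose_spec.2.1)
        (C.exists_mem hγ 1).choose_spec.2.2.2⟩)
    ⟨_, (mem_D (C.exists_mem hγ 1).choose_spec.1 (C.exists_mem hγ 1).choose_spec.2.1 :), rfl⟩

lemma mem_bar {γ : h.Pt} (hγ : v • γ = γ) {a : lay D v} (ha : (a : G) ∈ γ) :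
    layMap D v a ∈ C.bar γ hγ := by
  by_cases ha1 : layMap D v a = 1
  · rw [ha1]; exact one_mem_pt _
  obtain ⟨hem, he1, -, hec⟩ := (C.exists_mem hγ 1).choose_spec
  have hD : layMap D v ⟨(C.exists_mem hγ 1).choose, mem_lay (mem_D hem he1) hec⟩ ∈ layD D v :=
    ⟨_, (mem_D hem he1 :), rfl⟩
  refine (mem_iff_commute (mem_pt hD) (C.confQ.ne _ hD)
    ⟨a, (show (a : G) ∈ D from mem_D ha (fun e => ha1 ?_)), rfl⟩).2 ?_
  · rw [show a = 1 from Subtype.ext e, map_one]
  · exact (show Commute a ⟨_, mem_lay (mem_D hem he1) hec⟩ from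
      Subtype.ext (commute_mem ha hem).eq).map _

lemma exists_of_mem_bar {γ : h.Pt} (hγ : v • γ = γ) {x : LayQuot D v} (hx : x ∈ C.bar γ hγ) :
    ∃ a : lay D v, (a : G) ∈ γ ∧ layMap D v a = x := by
  by_cases hx1 : x = 1
  · exact ⟨1, one_mem_pt γ, by rw [hx1, map_one]⟩
  obtain ⟨d, hd, rfl⟩ := mem_D hx hx1
  obtain ⟨hem, he1, -, hec⟩ := (C.exists_mem hγ 1).choose_spec
  refine ⟨d, (mem_iff_commute hem he1 hd).2 ?_, rfl⟩
  have h1 := commute_of_map C.confL (π := layMap D v) (by rw [QuotientGroup.ker_mk']) hd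
    (show (⟨_, mem_lay (mem_D hem he1) hec⟩ : lay D v) ∈ memIn (lay D v) D from (mem_D hem he1 :))
    (commute_mem hx (C.mem_bar hγ (a := ⟨_, mem_lay (mem_D hem he1) hec⟩) hem))
  exact congrArg Subtype.val h1.eq

lemma bar_inj {γ δ : h.Pt} {hγ : v • γ = γ} {hδ : v • δ = δ} (e : C.bar γ hγ = C.bar δ hδ) :
    γ = δ := by
  obtain ⟨a, ha, ha1, -, hac⟩ := C.exists_mem hγ 1
  have h1 := C.mem_bar hγ (a := ⟨a, mem_lay (mem_D ha ha1) hac⟩) ha
  rw [e] at h1
  obtain ⟨b, hb, hbe⟩ := C.exists_of_mem_bar hδ h1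
  have hb1 : (b : G) ≠ 1 := fun e' => C.not_central (mem_D ha ha1) (mem_lay (mem_D ha ha1) hac)
    (C.layMap_eq_one.1 (by rw [← hbe, show b = 1 from Subtype.ext e', map_one]))
  have h2 := commute_of_map C.confL (π := layMap D v) (by rw [QuotientGroup.ker_mk'])
    (show (⟨a, mem_lay (mem_D ha ha1) hac⟩ : lay D v) ∈ memIn (lay D v) D from (mem_D ha ha1 :))
    (show b ∈ memIn (lay D v) D from (mem_D hb hb1 :)) (by rw [hbe])
  exact eq_of_commute ha ha1 hb hb1 (congrArg Subtype.val h2.eq)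

lemma bar_surj (X : C.confQ.Pt) : ∃ γ, ∃ hγ : v • γ = γ, C.bar γ hγ = X := by
  obtain ⟨x, hx, hx1⟩ := exists_ne_one X
  obtain ⟨d, hd, rfl⟩ := mem_D hx hx1
  have hd' : (d : G) ∈ D := hd
  exact ⟨h.pt hd', fix_of_cd hd' (commute_of_mem_lay d.2),
    eq_of_mem (C.mem_bar _ (mem_pt hd')) hx hx1⟩

lemma fix_smul {g : lay D v} {γ : h.Pt} (hγ : v • γ = γ) : v • ((g : G) • γ) = (g : G) • γ := by
  rw [← mul_smul, ← (commute_of_mem_lay g.2).eq, mul_smul, hγ]

lemma bar_smul (g : lay D v) {γ : h.Pt} (hγ : v • γ = γ) :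
    layMap D v g • C.bar γ hγ = C.bar ((g : G) • γ) (C.fix_smul hγ) := by
  obtain ⟨a, ha, ha1, -, hac⟩ := C.exists_mem hγ 1
  set a' : lay D v := ⟨a, mem_lay (mem_D ha ha1) hac⟩
  refine smul_eq_of_mem (C.mem_bar hγ (a := a') ha)
    (C.confQ.ne _ ⟨a', (mem_D ha ha1 :), rfl⟩) ?_
  rw [← map_inv, ← map_mul, ← map_mul]
  exact C.mem_bar _ (conj_mem_smul ha)

lemma bar_fix_iff (g : lay D v) {γ : h.Pt} (hγ : v • γ = γ) :
    layMap D v g • C.bar γ hγ = C.bar γ hγ ↔ (g : G) • γ = γ := by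
  rw [C.bar_smul g hγ]
  constructor
  · exact C.bar_inj
  · intro e
    congr 1

/-- Elements whose images centralise a point centralise the fixed part of the point. -/
lemma commute_of_centralizes {g : lay D v} {γ : h.Pt} (hγ : v • γ = γ)
    (hg : layMap D v g ∈ Subgroup.centralizer ((C.bar γ hγ).1 : Set (LayQuot D v))) {a : G}
    (ha : a ∈ fixd γ {v}) : Commute (g : G) a := by
  obtain ⟨ha, ha1, hac⟩ := ha
  set a' : lay D v := ⟨a, mem_lay (mem_D ha ha1) (hac v rfl).symm⟩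
  have hgγ : (g : G) • γ = γ := (C.bar_fix_iff g hγ).1 (fix_of_centralizer hg)
  have h1 := Subgroup.mem_centralizer_iff.1 hg _ (C.mem_bar hγ (a := a') ha)
  have hz : a'⁻¹ * (g * a' * g⁻¹) ∈ Subgroup.center (lay D v) := by
    rw [← C.layMap_eq_one]
    simp only [map_mul, map_inv]
    rw [← h1]
    group
  by_contra hne
  have hm : a⁻¹ * ((g : G) * a * (g : G)⁻¹) ∈ γ :=
    mul_mem_pt (γ.1.inv_mem ha) (conj_mem_of_fix hgγ ha)
  refine C.not_central (d := a⁻¹ * ((g : G) * a * (g : G)⁻¹)) (mem_D hm fun e => hne ?_)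
    (a'⁻¹ * (g * a' * g⁻¹)).2 hz
  rw [inv_mul_eq_one] at e
  exact mul_inv_eq_iff_eq_mul.1 e.symm

lemma quot_full : Full C.confQ := by
  have hgenL : Subgroup.closure (memIn (lay D v) D) = ⊤ :=
    closure_memIn (fun d hd => hd.1) rfl
  have hgenQ : Subgroup.closure (layD D v) = ⊤ := by
    rw [layD, ← MonoidHom.map_closure, hgenL]
    exact Subgroup.map_top_of_surjective _ (QuotientGroup.mk'_surjective _)
  have htwoQ : ∀ X : C.confQ.Pt, ∃ Y : C.confQ.Pt, X ≠ Y := fun X => by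
    obtain ⟨γ, hγ, rfl⟩ := C.bar_surj X
    obtain ⟨δ, hb⟩ := C.exists_pair hγ
    exact ⟨C.bar δ hb.right, fun e => hb.ne (C.bar_inj e)⟩
  refine ⟨hgenQ, ?_, htwoQ⟩
  refine center_quotient_eq_bot (h := C.confL) hgenL fun X => ?_
  obtain ⟨x, hx, hx1⟩ := exists_ne_one X
  have hxD : (x : G) ∈ D := (mem_D hx hx1 :)
  obtain ⟨δ, hb⟩ := C.exists_pair (fix_of_cd hxD (commute_of_mem_lay x.2))
  obtain ⟨e, he, he1, -, hec⟩ := C.exists_mem hb.right 1
  have hY : (⟨e, mem_lay (mem_D he he1) hec⟩ : lay D v) ∈ memIn (lay D v) D := (mem_D he he1 :)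
  refine ⟨C.confL.pt hY, fun eq => hb.ne ?_⟩
  have h1 := commute_mem (P := C.confL.pt hY) (eq ▸ hx) (mem_pt hY)
  exact eq_of_commute (mem_pt hxD) (h.ne _ hxD) he he1 (congrArg Subtype.val h1.eq)

lemma quot_noEven : NoEven C.confQ := by
  intro X Y hne x hx hx1 hX hY
  obtain ⟨g, rfl⟩ := QuotientGroup.mk'_surjective _ x
  obtain ⟨γ, hγ, rfl⟩ := C.bar_surj X
  obtain ⟨δ, hδ, rfl⟩ := C.bar_surj Y
  obtain ⟨c, hc, i, hi⟩ := exists_two_part g
  have hgc : layMap D v (g ^ c) = layMap D v g := by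
    obtain ⟨j, rfl⟩ := hc
    rw [map_pow, pow_succ, pow_mul, pow_two, hx, one_pow, one_mul]
  rw [← hgc] at hX hY hx1
  have hb : Bad γ δ v := ⟨fun e => hne (by subst e; rfl), C.bad.sq, C.bad.ne_one, hγ, hδ⟩
  rcases hb.tiny C.noEven ((C.bar_fix_iff _ hγ).1 (fix_of_centralizer hX))
      ((C.bar_fix_iff _ hδ).1 (fix_of_centralizer hY)) (commute_of_mem_lay (g ^ c).2)
      (fun a ha => C.commute_of_centralizes hγ hX ha)
      ⟨i, by rw [← SubmonoidClass.coe_pow, hi, OneMemClass.coe_one]⟩ with e | e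
  · exact hx1 (by rw [show g ^ c = 1 from Subtype.ext e, map_one])
  · refine hx1 (C.layMap_eq_one.2 (Subgroup.mem_center_iff.2 fun y => Subtype.ext ?_))
    show (y : G) * ((g ^ c : lay D v) : G) = ((g ^ c : lay D v) : G) * y
    rw [e]
    exact (commute_of_mem_lay y.2).eq

lemma card_lt : Nat.card (LayQuot D v) < Nat.card G := by
  refine lt_of_le_of_lt (Nat.card_le_card_of_surjective _ (QuotientGroup.mk'_surjective _)) ?_
  refine lt_of_le_of_ne (Nat.card_le_card_of_injective _ Subtype.val_injective) fun e => ?_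
  have htop : lay D v = ⊤ := Subgroup.eq_top_of_card_eq _ e
  exact C.bad.ne_one (C.full.eq_one_of_centralizes fun d hd =>
    (commute_of_mem_lay (htop ▸ Subgroup.mem_top d)).symm)

lemma card_bar {γ : h.Pt} (hγ : v • γ = γ) :
    Nat.card (C.bar γ hγ).1 = (fixd P {v}).ncard + 1 := by
  rw [← C.ncard_fixd hγ]
  have hcard : (sharp (C.bar γ hγ)).ncard = (fixd γ {v}).ncard := by
    refine (Set.ncard_congr
      (fun a ha => layMap D v ⟨a, mem_lay (mem_D ha.1 ha.2.1) (ha.2.2 v rfl).symm⟩) ?_ ?_ ?_).symm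
    · intro a ha
      exact ⟨C.mem_bar hγ ha.1,
        fun e => C.not_central (mem_D ha.1 ha.2.1) _ (C.layMap_eq_one.1 e)⟩
    · intro a b ha hb e
      by_contra hne
      have hm : a * b ∈ D := h.mul a (mem_D ha.1 ha.2.1) b (mem_D hb.1 hb.2.1)
        (commute_mem ha.1 hb.1) hne
      refine C.not_central hm
        (mul_mem (mem_lay (mem_D ha.1 ha.2.1) (ha.2.2 v rfl).symm)
          (mem_lay (mem_D hb.1 hb.2.1) (hb.2.2 v rfl).symm)) (C.layMap_eq_one.1 ?_)
      rw [show (⟨a * b, _⟩ : lay D v) = ⟨a, mem_lay (mem_D ha.1 ha.2.1) (ha.2.2 v rfl).symm⟩ *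
        ⟨b, mem_lay (mem_D hb.1 hb.2.1) (hb.2.2 v rfl).symm⟩ from rfl, map_mul, e, ← map_mul,
        show (⟨b, mem_lay (mem_D hb.1 hb.2.1) (hb.2.2 v rfl).symm⟩ : lay D v) *
          ⟨b, mem_lay (mem_D hb.1 hb.2.1) (hb.2.2 v rfl).symm⟩ = 1 from Subtype.ext (sq_mem hb.1),
        map_one]
    · rintro x ⟨hx, hx1⟩
      obtain ⟨a, ha, rfl⟩ := C.exists_of_mem_bar hγ hx
      exact ⟨a, ⟨ha, fun e => hx1 (by rw [show a = 1 from Subtype.ext e, map_one]),
        by rintro w rfl; exact (commute_of_mem_lay a.2).symm⟩, rfl⟩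
  have := sharp_ncard (C.bar γ hγ)
  have := four_le (C.bar γ hγ)
  omega

lemma card_pt : Nat.card C.confQ.Pt = {γ : h.Pt | v • γ = γ}.ncard := by
  rw [← Nat.card_coe_set_eq]
  refine (Nat.card_congr (Equiv.ofBijective
    (fun γ : {γ : h.Pt | v • γ = γ} => C.bar γ.1 γ.2) ⟨?_, ?_⟩)).symm
  · exact fun γ δ e => Subtype.ext (C.bar_inj e)
  · intro X
    obtain ⟨γ, hγ, e⟩ := C.bar_surj X
    exact ⟨⟨γ, hγ⟩, e⟩

end LCtx

end Conf

end Cfsg.Agent.Lib.OddTransp84.Core
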