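import Cfsg.Agent.Lib.Suzuki2.FieldModel

/-!
# Commutative transitive groups of automorphisms of an elementary abelian 2-group

They are semiregular, and contain every element normalising them whose order is a power of a prime
not dividing the rank.
-/

set_option autoImplicit false

namespace Cfsg.Agent.Lib.OddTransp84.Core.Torus

variable {V : Type*} [Group V] [Finite V] {A : Subgroup (MulAut V)}

omit [Finite V] in
/-- A commutative transitive group of automorphisms is semiregular. -/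
theorem eq_one_of_fixes (hcomm : ∀ k ∈ A, ∀ l ∈ A, k * l = l * k)
    (htrans : ∀ a b : V, a ≠ 1 → b ≠ 1 → ∃ k ∈ A, k a = b) {k : MulAut V} (hk : k ∈ A) {e : V}
    (he : e ≠ 1) (hke : k e = e) : k = 1 := by
  refine MulEquiv.ext fun x => ?_
  by_cases hx : x = 1
  · simp [hx]
  obtain ⟨l, hl, rfl⟩ := htrans e x he hx
  rw [← MulAut.mul_apply, hcomm k hk l hl, MulAut.mul_apply, hke]
  rfl

/-- A normalising element fixing a non-trivial element has order dividing the rank. -/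
theorem pow_rank_eq_one {m : ℕ} (hm : m ≠ 0) (hcard : Nat.card V = 2 ^ m) (h2 : ∀ a : V, a * a = 1)
    (hcomm : ∀ k ∈ A, ∀ l ∈ A, k * l = l * k)
    (htrans : ∀ a b : V, a ≠ 1 → b ≠ 1 → ∃ k ∈ A, k a = b) {τ : MulAut V}
    (hnorm : ∀ k ∈ A, τ * k * τ⁻¹ ∈ A) {a₀ : V} (ha₀ : a₀ ≠ 1) (hfix : τ a₀ = a₀) : τ ^ m = 1 := by
  have : Fact (Nat.Prime 2) := ⟨Nat.prime_two⟩
  obtain ⟨ι, hι, hadd, hι1, hιa₀, hιk⟩ :=
    Suzuki2.FieldModel.field_model hm hcard h2 A hcomm htrans ha₀
  let e : V ≃ GaloisField 2 m := Equiv.ofBijective ι hι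
  have he : ∀ z, e z = ι z := fun _ => rfl
  have hmul : ∀ x y : GaloisField 2 m,
      e (τ (e.symm (x * y))) = e (τ (e.symm x)) * e (τ (e.symm y)) := by
    intro x y
    by_cases hx : e.symm x = 1
    · have h0 : x = 0 := by rw [← e.apply_symm_apply x, hx, he, hι1]
      subst h0
      rw [zero_mul, hx, map_one, he, hι1, zero_mul]
    obtain ⟨k, hk, hkx⟩ := htrans a₀ _ ha₀ hx
    have h1 : e.symm (x * y) = k (e.symm y) := e.injective (by
      rw [e.apply_symm_apply, he, hιk k hk, hkx, ← he, ← he, e.apply_symm_apply, e.apply_symm_apply])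
    have h2' : ∀ z, τ (k z) = (τ * k * τ⁻¹) (τ z) := fun z => by
      rw [MulAut.mul_apply, MulAut.mul_apply, MulAut.inv_apply_self]
    rw [h1, h2', he, hιk _ (hnorm k hk), ← hkx, h2' a₀, hfix]
    rfl
  let R : GaloisField 2 m ≃+* GaloisField 2 m :=
    { toFun := fun x => e (τ (e.symm x))
      invFun := fun x => e (τ.symm (e.symm x))
      left_inv := fun x => by simp
      right_inv := fun x => by simp
      map_mul' := hmul
      map_add' := fun x y => by
        have h1 : e.symm (x + y) = e.symm x * e.symm y := e.injective (by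
          rw [e.apply_symm_apply, he, hadd, ← he, ← he, e.apply_symm_apply, e.apply_symm_apply])
        rw [h1, map_mul, he, hadd]
        rfl }
  let σ : GaloisField 2 m ≃ₐ[ZMod 2] GaloisField 2 m := AlgEquiv.ofRingEquiv (f := R)
    (fun x => DFunLike.congr_fun (Subsingleton.elim
      (R.toRingHom.comp (algebraMap (ZMod 2) (GaloisField 2 m)))
      (algebraMap (ZMod 2) (GaloisField 2 m))) x)
  have hσ : σ ^ m = 1 := by
    have h1 := pow_card_eq_one' (x := σ)
    rwa [IsGalois.card_aut_eq_finrank, GaloisField.finrank 2 hm] at h1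
  have key : ∀ (j : ℕ) (z : V), (σ ^ j) (e z) = e ((τ ^ j) z) := fun j => by
    induction j with
    | zero => intro z; simp
    | succ j ih =>
      intro z
      rw [pow_succ', pow_succ', AlgEquiv.mul_apply, ih, MulAut.mul_apply]
      show e (τ (e.symm (e _))) = _
      rw [e.symm_apply_apply]
  refine MulEquiv.ext fun z => e.injective ?_
  rw [← key, hσ, AlgEquiv.one_apply, MulAut.one_apply]

/-- A normalising element of prime power order, the prime not dividing the rank, lies in `A`. -/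
theorem mem_of_normalizing {m : ℕ} (hm : m ≠ 0) (hcard : Nat.card V = 2 ^ m)
    (h2 : ∀ a : V, a * a = 1) (hcomm : ∀ k ∈ A, ∀ l ∈ A, k * l = l * k)
    (htrans : ∀ a b : V, a ≠ 1 → b ≠ 1 → ∃ k ∈ A, k a = b) {σ : MulAut V}
    (hnorm : ∀ k ∈ A, σ * k * σ⁻¹ ∈ A) {r i : ℕ} (hr : r.Prime) (hrm : ¬ r ∣ m)
    (hσ : σ ^ r ^ i = 1) : σ ∈ A := by
  obtain ⟨a₀, ha₀⟩ : ∃ a : V, a ≠ 1 := by
    by_contra hcon
    push Not at hcon
    have : Nat.card V ≤ 1 := by
      rw [Finite.card_le_one_iff_subsingleton]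
      exact ⟨fun a b => (hcon a).trans (hcon b).symm⟩
    have h3 : 2 ≤ 2 ^ m := Nat.le_self_pow hm 2
    omega
  have hσa : σ a₀ ≠ 1 := (map_ne_one_iff σ σ.injective).2 ha₀
  obtain ⟨α, hα, hαe⟩ := htrans (σ a₀) a₀ hσa ha₀
  set τ := α * σ with hτ
  have hτn : ∀ k ∈ A, τ * k * τ⁻¹ ∈ A := fun k hk => by
    rw [show τ * k * τ⁻¹ = α * (σ * k * σ⁻¹) * α⁻¹ by rw [hτ]; group]
    exact A.mul_mem (A.mul_mem hα (hnorm k hk)) (A.inv_mem hα)
  have hτ0 : τ a₀ = a₀ := by rw [hτ, MulAut.mul_apply, hαe]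
  have h1 : τ ^ m = 1 := pow_rank_eq_one hm hcard h2 hcomm htrans hτn ha₀ hτ0
  have h3 : ∀ j : ℕ, τ ^ j * (σ ^ j)⁻¹ ∈ A := fun j => by
    induction j with
    | zero => simp [A.one_mem]
    | succ j ih =>
      have e : τ ^ (j + 1) * (σ ^ (j + 1))⁻¹ = α * (σ * (τ ^ j * (σ ^ j)⁻¹) * σ⁻¹) := by
        rw [pow_succ' τ, pow_succ' σ, hτ]; group
      rw [e]
      exact A.mul_mem hα (hnorm _ ih)
  have h4 : τ ^ r ^ i = 1 := by
    have h5 := h3 (r ^ i)
    rw [hσ, inv_one, mul_one] at h5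
    refine eq_one_of_fixes hcomm htrans h5 ha₀ ?_
    have : ∀ j : ℕ, (τ ^ j) a₀ = a₀ := fun j => by
      induction j with
      | zero => simp
      | succ j ih => rw [pow_succ, MulAut.mul_apply, hτ0, ih]
    exact this _
  have h6 : τ = 1 := by
    have h7 : Nat.Coprime (r ^ i) m := (hr.coprime_iff_not_dvd.2 hrm).pow_left i
    rw [← pow_one τ]
    exact (pow_eq_one_iff_modEq.2 ((Nat.modEq_zero_iff_dvd).2 (by
      rw [← h7.gcd_eq_one]
      exact Nat.dvd_gcd (orderOf_dvd_of_pow_eq_one h4) (orderOf_dvd_of_pow_eq_one h1))))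
  have h8 : σ = α⁻¹ := eq_inv_of_mul_eq_one_right h6
  rw [h8]; exact A.inv_mem hα

end Cfsg.Agent.Lib.OddTransp84.Core.Torus
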