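import Cfsg.Agent.Lib.OddTransp84.Core.Pair
import Cfsg.Agent.Lib.OddTransp84.Core.Torus

/-!
# Configurations: facts about the group generated by two points

`LineFacts` holds for `L₂(q)` and `Sz(q)` lines; it makes an element of prime power order fixing both
points agree on them with an element of the line.
-/

set_option autoImplicit false

namespace Cfsg.Agent.Lib.OddTransp84.Core.Conf

universe u

variable {G : Type u} [Group G] {D : Set G} {h : Conf D}

/-- Conjugation on a point. -/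
def act (P : h.Pt) : MulAction.stabilizer G P →* MulAut P.1 where
  toFun g :=
    { toFun := fun a => ⟨(g : G) * a * (g : G)⁻¹, conj_mem_of_fix g.2 a.2⟩
      invFun := fun a => ⟨(g : G)⁻¹ * a * ((g : G)⁻¹)⁻¹,
        conj_mem_of_fix ((MulAction.stabilizer G P).inv_mem g.2) a.2⟩
      left_inv := fun a => Subtype.ext (by simp [mul_assoc])
      right_inv := fun a => Subtype.ext (by simp [mul_assoc])
      map_mul' := fun a b => Subtype.ext (by simp [mul_assoc]) }
  map_one' := MulEquiv.ext fun a => Subtype.ext (show (1 : G) * (a : G) * (1 : G)⁻¹ = a by simp)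
  map_mul' g g' := MulEquiv.ext fun a => Subtype.ext
    (show (g : G) * g' * (a : G) * ((g : G) * g')⁻¹ = g * (g' * a * (g' : G)⁻¹) * (g : G)⁻¹ by group)

lemma act_apply {P : h.Pt} (g : MulAction.stabilizer G P) (a : P.1) :
    (act P g a : G) = g * a * (g : G)⁻¹ := rfl

lemma act_eq_one_iff {P : h.Pt} {g : MulAction.stabilizer G P} :
    act P g = 1 ↔ (g : G) ∈ Subgroup.centralizer (P.1 : Set G) := by
  rw [Subgroup.mem_centralizer_iff]
  constructor
  · intro e a ha
    have h1 := congrArg Subtype.val (DFunLike.congr_fun e ⟨a, ha⟩)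
    rw [act_apply, MulAut.one_apply] at h1
    exact (mul_inv_eq_iff_eq_mul.1 h1).symm
  · intro hg
    refine MulEquiv.ext fun a => Subtype.ext ?_
    rw [act_apply, MulAut.one_apply]
    exact mul_inv_eq_iff_eq_mul.2 (hg a a.2).symm

lemma fix_of_centralizer {P : h.Pt} {g : G} (hg : g ∈ Subgroup.centralizer (P.1 : Set G)) :
    g • P = P := by
  obtain ⟨a, ha, ha1⟩ := exists_ne_one P
  exact fix_of_commute ha ha1 (Subgroup.mem_centralizer_iff.1 hg a ha).symm

/-- The group generated by two points. -/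
def line (P R : h.Pt) : Subgroup G := P.1 ⊔ R.1

lemma line_symm (P R : h.Pt) : line P R = line R P := sup_comm _ _

lemma conj_mem_line {P R : h.Pt} {g x : G} (hx : x ∈ line P R) :
    g * x * g⁻¹ ∈ line (g • P) (g • R) := by
  have h1 : g * x * g⁻¹ ∈ (line P R).map (MulAut.conj g).toMonoidHom := ⟨x, hx, rfl⟩
  rwa [line, Subgroup.map_sup] at h1

lemma commute_of_centralizer {P R : h.Pt} {g x : G}
    (hP : g ∈ Subgroup.centralizer (P.1 : Set G)) (hR : g ∈ Subgroup.centralizer (R.1 : Set G))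
    (hx : x ∈ line P R) : Commute g x := by
  have h1 : line P R ≤ Subgroup.centralizer {g} := by
    refine sup_le (fun a ha => ?_) (fun a ha => ?_)
    · exact Subgroup.mem_centralizer_singleton_iff.2 (Subgroup.mem_centralizer_iff.1 hP a ha)
    · exact Subgroup.mem_centralizer_singleton_iff.2 (Subgroup.mem_centralizer_iff.1 hR a ha)
  exact (Subgroup.mem_centralizer_singleton_iff.1 (h1 hx)).symm

/-- Facts about the line of two points. -/
structure LineFacts (P R : h.Pt) : Prop where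
  cent : ∀ g : G, g • P = P → g • R = R → g ∈ Subgroup.centralizer (P.1 : Set G) →
    g ∈ Subgroup.centralizer (R.1 : Set G)
  inverts : ∀ k ∈ line P R, k • P = P → k • R = R → ∀ f ∈ swp P R,
    f * k * f * k ∈ Subgroup.centralizer (P.1 : Set G)

lemma swp_conj_centralizer {P R : h.Pt} {f g : G} (hf : f ∈ swp P R)
    (hg : g ∈ Subgroup.centralizer (P.1 : Set G)) :
    f * g * f ∈ Subgroup.centralizer (R.1 : Set G) := by
  refine Subgroup.mem_centralizer_iff.2 fun b hb => ?_
  have ha : f * b * f ∈ P := swp_conj_mem (swp_symm hf) hb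
  have h1 : f * b * f * g = g * (f * b * f) := Subgroup.mem_centralizer_iff.1 hg _ ha
  have hff : f * f = 1 := h.sq f hf.1
  calc b * (f * g * f) = f * (f * b * f * g) * f := by
        simp only [← mul_assoc]; rw [hff, one_mul]
    _ = f * (g * (f * b * f)) * f := by rw [h1]
    _ = f * g * f * b := by simp only [mul_assoc]; rw [hff, mul_one]

lemma swp_conj_fix {P R : h.Pt} {f g : G} (hf : f ∈ swp P R) (hP : g • P = P) :
    (f * g * f) • R = R := by
  rw [mul_smul, mul_smul, (swp_symm hf).2, hP, hf.2]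

lemma LineFacts.symm {P R : h.Pt} (L : LineFacts P R) : LineFacts R P := by
  by_cases hne : P = R
  · subst hne; exact L
  obtain ⟨a, ha, ha1⟩ := exists_ne_one P
  obtain ⟨b, hb, hb1⟩ := exists_ne_one R
  obtain ⟨f, hf, -, -⟩ := swp_surj hne ha ha1 hb hb1
  have hff : f * f = 1 := h.sq f hf.1
  refine ⟨fun g hR hP hg => ?_, fun k hk hR hP f' hf' => ?_⟩
  · have h1 := L.cent (f * g * f) (swp_conj_fix (swp_symm hf) hR) (swp_conj_fix hf hP)
      (swp_conj_centralizer (swp_symm hf) hg)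
    have h2 := swp_conj_centralizer (swp_symm hf) h1
    rwa [show f * (f * g * f) * f = g by simp only [← mul_assoc]; rw [hff, one_mul, mul_assoc, hff,
      mul_one]] at h2
  · have h1 := L.inverts k (by rwa [line_symm]) hP hR f' (swp_symm hf')
    exact L.cent _ (fix_of_centralizer h1)
      (by rw [mul_smul, hR, mul_smul, mul_smul, hf'.2, hP, (swp_symm hf').2]) h1

/-- The elements of the line fixing both points. -/
def lineStab (P R : h.Pt) : Subgroup G :=
  line P R ⊓ MulAction.stabilizer G P ⊓ MulAction.stabilizer G R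

lemma mem_lineStab {P R : h.Pt} {k : G} :
    k ∈ lineStab P R ↔ k ∈ line P R ∧ k • P = P ∧ k • R = R := by
  simp only [lineStab, Subgroup.mem_inf, MulAction.mem_stabilizer_iff, and_assoc]

/-- The action of `lineStab` on the first point. -/
def torus (P R : h.Pt) : Subgroup (MulAut P.1) :=
  ((act P).comp (Subgroup.inclusion
    (inf_le_left.trans inf_le_right : lineStab P R ≤ MulAction.stabilizer G P))).range

lemma mem_torus {P R : h.Pt} {σ : MulAut P.1} :
    σ ∈ torus P R ↔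
      ∃ (k : G) (hk : k ∈ lineStab P R), act P ⟨k, (mem_lineStab.1 hk).2.1⟩ = σ := by
  constructor
  · rintro ⟨⟨k, hk⟩, rfl⟩; exact ⟨k, hk, rfl⟩
  · rintro ⟨k, hk, rfl⟩; exact ⟨⟨k, hk⟩, rfl⟩

variable [Finite G]

lemma torus_trans {P R : h.Pt} (hne : P ≠ R) {a a' : P.1} (ha : a ≠ 1) (ha' : a' ≠ 1) :
    ∃ σ ∈ torus P R, σ a = a' := by
  obtain ⟨b, hb, hb1⟩ := exists_ne_one R
  have ha1 : (a : G) ≠ 1 := fun e => ha (Subtype.ext e)
  have ha'1 : (a' : G) ≠ 1 := fun e => ha' (Subtype.ext e)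
  obtain ⟨f, hf, hfm, he⟩ := swp_surj hne a.2 ha1 hb hb1
  obtain ⟨f', hf', hf'm, he'⟩ := swp_surj hne a'.2 ha'1 hb hb1
  have hk : f' * f ∈ lineStab P R := mem_lineStab.2 ⟨mul_mem hf'm hfm,
    by rw [mul_smul, hf.2, (swp_symm hf').2], by rw [mul_smul, (swp_symm hf).2, hf'.2]⟩
  refine ⟨_, mem_torus.2 ⟨_, hk, rfl⟩, Subtype.ext ?_⟩
  rw [act_apply]
  show f' * f * (a : G) * (f' * f)⁻¹ = a'
  calc f' * f * (a : G) * (f' * f)⁻¹ = f' * (f * a * f) * f' := by
        rw [mul_inv_rev, h.inv_eq hf.1, h.inv_eq hf'.1]; group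
    _ = a' := by
        rw [he, ← he']
        simp only [← mul_assoc, h.sq f' hf'.1, one_mul]
        rw [mul_assoc, h.sq f' hf'.1, mul_one]

omit [Finite G] in
lemma torus_conj {P R : h.Pt} {a : MulAction.stabilizer G P} (hR : (a : G) • R = R) :
    ∀ σ ∈ torus P R, act P a * σ * (act P a)⁻¹ ∈ torus P R := by
  intro σ hσ
  obtain ⟨k, hk, rfl⟩ := mem_torus.1 hσ
  obtain ⟨hkl, hkP, hkR⟩ := mem_lineStab.1 hk
  have h1 := conj_mem_line (g := (a : G)) hkl
  rw [show (a : G) • P = P from a.2, hR] at h1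
  refine mem_torus.2 ⟨(a : G) * k * (a : G)⁻¹, mem_lineStab.2 ⟨h1, ?_, ?_⟩, ?_⟩
  · rw [mul_smul, mul_smul, inv_smul_eq_iff.2 (show P = (a : G) • P from a.2.symm), hkP]; exact a.2
  · rw [mul_smul, mul_smul, inv_smul_eq_iff.2 hR.symm, hkR, hR]
  · rw [← map_inv, ← map_mul, ← map_mul]; rfl

lemma LineFacts.torus_comm {P R : h.Pt} (L : LineFacts P R) (hne : P ≠ R) :
    ∀ σ ∈ torus P R, ∀ τ ∈ torus P R, σ * τ = τ * σ := by
  obtain ⟨a, ha, ha1⟩ := exists_ne_one P
  obtain ⟨b, hb, hb1⟩ := exists_ne_one R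
  obtain ⟨f, hf, -, -⟩ := swp_surj hne ha ha1 hb hb1
  have hff : f * f = 1 := h.sq f hf.1
  have hfix : ∀ k ∈ lineStab P R, (f * k * f) • P = P := fun k hk => by
    obtain ⟨-, hkP, hkR⟩ := mem_lineStab.1 hk
    exact swp_conj_fix (swp_symm hf) hkR
  have hinv : ∀ k (hk : k ∈ lineStab P R),
      act P ⟨f * k * f, hfix k hk⟩ = (act P ⟨k, (mem_lineStab.1 hk).2.1⟩)⁻¹ := fun k hk => by
    obtain ⟨hkl, hkP, hkR⟩ := mem_lineStab.1 hk
    refine eq_inv_of_mul_eq_one_left ?_
    rw [← map_mul, act_eq_one_iff]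
    exact L.inverts k hkl hkP hkR f hf
  rintro σ hσ τ hτ
  obtain ⟨k, hk, rfl⟩ := mem_torus.1 hσ
  obtain ⟨l, hl, rfl⟩ := mem_torus.1 hτ
  have h1 := hinv _ (mul_mem hk hl)
  rw [show (⟨f * (k * l) * f, hfix _ (mul_mem hk hl)⟩ : MulAction.stabilizer G P)
      = ⟨f * k * f, hfix k hk⟩ * ⟨f * l * f, hfix l hl⟩ from Subtype.ext (by
        show f * (k * l) * f = f * k * f * (f * l * f)
        rw [show f * k * f * (f * l * f) = f * k * (f * f) * l * f by group, hff, mul_one]
        group), map_mul, hinv k hk, hinv l hl,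
    show (⟨k * l, (mem_lineStab.1 (mul_mem hk hl)).2.1⟩ : MulAction.stabilizer G P)
      = ⟨k, (mem_lineStab.1 hk).2.1⟩ * ⟨l, (mem_lineStab.1 hl).2.1⟩ from rfl, map_mul,
    ← mul_inv_rev, inv_inj] at h1
  exact h1.symm

/-- An element of prime power order fixing two points agrees on them with one of their line. -/
theorem LineFacts.exists_line_part {P R : h.Pt} (L : LineFacts P R) (hne : P ≠ R) {m : ℕ}
    (hm : Nat.card P.1 = 2 ^ m) {r : ℕ} (hr : r.Prime) (hrm : ¬ r ∣ m) {a : G} (haP : a • P = P)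
    (haR : a • R = R) (ha : ∃ i, a ^ r ^ i = 1) :
    ∃ k ∈ lineStab P R, (∃ j, k ^ r ^ j = 1) ∧ Commute a k ∧
      a * k⁻¹ ∈ Subgroup.centralizer (P.1 : Set G) ∧ a * k⁻¹ ∈ Subgroup.centralizer (R.1 : Set G) := by
  obtain ⟨i, hi⟩ := ha
  have hm0 : m ≠ 0 := by rintro rfl; exact hrm (dvd_zero r)
  set a' : MulAction.stabilizer G P := ⟨a, haP⟩ with ha'
  have hσ : (act P a') ^ r ^ i = 1 := by
    rw [← map_pow, show a' ^ r ^ i = 1 from Subtype.ext hi, map_one]
  have hmem : act P a' ∈ torus P R :=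
    Torus.mem_of_normalizing hm0 hm (fun x => Subtype.ext (sq_mem x.2)) (L.torus_comm hne)
      (fun x y hx hy => torus_trans hne hx hy) (torus_conj haR) hr hrm hσ
  obtain ⟨k₀, hk₀, hk₀e⟩ := mem_torus.1 hmem
  set c := orderOf k₀ / r ^ (orderOf k₀).factorization r with hc
  have hcr : r.Coprime c := Nat.coprime_ordCompl hr (orderOf_pos k₀).ne'
  obtain ⟨s, hs⟩ := exists_pow_eq_self_of_coprime (x := act P a') (n := c)
    ((hcr.symm.pow_right i).coprime_dvd_right (orderOf_dvd_of_pow_eq_one hσ))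
  set k := k₀ ^ (c * s) with hk
  have hkS : k ∈ lineStab P R := pow_mem hk₀ _
  obtain ⟨hkl, hkP, hkR⟩ := mem_lineStab.1 hkS
  have hact : act P ⟨k, hkP⟩ = act P a' := by
    rw [show (⟨k, hkP⟩ : MulAction.stabilizer G P) = ⟨k₀, (mem_lineStab.1 hk₀).2.1⟩ ^ (c * s)
      from rfl, map_pow, hk₀e, pow_mul, hs]
  have hP : a * k⁻¹ ∈ Subgroup.centralizer (P.1 : Set G) :=
    (act_eq_one_iff (g := a' * ⟨k, hkP⟩⁻¹)).1 (by rw [map_mul, map_inv, hact, mul_inv_cancel])
  have hR : a * k⁻¹ ∈ Subgroup.centralizer (R.1 : Set G) :=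
    L.cent _ (by rw [mul_smul, inv_smul_eq_iff.2 hkP.symm, haP])
      (by rw [mul_smul, inv_smul_eq_iff.2 hkR.symm, haR]) hP
  refine ⟨k, hkS, ⟨(orderOf k₀).factorization r, ?_⟩, ?_, hP, hR⟩
  · rw [hk, ← pow_mul, show c * s * r ^ (orderOf k₀).factorization r
        = r ^ (orderOf k₀).factorization r * c * s by ring, hc,
      Nat.ordProj_mul_ordCompl_eq_self, pow_mul, pow_orderOf_eq_one, one_pow]
  · have h1 := (commute_of_centralizer hP hR hkl).mul_left (Commute.refl k)
    rwa [inv_mul_cancel_right] at h1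

/-- An element of prime power order fixing two points is fixed point free or trivial on them. -/
theorem LineFacts.centralizes_of_commute {P R : h.Pt} (L : LineFacts P R) (hne : P ≠ R) {m : ℕ}
    (hm : Nat.card P.1 = 2 ^ m) {r : ℕ} (hr : r.Prime) (hrm : ¬ r ∣ m) {a : G}
    (haR : a • R = R) (ha : ∃ i, a ^ r ^ i = 1) {e : G} (he : e ∈ P) (he1 : e ≠ 1)
    (hc : Commute a e) :
    a ∈ Subgroup.centralizer (P.1 : Set G) ∧ a ∈ Subgroup.centralizer (R.1 : Set G) := by
  have haP : a • P = P := fix_of_commute he he1 hc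
  obtain ⟨k, hk, -, -, hP, -⟩ := L.exists_line_part hne hm hr hrm haP haR ha
  have hkP := (mem_lineStab.1 hk).2.1
  have hke : Commute k e := by
    have h1 : Commute (a * k⁻¹) e := (Subgroup.mem_centralizer_iff.1 hP e he).symm
    have h2 := h1.inv_left.mul_left hc
    rwa [show (a * k⁻¹)⁻¹ * a = k by group] at h2
  have h1 : act P ⟨k, hkP⟩ = 1 := Torus.eq_one_of_fixes (L.torus_comm hne)
    (fun x y hx hy => torus_trans hne hx hy) (mem_torus.2 ⟨k, hk, rfl⟩) (e := ⟨e, he⟩)
    (fun e' => he1 (congrArg Subtype.val e'))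
    (Subtype.ext (by rw [act_apply]; exact mul_inv_eq_iff_eq_mul.2 hke.eq))
  have haP' : a ∈ Subgroup.centralizer (P.1 : Set G) := by
    have h2 := mul_mem hP (act_eq_one_iff.1 h1)
    rwa [show a * k⁻¹ * ((⟨k, hkP⟩ : MulAction.stabilizer G P) : G) = a by simp] at h2
  exact ⟨haP', L.cent a haP haR haP'⟩

end Cfsg.Agent.Lib.OddTransp84.Core.Conf
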