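import Cfsg.Agent.Lib.BenderSuzuki.Coords.Basic
import Cfsg.Agent.Lib.BenderSuzuki.Abelian.Main

/-!
# Automorphisms of a linear or Suzuki rank-one group fixing the involutions of a point stabiliser

They fix `Q` pointwise if they preserve the two stabilisers.
-/

set_option autoImplicit false

namespace Cfsg.Agent.Lib.OddTransp84.Core.Rigid

open MulAction Cfsg.Agent.Lib.RankOne.Basic Cfsg.Agent.Lib.RankOne.Involution
  Cfsg.Agent.Lib.RankOne.Nilpotent
open Cfsg.Agent.Lib.FTDeps Cfsg.Agent.Lib.BenderSuzuki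

universe u v

variable {X : Type u} {Ω : Type v} [Group X] [Finite X] [MulAction X Ω] {a : Ω} {t : X}
  {Q : Subgroup X}

/-- In the Suzuki case squares of `Q` are `1` or involutions fixing `a`. -/
theorem sq_mem_invSub (hH : Hyp X Ω a t Q) (hQ2 : IsPGroup 2 Q) (hcard : Nat.card Q = qNum X a ^ 2)
    {x : X} (hx : x ∈ Q) : x * x ∈ RankOneCore.invSub hH.setup hH.twoRank := by
  have := hH.faithful
  have : Fact (Nat.Prime 2) := ⟨Nat.prime_two⟩
  obtain ⟨S⟩ : Nonempty (Sylow 2 ↥Q) := inferInstance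
  have htop : (S : Subgroup ↥Q) = ⊤ := (S.is_maximal' (hQ2.to_subgroup ⊤) le_top).symm
  have hmem : ∀ y : ↥Q, y ∈ (S : Subgroup ↥Q) := fun y => htop ▸ Subgroup.mem_top y
  rcases RankOneCore.sylow_two hH.setup hH.twoRank
      (fun Y _ _ hY => Lib.OddOrder.FeitThompson.isSolvable_of_odd_card (G := Y) hY) S with hab | hS
  · exfalso
    have hQc : IsMulCommutative Q := ⟨⟨fun y z => congrArg (fun w : (S : Subgroup ↥Q) => (w : ↥Q))
      (hab.is_comm.comm ⟨y, hmem y⟩ ⟨z, hmem z⟩)⟩⟩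
    have h1 := Abelian.Main.propAbelian X Ω a t Q hH hQ2 hQc
    rw [hcard, pow_two] at h1
    have h2 : qNum X a = 1 := Nat.eq_of_mul_eq_mul_left (show 0 < qNum X a by unfold qNum; omega)
      (by rw [h1, mul_one])
    have h3 : 0 < Nat.card (invs X a) := by
      rw [Nat.card_coe_set_eq, Set.ncard_pos (Set.toFinite _)]
      exact exists_involution hH.setup
    unfold qNum at h2
    omega
  · have hinv := (Cfsg.Agent.S1137.result hS).2
    have hq := Cfsg.Agent.S1138.result hS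
    exact ⟨Q_fix hH.setup (Q.mul_mem hx hx),
      congrArg (fun w : ↥(S : Subgroup ↥Q) => ((w : ↥Q) : X)) (hinv _ (hq.1 ⟨⟨x, hx⟩, hmem _⟩))⟩

/-- The theorem. -/
theorem fixes_Q (hH : Hyp X Ω a t Q) (hQ2 : IsPGroup 2 Q)
    (hcase : IsLinearCase a t Q ⊤ ∨ IsSuzukiCase a t Q ⊤) (α : X ≃* X)
    (hA : ∀ x ∈ Q, α x ∈ Q) (hB : ∀ x ∈ twoStab X a t, α x ∈ twoStab X a t)
    (hfix : ∀ z ∈ invs X a, α z = z) : ∀ x ∈ Q, α x = x := by
  classical
  set E := RankOneCore.invSub hH.setup hH.twoRank with hE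
  have hEQ : E ≤ Q := fun x hx => involutions_stab_mem_Q hH.setup hx.1 hx.2
  have hEfix : ∀ z ∈ E, α z = z := fun z hz => by
    by_cases hz1 : z = 1
    · rw [hz1, map_one]
    · exact hfix z ⟨hz.1, hz1, hz.2⟩
  have hEcard : Nat.card E = qNum X a := by
    have e : (E : Set X) = insert 1 (invs X a) := by
      ext x
      refine ⟨fun hx => ?_, ?_⟩
      · by_cases hx1 : x = 1
        · exact Or.inl hx1
        · exact Or.inr ⟨hx.1, hx1, hx.2⟩
      · rintro (rfl | hx)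
        · exact E.one_mem
        · exact ⟨hx.1, hx.2.2⟩
    rw [show Nat.card E = (E : Set X).ncard from Nat.card_coe_set_eq _, e,
      Set.ncard_insert_of_notMem (fun hx => hx.2.1 rfl) (Set.toFinite _), qNum, Nat.card_coe_set_eq]
  rcases hcase with hl | hs
  · have hQE : E = Q := Subgroup.eq_of_le_of_card_ge hEQ (by rw [hl.1, hEcard])
    exact fun x hx => hEfix x (hQE ▸ hx)
  obtain ⟨hcard, hkS, -⟩ := hs
  rw [top_inf_eq] at hkS
  have hEc : ∀ z ∈ E, ∀ y ∈ Q, z * y = y * z := fun z hz y hy => by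
    by_cases hz1 : z = 1
    · simp [hz1]
    · exact (involution_central hH.setup hH.twoRank ⟨hz.1, hz1, hz.2⟩).2 y hy
  have hEconj : ∀ k ∈ twoStab X a t, ∀ z ∈ E, k * z * k⁻¹ ∈ E := fun k hk z hz =>
    ⟨Q_fix hH.setup (twoStab_norm hH.setup hk (hEQ hz)), by
      rw [show k * z * k⁻¹ * (k * z * k⁻¹) = k * (z * z) * k⁻¹ by group, hz.2, mul_one, mul_inv_cancel]⟩
  have hKinv : ∀ k ∈ twoStab X a t, k ∈ Cfsg.invertedBy (twoStab X a t) t := fun k hk => by
    show k ∈ kSet a t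
    rw [← hkS]; exact hk
  have hsq : ∀ x ∈ Q, x * x ∈ E := fun x hx => sq_mem_invSub hH hQ2 hcard hx
  have hne1 : ∀ x ∈ Q, x ∉ E → x * x ≠ 1 := fun x hx hxE e => hxE ⟨Q_fix hH.setup hx, e⟩
  have hmulsq : ∀ x ∈ Q, ∀ z ∈ E, x * z * (x * z) = x * x := fun x hx z hz => by
    calc x * z * (x * z) = x * (z * x) * z := by group
      _ = (x * x) * (z * z) := by rw [hEc z hz x hx]; group
      _ = x * x := by rw [hz.2, mul_one]
  have hQE : ∃ x₀ ∈ Q, x₀ ∉ E := by
    by_contra hall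
    push Not at hall
    have h1 := Subgroup.card_le_of_le (show Q ≤ E from hall)
    rw [hcard, hEcard, pow_two] at h1
    obtain ⟨s, hs⟩ := exists_involution hH.setup
    have h3 : 0 < Nat.card (invs X a) := by
      rw [Nat.card_coe_set_eq, Set.ncard_pos (Set.toFinite _)]
      exact ⟨s, hs⟩
    have h2 : 2 ≤ qNum X a := by unfold qNum; omega
    nlinarith
  obtain ⟨x₀, hx₀, hx₀E⟩ := hQE
  -- squaring is a bijection from `Q / E` to `E`
  let E' : Subgroup Q := E.subgroupOf Q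
  let θ : Q ⧸ E' → E := Quotient.lift (fun y : Q => (⟨(y : X) * y, hsq y y.2⟩ : E)) fun y y' hyy => by
    have hz : (y : X)⁻¹ * y' ∈ E :=
      (Subgroup.mem_subgroupOf.1 (QuotientGroup.leftRel_apply.1 hyy : _ ∈ E') :)
    refine Subtype.ext ?_
    show (y : X) * y = (y' : X) * y'
    have h1 := hmulsq y y.2 _ hz
    rwa [mul_inv_cancel_left, eq_comm] at h1
  have hθs : Function.Surjective θ := by
    rintro ⟨z, hz⟩
    by_cases hz1 : z = 1
    · exact ⟨QuotientGroup.mk (1 : Q), Subtype.ext (by show (1 : X) * 1 = z; rw [hz1, one_mul])⟩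
    obtain ⟨k, ⟨hk, hke⟩, -⟩ := existsUnique_K hH.setup
      (show x₀ * x₀ ∈ Cfsg.involutionsIn (stabilizer X a : Set X) from
        ⟨(hsq x₀ hx₀).1, hne1 x₀ hx₀ hx₀E, (hsq x₀ hx₀).2⟩)
      (show z ∈ Cfsg.involutionsIn (stabilizer X a : Set X) from ⟨hz.1, hz1, hz.2⟩)
    refine ⟨QuotientGroup.mk (⟨k * x₀ * k⁻¹, twoStab_norm hH.setup hk.1 hx₀⟩ : Q), Subtype.ext ?_⟩
    show k * x₀ * k⁻¹ * (k * x₀ * k⁻¹) = z
    rw [← hke]; group
  have hθi : Function.Injective θ := by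
    refine (hθs.bijective_of_nat_card_le ?_).1
    have h1 : E'.index * Nat.card E' = Nat.card Q := E'.index_mul_card
    rw [Nat.card_congr (Subgroup.subgroupOfEquivOfLe hEQ).toEquiv, hEcard, hcard, pow_two] at h1
    rw [hEcard]
    exact (Nat.eq_of_mul_eq_mul_right (show 0 < qNum X a by unfold qNum; omega) h1).le
  have hinj : ∀ x ∈ Q, ∀ y ∈ Q, x * x = y * y → x⁻¹ * y ∈ E := fun x hx y hy e =>
    (Subgroup.mem_subgroupOf.1 (QuotientGroup.eq.1 (hθi (Subtype.ext e :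
      θ (QuotientGroup.mk (⟨x, hx⟩ : Q)) = θ (QuotientGroup.mk (⟨y, hy⟩ : Q))))) :)
  -- the defect of `α`
  set ε : X → X := fun x => x⁻¹ * α x with hε
  have hεE : ∀ x ∈ Q, ε x ∈ E := fun x hx =>
    hinj x hx _ (hA x hx) (by rw [← map_mul, hEfix _ (hsq x hx)])
  have hεmul : ∀ x ∈ Q, ∀ y ∈ Q, ε (x * y) = ε x * ε y := fun x hx y hy => by
    calc ε (x * y) = y⁻¹ * (ε x * y) * ε y := by simp only [hε, map_mul]; group
      _ = ε x * ε y := by rw [hEc _ (hεE x hx) y hy]; group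
  have hεz : ∀ z ∈ E, ε z = 1 := fun z hz => by simp only [hε, hEfix z hz, inv_mul_cancel]
  have hεk : ∀ k ∈ twoStab X a t, ∀ x, ε (k * x * k⁻¹) = k * ε x * k⁻¹ := by
    intro k hk x
    have hαk : α k = k := by
      obtain ⟨s, hs⟩ := exists_involution hH.setup
      have hsE : s ∈ E := ⟨hs.1, hs.2.2⟩
      have hks := hEconj k hk s hsE
      have hksI : k * s * k⁻¹ ∈ Cfsg.involutionsIn (stabilizer X a : Set X) :=
        ⟨hks.1, fun e => hs.2.1 (by simpa using e), hks.2⟩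
      refine (existsUnique_K hH.setup hs hksI).unique ⟨hKinv _ (hB k hk), ?_⟩ ⟨hKinv k hk, rfl⟩
      calc α k * s * (α k)⁻¹ = α (k * s * k⁻¹) := by rw [map_mul, map_mul, map_inv, hEfix s hsE]
        _ = k * s * k⁻¹ := hEfix _ hks
    simp only [hε, map_mul, map_inv, hαk]
    group
  intro x hx
  by_contra hne
  have hx1 : ε x ≠ 1 := fun e => hne (inv_mul_eq_one.1 e).symm
  have hxE : x ∉ E := fun e => hne (hEfix x e)
  obtain ⟨k₀, ⟨hk₀, hk₀e⟩, -⟩ := existsUnique_K hH.setup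
    (show ε x ∈ Cfsg.involutionsIn (stabilizer X a : Set X) from
      ⟨(hεE x hx).1, hx1, (hεE x hx).2⟩)
    (show x * x ∈ Cfsg.involutionsIn (stabilizer X a : Set X) from
      ⟨(hsq x hx).1, hne1 x hx hxE, (hsq x hx).2⟩)
  have hcomm : ∀ k ∈ twoStab X a t, k * k₀ = k₀ * k := by
    intro k hk
    have h1 : ∀ l ∈ twoStab X a t, t * l * t⁻¹ = l⁻¹ := fun l hl => (hKinv l hl).2
    have h2 := h1 (k * k₀) (mul_mem hk hk₀.1)
    rw [show t * (k * k₀) * t⁻¹ = t * k * t⁻¹ * (t * k₀ * t⁻¹) by group, h1 k hk, h1 k₀ hk₀.1,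
      ← mul_inv_rev, inv_inj] at h2
    exact h2.symm
  -- squaring is `k₀ ∘ ε`, so it is multiplicative
  have key : ∀ y ∈ Q, y * y = k₀ * ε y * k₀⁻¹ := by
    intro y hy
    by_cases hyE : y ∈ E
    · rw [hεz y hyE, hyE.2]; group
    obtain ⟨k, ⟨hk, hke⟩, -⟩ := existsUnique_K hH.setup
      (show x * x ∈ Cfsg.involutionsIn (stabilizer X a : Set X) from
        ⟨(hsq x hx).1, hne1 x hx hxE, (hsq x hx).2⟩)
      (show y * y ∈ Cfsg.involutionsIn (stabilizer X a : Set X) from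
        ⟨(hsq y hy).1, hne1 y hy hyE, (hsq y hy).2⟩)
    have hkx : k * x * k⁻¹ ∈ Q := twoStab_norm hH.setup hk.1 hx
    have hz := hinj _ hkx y hy (by rw [← hke]; group)
    set z := (k * x * k⁻¹)⁻¹ * y
    have hy' : y = k * x * k⁻¹ * z := (mul_inv_cancel_left _ _).symm
    rw [hy', hεmul _ hkx z (hEQ hz), hεk k hk.1, hεz z hz, mul_one, hmulsq _ hkx z hz]
    calc k * x * k⁻¹ * (k * x * k⁻¹) = k * (x * x) * k⁻¹ := by group
      _ = (k * k₀) * ε x * (k * k₀)⁻¹ := by rw [← hk₀e]; group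
      _ = k₀ * (k * ε x * k⁻¹) * k₀⁻¹ := by rw [hcomm k hk.1]; group
  have hab : ∀ y ∈ Q, ∀ w ∈ Q, y * w = w * y := by
    intro y hy w hw
    have h1 : y * w * (y * w) = y * y * (w * w) := by
      rw [key _ (mul_mem hy hw), hεmul y hy w hw, key y hy, key w hw]; group
    have h2 : y * (w * y) * w = y * (y * w) * w := by
      calc y * (w * y) * w = y * w * (y * w) := by group
        _ = _ := by rw [h1]; group
    exact (mul_left_cancel (mul_right_cancel h2)).symm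
  have hQc : IsMulCommutative Q := ⟨⟨fun y w => Subtype.ext (hab y y.2 w w.2)⟩⟩
  have h1 := Abelian.Main.propAbelian X Ω a t Q hH hQ2 hQc
  rw [← hEcard] at h1
  exact hxE ((Subgroup.eq_of_le_of_card_ge hEQ h1.le) ▸ hx)

end Cfsg.Agent.Lib.OddTransp84.Core.Rigid
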