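import Cfsg.Agent.Lib.OddTransp84.Core.CaseTwo
import Cfsg.Agent.Lib.OddTransp84.Core.Rigid

/-!
# Configurations: lines

The group generated by two points is, modulo its centre, a linear or Suzuki group, and every pair of
points has `LineFacts`.
-/

set_option autoImplicit false

namespace Cfsg.Agent.Lib.OddTransp84.Core

universe u

variable {G : Type u} [Group G]

namespace Conf

open MulAction

variable {D : Set G} {h : Conf D}

/-- The quotient of a line by its centre. -/
abbrev LineQuot (P R : h.Pt) : Type u := ↥(line P R) ⧸ Subgroup.center ↥(line P R)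

/-- The projection. -/
abbrev lineMap (P R : h.Pt) : ↥(line P R) →* LineQuot P R := QuotientGroup.mk' _

/-- The members in a line, modulo the centre. -/
abbrev lineD (P R : h.Pt) : Set (LineQuot P R) := lineMap P R '' memIn (line P R) D

lemma left_le_line {P R : h.Pt} {a : G} (ha : a ∈ P) : a ∈ line P R := Subgroup.mem_sup_left ha

lemma right_le_line {P R : h.Pt} {a : G} (ha : a ∈ R) : a ∈ line P R := Subgroup.mem_sup_right ha

lemma line_partner {P R : h.Pt} : ∀ d ∈ D, d ∈ line P R →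
    ∃ e ∈ D, e ∈ line P R ∧ e ≠ d ∧ Commute e d := by
  intro d hd hdM
  by_cases hdP : d ∈ P
  · obtain ⟨b, hb, hb1, hbd⟩ := exists_other P (a := d)
    exact ⟨b, mem_D hb hb1, left_le_line hb, hbd, commute_mem hb hdP⟩
  obtain ⟨a, ha, ha1⟩ := exists_ne_one P
  have hc : ¬ Commute a d := fun e => hdP ((mem_iff_commute ha ha1 hd).2 e.symm)
  obtain ⟨f, hf, hfm, he⟩ := exists_mid h (mem_D ha ha1) hd hc
  have hfM : f ∈ line P R := (Subgroup.closure_le _).2 (by
    rintro x (rfl | rfl)
    · exact left_le_line ha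
    · exact hdM) hfm
  obtain ⟨b, hb, hb1, hba⟩ := exists_other P (a := a)
  refine ⟨f * b * f, ?_, mul_mem (mul_mem hfM (left_le_line hb)) hfM, fun e => hba ?_, ?_⟩
  · have h1 := h.conj f b (mem_D hb hb1)
    rwa [h.inv_eq hf] at h1
  · rw [← he] at e
    exact mul_left_cancel (mul_right_cancel e)
  · have h1 := (Commute.conj_iff f).2 (commute_mem hb ha)
    rwa [h.inv_eq hf, he] at h1

lemma confLine (P R : h.Pt) : Conf (memIn (line P R) D) := h.restrict line_partner

lemma closure_line (P R : h.Pt) : Subgroup.closure (memIn (line P R) D) = ⊤ := by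
  refine closure_memIn (D' := sharp P ∪ sharp R)
    (fun d hd => hd.elim (fun e => mem_D e.1 e.2) fun e => mem_D e.1 e.2) ?_
  refine le_antisymm ((Subgroup.closure_le _).2 fun d hd =>
    hd.elim (fun e => left_le_line e.1) fun e => right_le_line e.1) (sup_le ?_ ?_)
  · intro a ha
    by_cases ha1 : a = 1
    · rw [ha1]; exact one_mem _
    · exact Subgroup.subset_closure (Or.inl ⟨ha, ha1⟩)
  · intro a ha
    by_cases ha1 : a = 1
    · rw [ha1]; exact one_mem _
    · exact Subgroup.subset_closure (Or.inr ⟨ha, ha1⟩)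

variable [Finite G]

lemma line_not_central {P R : h.Pt} (hne : P ≠ R) {d : line P R} (hd : d ∈ memIn (line P R) D) :
    d ∉ Subgroup.center (line P R) := fun hz => by
  have key : ∀ γ : h.Pt, (∀ a, a ∈ γ → a ∈ line P R) → (d : G) ∈ γ := fun γ hγ => by
    obtain ⟨a, ha, ha1⟩ := exists_ne_one γ
    exact (mem_iff_commute ha ha1 hd).2
      (congrArg Subtype.val (Subgroup.mem_center_iff.1 hz ⟨a, hγ a ha⟩)).symm
  exact hne (eq_of_mem (key P fun a => left_le_line) (key R fun a => right_le_line) (h.ne _ hd))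

lemma confLineQuot {P R : h.Pt} (hne : P ≠ R) : Conf (lineD P R) :=
  (confLine P R).quot (QuotientGroup.mk'_surjective _) (by rw [QuotientGroup.ker_mk'])
    fun _ hd => line_not_central hne hd

/-- The point of the quotient above a point contained in the line. -/
lemma exists_linePt {P R : h.Pt} (hne : P ≠ R) {γ : h.Pt} {a : G} (ha : a ∈ γ) (ha1 : a ≠ 1)
    (haM : a ∈ line P R) :
    ∃ γ' : (confLine P R).Pt, emb h γ' = γ ∧
      (∀ x : line P R, (x : G) ∈ γ →
        lineMap P R x ∈ qpt (confLineQuot hne) γ') ∧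
      (∀ y ∈ qpt (confLineQuot hne) γ', ∃ x : line P R, (x : G) ∈ γ ∧ lineMap P R x = y) ∧
      (∀ g : line P R, lineMap P R g • qpt (confLineQuot hne) γ' = qpt (confLineQuot hne) γ' ↔
        (g : G) • γ = γ) := by
  obtain ⟨γ', rfl⟩ := exists_emb_eq (hM := confLine P R) haM ha ha1
  refine ⟨γ', rfl, fun x hx => mem_qpt (mem_emb_iff.1 hx), fun y hy => ?_, fun g => ?_⟩
  · obtain ⟨x, hx, e⟩ := exists_of_mem_qpt (h := confLine P R) (by rw [QuotientGroup.ker_mk']) hy
    exact ⟨x, mem_emb_iff.2 hx, e⟩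
  · rw [qpt_smul, (qpt_injective (h := confLine P R) (hQ := confLineQuot hne)
      (by rw [QuotientGroup.ker_mk'])).eq_iff, smul_emb, emb_injective.eq_iff]

/-- A configuration generated by two points and with trivial centre. -/
def TwoGen (h : Conf D) : Prop := Full h ∧ ∃ P R : h.Pt, P ≠ R ∧ line P R = ⊤

lemma lineQuot_twoGen {P R : h.Pt} (hne : P ≠ R) : TwoGen (confLineQuot hne) := by
  obtain ⟨a, ha, ha1⟩ := exists_ne_one P
  obtain ⟨b, hb, hb1⟩ := exists_ne_one R
  obtain ⟨P', hP', hPm, -, -⟩ := exists_linePt hne ha ha1 (left_le_line ha)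
  obtain ⟨R', hR', hRm, -, -⟩ := exists_linePt hne hb hb1 (right_le_line hb)
  have hne' : P' ≠ R' := fun e => hne (hP'.symm.trans ((congrArg (emb h) e).trans hR'))
  have hqne : qpt (confLineQuot hne) P' ≠ qpt (confLineQuot hne) R' := fun e =>
    hne' (qpt_injective (by rw [QuotientGroup.ker_mk']) e)
  have hgen : line (qpt (confLineQuot hne) P') (qpt (confLineQuot hne) R') = ⊤ := by
    rw [eq_top_iff]
    intro y _
    obtain ⟨x, rfl⟩ := QuotientGroup.mk'_surjective _ y
    set K := ((line (qpt (confLineQuot hne) P') (qpt (confLineQuot hne) R')).comap (lineMap P R)).map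
      (line P R).subtype
    have h1 : line P R ≤ K := sup_le
      (fun z hz => ⟨⟨z, left_le_line hz⟩, left_le_line (hPm ⟨z, left_le_line hz⟩ hz), rfl⟩)
      (fun z hz => ⟨⟨z, right_le_line hz⟩, right_le_line (hRm ⟨z, right_le_line hz⟩ hz), rfl⟩)
    obtain ⟨x', hx', e⟩ := h1 x.2
    rw [← show x' = x from Subtype.ext e]
    exact hx'
  have htwo : ∀ X : (confLineQuot hne).Pt, ∃ Y : (confLineQuot hne).Pt, X ≠ Y := fun X => by
    by_cases e : X = qpt (confLineQuot hne) P'
    · exact ⟨_, e ▸ hqne⟩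
    · exact ⟨_, e⟩
  refine ⟨⟨?_, ?_, htwo⟩, _, _, hqne, hgen⟩
  · rw [lineD, ← MonoidHom.map_closure, closure_line]
    exact Subgroup.map_top_of_surjective _ (QuotientGroup.mk'_surjective _)
  · refine center_quotient_eq_bot (h := confLine P R) (closure_line P R) fun X => ?_
    by_cases e : X = P'
    · exact ⟨R', e ▸ hne'⟩
    · exact ⟨P', e⟩

/-- A two-generated configuration in which every involution fixes one point is linear or Suzuki. -/
theorem twoGen_types (hI : BenderOne.PropSplit.{u}) (hT : TwoGen h) (h1 : OnePoint h) {P R : h.Pt}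
    (hne : P ≠ R) (hgen : line P R = ⊤) {f : G} (hf : f ∈ swp P R) :
    ∃ Q : Subgroup G,
      BenderSuzuki.Hyp G (G ⧸ stabilizer G P) ((1 : G) : G ⧸ stabilizer G P) f Q ∧
      IsPGroup 2 Q ∧
      BenderSuzuki.invs G ((1 : G) : G ⧸ stabilizer G P) = sharp P ∧
      BenderSuzuki.qNum G ((1 : G) : G ⧸ stabilizer G P) = Nat.card P.1 ∧
      (BenderSuzuki.IsLinearCase ((1 : G) : G ⧸ stabilizer G P) f Q ⊤ ∨
        BenderSuzuki.IsSuzukiCase ((1 : G) : G ⧸ stabilizer G P) f Q ⊤) := by
  obtain ⟨Q, hH, hQ2, hinv, hq, -, hcase⟩ := types hI hT.1 h1 hne hf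
  refine ⟨Q, hH, hQ2, hinv, hq, ?_⟩
  rcases hcase with hl | hs | hu
  · exact Or.inl hl
  · exact Or.inr hs
  exfalso
  obtain ⟨hQ3, hVle, hVcard, -⟩ := hu
  set a : G ⧸ stabilizer G P := ((1 : G) : G ⧸ stabilizer G P)
  obtain ⟨τ, hτ, hτ1⟩ := (⊤ ⊓ BenderSuzuki.vGrp a f : Subgroup G).bot_or_exists_ne_one.resolve_left
    fun e => by
      rw [e, Subgroup.card_bot, one_mul, hq] at hVcard
      have h3 := Nat.gcd_le_left (Nat.card P.1 + 1) (show 0 < 3 by norm_num)
      have := four_le P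
      omega
  have hτV := hVle hτ
  have hctx : BenderSuzuki.Coords.Ctx G (G ⧸ stabilizer G P) a f Q :=
    ⟨hH, hQ2, hQ3, fun e => hτ1 (by rw [e, Subgroup.mem_bot] at hτV; exact hτV)⟩
  have hP : τ ∈ Subgroup.centralizer (P.1 : Set G) := Subgroup.mem_centralizer_iff.2 fun x hx => by
    by_cases hx1 : x = 1
    · simp [hx1]
    · exact Subgroup.mem_centralizer_iff.1 hτV.2 x (hinv ▸ ⟨hx, hx1⟩)
  have hR : τ ∈ Subgroup.centralizer (R.1 : Set G) := by
    have h2 := swp_conj_centralizer hf hP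
    rwa [BenderSuzuki.Coords.ker_t hctx hτV, mul_assoc, h.sq f hf.1, mul_one] at h2
  exact hτ1 (eq_one_of_centralizes_gen hgen hT.1.center hP hR)

/-- The line facts, from the type of the line. -/
theorem lineFacts_of_onePoint (hI : BenderOne.PropSplit.{u}) {P R : h.Pt} (hne : P ≠ R)
    (h1 : OnePoint (confLineQuot hne)) : LineFacts P R := by
  classical
  obtain ⟨a₀, ha₀, ha₀1⟩ := exists_ne_one P
  obtain ⟨b₀, hb₀, hb₀1⟩ := exists_ne_one R
  obtain ⟨P', hP', hPm, hPr, hPf⟩ := exists_linePt hne ha₀ ha₀1 (left_le_line ha₀)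
  obtain ⟨R', hR', hRm, -, hRf⟩ := exists_linePt hne hb₀ hb₀1 (right_le_line hb₀)
  set hQ := confLineQuot hne with hQdef
  set π := lineMap P R with hπ
  set Pb := qpt hQ P' with hPb
  set Rb := qpt hQ R' with hRb
  have hqne : Pb ≠ Rb := fun e =>
    hne (hP'.symm.trans
      ((congrArg (emb h) (qpt_injective (by rw [QuotientGroup.ker_mk']) e)).trans hR'))
  obtain ⟨-, -, -, hgen'⟩ := lineQuot_twoGen hne
  have hgen : line Pb Rb = ⊤ := by
    rw [eq_top_iff]
    intro y _
    obtain ⟨x, rfl⟩ := QuotientGroup.mk'_surjective _ y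
    have hle : line P R ≤ ((line Pb Rb).comap π).map (line P R).subtype := sup_le
      (fun z hz => ⟨⟨z, left_le_line hz⟩, left_le_line (hPm ⟨z, left_le_line hz⟩ hz), rfl⟩)
      (fun z hz => ⟨⟨z, right_le_line hz⟩, right_le_line (hRm ⟨z, right_le_line hz⟩ hz), rfl⟩)
    obtain ⟨x', hx', e⟩ := hle x.2
    rw [← show x' = x from Subtype.ext e]
    exact hx'
  have hswp : ∀ f (hf : f ∈ swp P R),
      π ⟨f, swp_le_sup hne hf⟩ ∈ swp Pb Rb := fun f hf => by
    refine ⟨⟨_, hf.1, rfl⟩, ?_⟩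
    rw [hPb, qpt_smul]
    congr 1
    refine emb_injective (h := h) ?_
    rw [← smul_emb, hP', hR']
    exact hf.2
  refine ⟨fun g hgP hgR hgc => ?_, fun k hk hkP hkR f hf => ?_⟩
  · obtain ⟨f, hf, hfM, -⟩ := swp_surj hne ha₀ ha₀1 hb₀ hb₀1
    obtain ⟨Q, hH, hQ2, hinv, hq, hcase⟩ :=
      twoGen_types hI (lineQuot_twoGen hne) h1 hqne hgen (hswp f hf)
    set X := LineQuot P R
    set a : X ⧸ stabilizer X Pb := ((1 : X) : X ⧸ stabilizer X Pb) with ha
    set t := π ⟨f, swp_le_sup hne hf⟩ with ht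
    -- the automorphism induced by `g`
    have hgM : ∀ x ∈ line P R, g * x * g⁻¹ ∈ line P R := fun x hx => by
      have h2 := conj_mem_line (g := g) hx
      rwa [hgP, hgR] at h2
    have hgM' : ∀ x ∈ line P R, g⁻¹ * x * g ∈ line P R := fun x hx => by
      have h2 := conj_mem_line (g := g⁻¹) hx
      rwa [inv_smul_eq_iff.2 hgP.symm, inv_smul_eq_iff.2 hgR.symm, inv_inv] at h2
    let αM : line P R ≃* line P R :=
      { toFun := fun x => ⟨g * x * g⁻¹, hgM x x.2⟩
        invFun := fun x => ⟨g⁻¹ * x * g, hgM' x x.2⟩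
        left_inv := fun x => Subtype.ext (by simp [mul_assoc])
        right_inv := fun x => Subtype.ext (by simp [mul_assoc])
        map_mul' := fun x y => Subtype.ext (by simp [mul_assoc]) }
    let α : X ≃* X := QuotientGroup.congr _ _ αM
      (Subgroup.characteristic_iff_map_eq.1 inferInstance αM)
    have hα : ∀ x : line P R, α (π x) = π (αM x) := fun x => rfl
    have hmem : ∀ x : X, x • a = a ↔ x • Pb = Pb := fun x => by
      rw [ha, MulAction.Quotient.smul_mk, smul_eq_mul, mul_one, QuotientGroup.eq, mul_one,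
        inv_mem_iff]
      rfl
    have hta : t • Pb = Rb := (hswp f hf).2
    have hmem2 : ∀ x : X, x • t • a = t • a ↔ x • Rb = Rb := fun x => by
      rw [← inv_smul_eq_iff, ← mul_smul, ← mul_smul, hmem, mul_smul, mul_smul, hta, inv_smul_eq_iff,
        hta]
    have hαP : ∀ x : X, x • Pb = Pb → α x • Pb = Pb := fun x hx => by
      obtain ⟨y, rfl⟩ := QuotientGroup.mk'_surjective _ x
      rw [hα, hPf]
      show (g * y * g⁻¹) • P = P
      rw [mul_smul, mul_smul, inv_smul_eq_iff.2 hgP.symm, (hPf y).1 hx, hgP]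
    have hαR : ∀ x : X, x • Rb = Rb → α x • Rb = Rb := fun x hx => by
      obtain ⟨y, rfl⟩ := QuotientGroup.mk'_surjective _ x
      rw [hα, hRf]
      show (g * y * g⁻¹) • R = R
      rw [mul_smul, mul_smul, inv_smul_eq_iff.2 hgR.symm, (hRf y).1 hx, hgR]
    have hfixQ : ∀ x ∈ Q, α x = x := by
      refine Rigid.fixes_Q hH hQ2 hcase α (fun x hx => ?_) (fun x hx => ?_) (fun z hz => ?_)
      · obtain ⟨i, hi⟩ := hQ2 ⟨x, hx⟩
        refine two_mem_Q hH.setup
          ((hmem _).2 (hαP x ((hmem x).1 (RankOne.Basic.Q_fix hH.setup hx))))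
          ⟨i, by rw [← map_pow, show x ^ 2 ^ i = 1 by simpa using congrArg Subtype.val hi, map_one]⟩
      · obtain ⟨hx1, hx2⟩ := RankOne.Basic.mem_twoStab.1 hx
        exact RankOne.Basic.mem_twoStab.2
          ⟨(hmem _).2 (hαP x ((hmem x).1 hx1)), (hmem2 _).2 (hαR x ((hmem2 x).1 hx2))⟩
      · rw [hinv] at hz
        obtain ⟨y, hy, rfl⟩ := hPr z hz.1
        rw [hα, show αM y = y from Subtype.ext (by
          show g * (y : G) * g⁻¹ = y
          rw [← Subgroup.mem_centralizer_iff.1 hgc (y : G) hy, mul_inv_cancel_right])]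
    -- `g` fixes the point of `f`
    set δ := h.pt hf.1 with hδ
    have hδP : δ ≠ P := fun e => swp_not_mem hne hf (e ▸ mem_pt hf.1)
    obtain ⟨δ', hδ', -, -, hδf⟩ := exists_linePt hne (mem_pt hf.1) (h.ne f hf.1) (swp_le_sup hne hf)
    obtain ⟨z, hz⟩ := exists_smul Pb (qpt hQ δ')
    have hza : z • a ≠ a := fun e => hδP (hδ'.symm.trans ((congrArg (emb h)
      (qpt_injective (by rw [QuotientGroup.ker_mk']) (hz.symm.trans ((hmem z).1 e)))).trans hP'))
    obtain ⟨q, hqQ, hqe⟩ := RankOne.Basic.Q_trans hH.setup (RankOne.Basic.t_smul_ne hH.setup) hza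
    rw [← mul_smul, ← inv_smul_eq_iff, ← mul_smul, hmem, mul_smul, inv_smul_eq_iff, hz, mul_smul,
      hta] at hqe
    obtain ⟨y, rfl⟩ := QuotientGroup.mk'_surjective _ q
    rw [hRb, qpt_smul] at hqe
    have hyR : (y : G) • R = δ :=
      (congrArg ((y : G) • ·) hR').symm.trans ((smul_emb y R').trans
        ((congrArg (emb h) (qpt_injective (by rw [QuotientGroup.ker_mk']) hqe)).trans hδ'))
    have hαy := hfixQ _ hqQ
    rw [hα] at hαy
    have hz' : y⁻¹ * αM y ∈ Subgroup.center (line P R) := QuotientGroup.eq.1 hαy.symm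
    have hzR : ((y : G)⁻¹ * (g * y * g⁻¹)) • R = R := fix_of_commute hb₀ hb₀1
      (congrArg Subtype.val (Subgroup.mem_center_iff.1 hz' ⟨b₀, right_le_line hb₀⟩)).symm
    have hgδ : g • δ = δ := by
      rw [← hyR]
      rw [mul_smul, inv_smul_eq_iff, mul_smul, mul_smul, inv_smul_eq_iff.2 hgR.symm] at hzR
      exact hzR
    have hgf : Commute g f := by
      have h2 : g * f * g⁻¹ ∈ swp P R := by
        have h3 := swp_conj (g := g) hf
        rwa [hgP, hgR] at h3
      have h3 : Commute f (g * f * g⁻¹) :=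
        commute_mem (mem_pt hf.1) (conj_mem_of_fix hgδ (mem_pt hf.1))
      exact mul_inv_eq_iff_eq_mul.1 (swp_eq_of_commute hne hf h2 h3).symm
    have h4 := swp_conj_centralizer hf hgc
    rwa [← hgf.eq, mul_assoc, h.sq f hf.1, mul_one] at h4
  · obtain ⟨Q, hH, -, -, -, hcase⟩ :=
      twoGen_types hI (lineQuot_twoGen hne) h1 hqne hgen (hswp f hf)
    set a : LineQuot P R ⧸ stabilizer (LineQuot P R) Pb :=
      ((1 : LineQuot P R) : LineQuot P R ⧸ stabilizer (LineQuot P R) Pb)
    set t := π ⟨f, swp_le_sup hne hf⟩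
    have hk2 : π ⟨k, hk⟩ ∈ RankOne.Basic.twoStab (LineQuot P R) a t := by
      have hmem : ∀ x : LineQuot P R, x • a = a ↔ x • Pb = Pb := fun x => by
        rw [MulAction.Quotient.smul_mk, smul_eq_mul, mul_one, QuotientGroup.eq, mul_one, inv_mem_iff]
        rfl
      refine RankOne.Basic.mem_twoStab.2 ⟨(hmem _).2 ((hPf ⟨k, hk⟩).2 hkP), ?_⟩
      rw [← inv_smul_eq_iff, ← mul_smul, ← mul_smul, hmem, mul_smul, mul_smul, (hswp f hf).2,
        inv_smul_eq_iff, (hswp f hf).2]
      exact (hRf ⟨k, hk⟩).2 hkR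
    have hkS : π ⟨k, hk⟩ ∈ BenderSuzuki.kSet a t := by
      have e : ((⊤ ⊓ RankOne.Basic.twoStab (LineQuot P R) a t : Subgroup (LineQuot P R)) :
          Set (LineQuot P R)) = BenderSuzuki.kSet a t := by
        rcases hcase with hl | hs
        exacts [hl.2.1, hs.2.1]
      rw [← e]
      exact ⟨Subgroup.mem_top _, hk2⟩
    have h3 : t * π ⟨k, hk⟩ * t⁻¹ * π ⟨k, hk⟩ = 1 := by rw [hkS.2, inv_mul_cancel]
    rw [← map_inv, ← map_mul, ← map_mul, ← map_mul] at h3
    have hz := (QuotientGroup.eq_one_iff _).1 h3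
    refine Subgroup.mem_centralizer_iff.2 fun p hp => ?_
    have h4 := congrArg Subtype.val (Subgroup.mem_center_iff.1 hz ⟨p, left_le_line hp⟩)
    simp only [Subgroup.coe_mul, Subgroup.coe_inv, h.inv_eq hf.1] at h4
    exact h4

/-- A two-generated configuration with trivial centre has no involution fixing two points. -/
theorem twoGen_onePoint (hI : BenderOne.PropSplit.{u}) (hT : TwoGen h) : OnePoint h := by
  suffices H : ∀ (n : ℕ) (X : Type u) [Group X] [Finite X] (DX : Set X) (hX : Conf DX),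
      Nat.card X = n → TwoGen hX → OnePoint hX from H _ G D h rfl hT
  intro n
  induction n using Nat.strong_induction_on with
  | _ n ih =>
    intro X _ _ DX hX hn hTX
    subst hn
    obtain ⟨hF, A, I, hAI, hgen⟩ := hTX
    refine onePoint hI hF fun P R hne v hv hv1 hP hR =>
      no_even hF.center hAI hgen (fun P' R' hne' htop => ?_) hne hv hv1 hP hR
    refine lineFacts_of_onePoint hI hne'
      (ih _ ?_ _ _ (confLineQuot hne') rfl (lineQuot_twoGen hne'))
    refine lt_of_le_of_lt (Nat.card_le_card_of_surjective _ (QuotientGroup.mk'_surjective _)) ?_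
    exact lt_of_le_of_ne (Nat.card_le_card_of_injective _ Subtype.val_injective)
      fun e => htop (Subgroup.eq_top_of_card_eq _ e)

/-- Every pair of points has `LineFacts`. -/
theorem lineFacts (hI : BenderOne.PropSplit.{u}) {P R : h.Pt} (hne : P ≠ R) : LineFacts P R :=
  lineFacts_of_onePoint hI hne (twoGen_onePoint hI (lineQuot_twoGen hne))

end Conf

end Cfsg.Agent.Lib.OddTransp84.Core
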