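import Cfsg.Agent.Lib.OddTransp84.Core.Bad

/-!
# Configurations without even pairs: counting through an involution fixing two points
-/

set_option autoImplicit false

namespace Cfsg.Agent.Lib.OddTransp84.Core.Conf

universe u

variable {G : Type u} [Group G] [Finite G] {D : Set G} {h : Conf D}

/-- The points fixed by an element. -/
def fixSet (h : Conf D) (v : G) : Set h.Pt := {γ | v • γ = γ}

/-- Exactly `q₀ + 1` members interchanging a moved pair commute with `v`. -/
lemma moved_count (hN : NoEven h) {P R : h.Pt} {v : G} (b : Bad P R v) {i : h.Pt} (hi : v • i ≠ i) :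
    (fixs i (v • i) {v}).ncard = (fixd P {v}).ncard + 2 := by
  have hne : i ≠ v • i := Ne.symm hi
  obtain ⟨f, hf, hvf⟩ := exists_swp_commute hne b.sq rfl
  have hff : f * f = 1 := h.sq f hf.1
  set z := v * f with hz
  have hzb : Bad i (v • i) z := by
    refine ⟨hne, ?_, fun e => ?_, ?_, ?_⟩
    · calc v * f * (v * f) = v * (f * v) * f := by group
        _ = (v * v) * (f * f) := by rw [← hvf.eq]; group
        _ = 1 := by rw [b.sq, hff, one_mul]
    · rw [mul_eq_one_iff_eq_inv, h.inv_eq hf.1] at e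
      exact b.not_mem (e ▸ hf.1)
    · rw [hz, mul_smul, hf.2, ← mul_smul, b.sq, one_smul]
    · rw [hz, mul_smul, (swp_symm hf).2]
  have hzf : Commute z f := by rw [hz]; exact hvf.mul_left (Commute.refl f)
  have h1 := (invI_bijOn hne hf {v} (by rintro w rfl; exact hvf)).ncard_eq
  have h2 := hzb.invI_inverted hN hf hzf
  rw [← h1, ← b.ncard_eq hN hzb.symm] at *
  refine Eq.trans ?_ h2
  congr 1
  ext x
  simp only [Set.mem_ofPred_eq, Set.mem_singleton_iff, forall_eq, MulAut.conj_apply, and_assoc]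
  refine and_congr_right fun _ => and_congr_right fun hfx => ?_
  have e : z * x * z⁻¹ = v * x⁻¹ * v⁻¹ := by
    rw [hz, show v * f * x * (v * f)⁻¹ = v * (f * x * f⁻¹) * v⁻¹ by group, hfx]
  rw [e]
  constructor
  · intro hc
    rw [(hc.inv_right).eq, mul_inv_cancel_right]
  · intro e'
    exact mul_inv_eq_iff_eq_mul.1 (inv_injective (by rw [← e']; group))

/-- The members commuting with `v`. -/
def cdSet (h : Conf D) (v : G) : Set G := {d | d ∈ D ∧ Commute d v}

variable (hN : NoEven h)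
include hN

lemma cdSet_ncard {P R : h.Pt} {v : G} (b : Bad P R v) :
    (cdSet h v).ncard = (fixSet h v).ncard * (fixd P {v}).ncard := by
  classical
  have hU : cdSet h v = ⋃ γ : fixSet h v, fixd (γ : h.Pt) {v} := by
    ext d
    simp only [Set.mem_iUnion]
    constructor
    · rintro ⟨hd, hc⟩
      exact ⟨⟨h.pt hd, fix_of_commute (mem_pt hd) (h.ne d hd) hc.symm⟩, mem_pt hd, h.ne d hd,
        by rintro w rfl; exact hc.symm⟩
    · rintro ⟨γ, hd, hd1, hc⟩
      exact ⟨mem_D hd hd1, (hc v rfl).symm⟩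
  have : Fintype (fixSet h v) := Fintype.ofFinite _
  rw [hU, Set.ncard_iUnion_of_finite (fun γ : fixSet h v => Set.toFinite (fixd (γ : h.Pt) {v}))
    (fun γ δ hne => Set.disjoint_left.2 fun a ha ha' =>
      hne (Subtype.ext (eq_of_mem ha.1 ha'.1 ha.2.1))), finsum_eq_sum_of_fintype,
    Finset.sum_congr rfl (g := fun _ => (fixd P {v}).ncard) (fun γ _ => ?_),
    Finset.sum_const, Finset.card_univ, ← Nat.card_eq_fintype_card, Nat.card_coe_set_eq, smul_eq_mul]
  by_cases e : (γ : h.Pt) = P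
  · rw [e]
  · exact Bad.ncard_eq hN ⟨e, b.sq, b.ne_one, γ.2, b.left⟩ b

omit hN in
lemma mul_conj_fixSet {v f d : G} (hfv : Commute v f) :
    (fixSet h (f * d * f⁻¹ * v)).ncard = (fixSet h (d * v)).ncard := by
  have e : f * d * f⁻¹ * v = f * (d * v) * f⁻¹ := by
    rw [mul_assoc (f * d) f⁻¹ v, ← hfv.inv_right.eq]; group
  have h1 : fixSet h (f * (d * v) * f⁻¹) = (f • ·) '' fixSet h (d * v) := by
    ext γ
    constructor
    · intro hγ
      refine ⟨f⁻¹ • γ, ?_, smul_inv_smul f γ⟩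
      have hγ' : (f * (d * v) * f⁻¹) • γ = γ := hγ
      show (d * v) • f⁻¹ • γ = f⁻¹ • γ
      calc (d * v) • f⁻¹ • γ = f⁻¹ • (f * (d * v) * f⁻¹) • γ := by
            rw [← mul_smul, ← mul_smul]; congr 1; group
        _ = f⁻¹ • γ := by rw [hγ']
    · rintro ⟨δ, hδ, rfl⟩
      show (f * (d * v) * f⁻¹) • f • δ = f • δ
      rw [← mul_smul, inv_mul_cancel_right, mul_smul, show (d * v) • δ = δ from hδ]
  rw [e, h1, Set.ncard_image_of_injective _ (MulAction.injective f)]

lemma fixSet_mul_eq {P R : h.Pt} {v : G} (b : Bad P R v) {d d' : G} (hd : d ∈ cdSet h v)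
    (hd' : d' ∈ cdSet h v) : (fixSet h (d * v)).ncard = (fixSet h (d' * v)).ncard := by
  have key : ∀ d d' : G, d ∈ cdSet h v → ∀ hd' : d' ∈ cdSet h v, d ∉ h.pt hd'.1 →
      (fixSet h (d * v)).ncard = (fixSet h (d' * v)).ncard := by
    intro d d' hd hd' hne
    have hneP : h.pt hd.1 ≠ h.pt hd'.1 := fun e => hne (e ▸ mem_pt hd.1)
    obtain ⟨f, hf, -, he⟩ :=
      swp_surj hneP (mem_pt hd.1) (h.ne d hd.1) (mem_pt hd'.1) (h.ne d' hd'.1)
    have hvf : Commute v f := commute_swp hneP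
      (fix_of_commute (mem_pt hd.1) (h.ne d hd.1) hd.2.symm)
      (fix_of_commute (mem_pt hd'.1) (h.ne d' hd'.1) hd'.2.symm) (mem_pt hd.1) (h.ne d hd.1) hf
      hd.2.symm (he ▸ hd'.2.symm)
    rw [← mul_conj_fixSet hvf (d := d), h.inv_eq hf.1, he]
  by_cases hc : d ∈ h.pt hd'.1
  · -- through a third member
    obtain ⟨γ, hγv, hγ⟩ : ∃ γ : h.Pt, v • γ = γ ∧ γ ≠ h.pt hd'.1 := by
      by_cases e : h.pt hd'.1 = P
      · exact ⟨R, b.right, e ▸ b.ne.symm⟩
      · exact ⟨P, b.left, Ne.symm e⟩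
    obtain ⟨e, he⟩ : (fixd γ {v}).Nonempty := by
      by_cases eP : γ = P
      · exact eP ▸ b.fixd_nonempty hN
      · exact Bad.fixd_nonempty hN ⟨eP, b.sq, b.ne_one, hγv, b.left⟩
    have hem : e ∈ cdSet h v := ⟨mem_D he.1 he.2.1, (he.2.2 v rfl).symm⟩
    have h1 : d ∉ h.pt hem.1 := fun e' => hγ ((pt_eq hem.1 he.1).symm.trans
      (eq_of_mem e' hc (h.ne d hd.1)))
    have h2 : e ∉ h.pt hd'.1 := fun e' => hγ (eq_of_mem he.1 e' he.2.1)
    exact (key d e hd hem h1).trans (key e d' hem hd' h2)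
  · exact key d d' hd hd' hc

lemma double_count {P R : h.Pt} {v : G} (b : Bad P R v) {d₀ : G} (hd₀ : d₀ ∈ cdSet h v) :
    ((fixd P {v}).ncard + 2) * (Nat.card h.Pt - (fixSet h v).ncard) =
      (fixSet h v).ncard * (fixd P {v}).ncard * ((fixSet h (d₀ * v)).ncard - 1) := by
  classical
  have : Fintype h.Pt := Fintype.ofFinite _
  have : Fintype G := Fintype.ofFinite _
  set s : Finset h.Pt := Finset.univ.filter (fun i => v • i ≠ i) with hs
  set t : Finset G := Finset.univ.filter (fun d => d ∈ cdSet h v) with ht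
  have hsc : s.card = Nat.card h.Pt - (fixSet h v).ncard := by
    have e : (s : Set h.Pt) = (fixSet h v)ᶜ := by ext i; simp [hs, fixSet]
    rw [← Set.ncard_coe_finset, e, Set.ncard_compl]
  have htc : t.card = (cdSet h v).ncard := by
    have e : (t : Set G) = cdSet h v := by ext d; simp [ht]
    rw [← Set.ncard_coe_finset, e]
  have htm : ∀ d, d ∈ t ↔ d ∈ cdSet h v := fun d => by simp [ht]
  have hsm : ∀ i, i ∈ s ↔ v • i ≠ i := fun i => by simp [hs]
  have hrow : ∀ i ∈ s, (Finset.bipartiteAbove (fun i d => d • i = v • i) t i).card =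
      (fixd P {v}).ncard + 2 := fun i hi => by
    rw [hs, Finset.mem_filter] at hi
    rw [← moved_count hN b hi.2, ← Set.ncard_coe_finset]
    congr 1
    ext d
    simp only [Finset.coe_bipartiteAbove, Set.mem_ofPred_eq, htm, cdSet, fixs, swp,
      Set.mem_singleton_iff, forall_eq]
    exact ⟨fun ⟨⟨h1, h2⟩, h3⟩ => ⟨⟨h1, h3⟩, h2.symm⟩, fun ⟨⟨h1, h3⟩, h2⟩ => ⟨⟨h1, h2.symm⟩, h3⟩⟩
  have hcol : ∀ d ∈ t, (Finset.bipartiteBelow (fun i d => d • i = v • i) s d).card =
      (fixSet h (d₀ * v)).ncard - 1 := fun d hd => by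
    rw [ht, Finset.mem_filter] at hd
    obtain ⟨-, hd⟩ := hd
    rw [fixSet_mul_eq hN b hd₀ hd, ← Set.ncard_coe_finset]
    have e : ((Finset.bipartiteBelow (fun i d => d • i = v • i) s d : Finset h.Pt) : Set h.Pt) =
        fixSet h (d * v) \ {h.pt hd.1} := by
      ext i
      simp only [Finset.coe_bipartiteBelow, Set.mem_ofPred_eq, hsm, Set.mem_sdiff,
        Set.mem_singleton_iff, fixSet]
      have hiff : (d * v) • i = i ↔ d • i = v • i := by
        rw [mul_smul]
        constructor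
        · intro e
          conv_lhs => rw [← e]
          rw [← mul_smul, h.sq d hd.1, one_smul]
        · intro e
          rw [← e, ← mul_smul, h.sq d hd.1, one_smul]
      rw [hiff]
      constructor
      · rintro ⟨hmv, e⟩
        exact ⟨e, fun e' => hmv (by rw [← e, e', fix_of_mem (mem_pt hd.1)])⟩
      · rintro ⟨e, hne⟩
        refine ⟨fun hfix => hne ?_, e⟩
        exact (pt_eq hd.1 ((D_fix_iff hd.1).1 (e.trans hfix))).symm
    rw [e, Set.ncard_sdiff_singleton_of_mem]
    show (d * v) • h.pt hd.1 = h.pt hd.1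
    rw [mul_smul, fix_of_commute (mem_pt hd.1) (h.ne d hd.1) hd.2.symm, fix_of_mem (mem_pt hd.1)]
  have h1 := Finset.card_mul_eq_card_mul _ hrow hcol
  rw [hsc, htc, cdSet_ncard hN b] at h1
  rw [mul_comm, h1]

/-- The product of `v` with a member commuting with it fixes two points. -/
lemma bad_mul (hF : Full h) {P R : h.Pt} {v : G} (b : Bad P R v) {d : G} (hd : d ∈ cdSet h v) :
    ∃ δ : h.Pt, Bad (h.pt hd.1) δ (d * v) := by
  have hfixd : (d * v) • h.pt hd.1 = h.pt hd.1 := by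
    rw [mul_smul, fix_of_commute (mem_pt hd.1) (h.ne d hd.1) hd.2.symm, fix_of_mem (mem_pt hd.1)]
  by_contra hall
  push Not at hall
  have hone : (fixSet h (d * v)).ncard ≤ 1 := by
    rw [Set.ncard_le_one (Set.toFinite _)]
    have key : ∀ γ ∈ fixSet h (d * v), γ = h.pt hd.1 := fun γ hγ => by
      by_contra hne
      refine hall γ ⟨Ne.symm hne, ?_, fun e => ?_, hfixd, hγ⟩
      · calc d * v * (d * v) = d * (v * d) * v := by group
          _ = (d * d) * (v * v) := by rw [← hd.2.eq]; group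
          _ = 1 := by rw [h.sq d hd.1, b.sq, one_mul]
      · rw [mul_eq_one_iff_eq_inv, b.inv_eq] at e
        exact b.not_mem (e ▸ hd.1)
    exact fun γ hγ δ hδ => (key γ hγ).trans (key δ hδ).symm
  have h1 := double_count hN b hd
  rw [show (fixSet h (d * v)).ncard - 1 = 0 by omega, mul_zero, mul_eq_zero] at h1
  have h2 : Nat.card h.Pt - (fixSet h v).ncard = 0 := h1.resolve_left (by omega)
  have hall' : fixSet h v = Set.univ := by
    refine Set.eq_of_subset_of_ncard_le (Set.subset_univ _) ?_ (Set.toFinite _)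
    rw [Set.ncard_univ]
    omega
  exact b.ne_one (hF.eq_one_of_centralizes fun f hf =>
    commute_of_fix_all hF.two (fun γ => (hall' ▸ Set.mem_univ γ : γ ∈ fixSet h v)) hf)

/-- `(q₀ + 1) (n - k) = k (q₀ - 1) (k - 1)`. -/
theorem mu (hF : Full h) {P R : h.Pt} {v : G} (b : Bad P R v) :
    ((fixd P {v}).ncard + 2) * (Nat.card h.Pt - (fixSet h v).ncard) =
      (fixSet h v).ncard * (fixd P {v}).ncard * ((fixSet h v).ncard - 1) := by
  obtain ⟨d, hd⟩ := b.fixd_nonempty hN
  have hdc : d ∈ cdSet h v := ⟨mem_D hd.1 hd.2.1, (hd.2.2 v rfl).symm⟩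
  obtain ⟨δ, b'⟩ := bad_mul hN hF b hdc
  have h1 := double_count hN b hdc
  have hd' : d ∈ cdSet h (d * v) := ⟨hdc.1, (Commute.refl d).mul_right hdc.2⟩
  have h2 := double_count hN b' hd'
  rw [← mul_assoc d d v, h.sq d hdc.1, one_mul, b'.ncard_eq hN b] at h2
  rw [h1]
  congr 2
  have hk : 1 ≤ (fixSet h v).ncard :=
    (Set.ncard_pos (Set.toFinite _)).2 ⟨P, b.left⟩
  have hk' : 1 ≤ (fixSet h (d * v)).ncard :=
    (Set.ncard_pos (Set.toFinite _)).2 ⟨_, b'.left⟩
  have hkn : (fixSet h v).ncard ≤ Nat.card h.Pt := Set.ncard_le_card _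
  have hkn' : (fixSet h (d * v)).ncard ≤ Nat.card h.Pt := Set.ncard_le_card _
  generalize (fixd P {v}).ncard = c at h1 h2
  generalize (fixSet h v).ncard = k at h1 h2 hk hkn ⊢
  generalize (fixSet h (d * v)).ncard = k' at h1 h2 hk' hkn' ⊢
  zify [hk, hk', hkn, hkn'] at h1 h2
  have h3 : (2 : ℤ) * ((k' : ℤ) - k) = 0 := by linear_combination h1 - h2
  omega

end Cfsg.Agent.Lib.OddTransp84.Core.Conf
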