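import Cfsg.Agent.Lib.OddTransp84.Core.Isolated
import Cfsg.Agent.Lib.OddTransp84.Core.Count

/-!
# Configurations: the stabiliser of two points

Its members are the interchanging ones, they are isolated, and its odd core fixes both points and is
transitive on them.
-/

set_option autoImplicit false

namespace Cfsg.Agent.Lib.OddTransp84.Core.Conf

universe u

variable {G : Type u} [Group G] {D : Set G} {h : Conf D}

/-- The stabiliser of a set of two points. -/
def pairStab (P R : h.Pt) : Subgroup G where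
  carrier := {g | g • P = P ∧ g • R = R ∨ g • P = R ∧ g • R = P}
  one_mem' := Or.inl ⟨one_smul _ _, one_smul _ _⟩
  mul_mem' := by
    rintro a b (⟨a1, a2⟩ | ⟨a1, a2⟩) (⟨b1, b2⟩ | ⟨b1, b2⟩)
    · exact Or.inl ⟨by rw [mul_smul, b1, a1], by rw [mul_smul, b2, a2]⟩
    · exact Or.inr ⟨by rw [mul_smul, b1, a2], by rw [mul_smul, b2, a1]⟩
    · exact Or.inr ⟨by rw [mul_smul, b1, a1], by rw [mul_smul, b2, a2]⟩
    · exact Or.inl ⟨by rw [mul_smul, b1, a2], by rw [mul_smul, b2, a1]⟩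
  inv_mem' := by
    rintro a (⟨a1, a2⟩ | ⟨a1, a2⟩)
    · exact Or.inl ⟨inv_smul_eq_iff.2 a1.symm, inv_smul_eq_iff.2 a2.symm⟩
    · exact Or.inr ⟨inv_smul_eq_iff.2 a2.symm, inv_smul_eq_iff.2 a1.symm⟩

lemma mem_pairStab_of_fix {P R : h.Pt} {g : G} (hP : g • P = P) (hR : g • R = R) :
    g ∈ pairStab P R := Or.inl ⟨hP, hR⟩

lemma swp_mem_pairStab {P R : h.Pt} {f : G} (hf : f ∈ swp P R) : f ∈ pairStab P R :=
  Or.inr ⟨hf.2, (swp_symm hf).2⟩

lemma mem_swp_of_mem {P R : h.Pt} (hne : P ≠ R) {f : G} (hf : f ∈ D) (hfN : f ∈ pairStab P R) :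
    f ∈ swp P R := by
  rcases hfN with ⟨h1, h2⟩ | ⟨h1, -⟩
  · exact absurd (D_fix_unique hf h1 h2) hne
  · exact ⟨hf, h1⟩

/-- The members of the stabiliser of two points are isolated in it. -/
lemma swp_isolated {P R : h.Pt} (hne : P ≠ R) {f : G} (hf : f ∈ swp P R) :
    ∀ g ∈ pairStab P R, Commute f (g * f * g⁻¹) → g * f * g⁻¹ = f := fun g hg hc =>
  (swp_eq_of_commute hne hf (mem_swp_of_mem hne (h.conj g f hf.1)
    (mul_mem (mul_mem hg (swp_mem_pairStab hf)) (inv_mem hg))) hc).symm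

variable [Finite G]

/-- The odd core of the stabiliser of two points. -/
abbrev pairCore (P R : h.Pt) : Subgroup G := oddOf (pairStab P R)

lemma smul_left_of_odd {P R : h.Pt} (hne : P ≠ R) {x : G} (hx : x ∈ pairStab P R)
    (ho : Odd (orderOf x)) : x • P = P ∧ x • R = R := by
  rcases hx with hx | ⟨h1, h2⟩
  · exact hx
  · obtain ⟨i, hi⟩ := ho
    have h3 : ∀ j : ℕ, x ^ (2 * j) • P = P := fun j => by
      induction j with
      | zero => simp
      | succ j ih => rw [mul_add, mul_one, pow_add, mul_smul, pow_two, mul_smul, h1, h2, ih]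
    have h4 : x ^ (2 * i + 1) • P = P := by rw [← hi, pow_orderOf_eq_one, one_smul]
    rw [pow_succ', mul_smul, h3, h1] at h4
    exact absurd h4.symm hne

lemma pairCore_fix {P R : h.Pt} (hne : P ≠ R) {x : G} (hx : x ∈ pairCore P R) :
    x • P = P ∧ x • R = R :=
  smul_left_of_odd hne (oddOf_le _ hx) (odd_orderOf_oddOf hx)

lemma odd_swp_mul {P R : h.Pt} (hne : P ≠ R) {f f' : G} (hf : f ∈ swp P R) (hf' : f' ∈ swp P R) :
    Odd (orderOf (f * f')) := by
  by_cases hc : Commute f f'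
  · rw [← swp_eq_of_commute hne hf hf' hc, h.sq f hf.1]; simp
  · exact h.odd f hf.1 f' hf'.1 hc

lemma swp_mul_mem {P R : h.Pt} (hne : P ≠ R) {f f' : G} (hf : f ∈ swp P R) (hf' : f' ∈ swp P R) :
    f * f' ∈ pairCore P R :=
  mul_mem_oddOf (swp_mem_pairStab hf) (h.sq f hf.1) (h.ne f hf.1) (swp_isolated hne hf)
    (swp_mem_pairStab hf') (h.sq f' hf'.1) (odd_swp_mul hne hf hf')

/-- The odd core is transitive on the interchanging members, by inverted elements. -/
lemma swp_exists_conj {P R : h.Pt} (hne : P ≠ R) {f f' : G} (hf : f ∈ swp P R) (hf' : f' ∈ swp P R) :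
    ∃ y ∈ pairCore P R, f * y * f = y⁻¹ ∧ y⁻¹ * f * y = f' := by
  obtain ⟨y, hy, h1, h2⟩ :=
    exists_conj_of_odd (h.sq f hf.1) (h.sq f' hf'.1) (odd_swp_mul hne hf hf')
  exact ⟨y, Subgroup.zpowers_le.2 (swp_mul_mem hne hf hf') hy, h1, h2⟩

end Cfsg.Agent.Lib.OddTransp84.Core.Conf
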