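import Cfsg.Agent.Lib.OddTransp84.Core.Layer
import Cfsg.Agent.Lib.OddTransp84.Core.Mu
import Cfsg.Agent.Lib.BenderSuzuki.Coords.Basic

/-!
# Configurations without even pairs: the type of a layer, and the shell of a unitary layer

For a unitary layer the elements of 2-power order of the layer centralising the point `P` form a
subgroup of order `q₀ ^ 3`, transitive on the other fixed points.
-/

set_option autoImplicit false

namespace Cfsg.Agent.Lib.OddTransp84.Core.Conf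

open MulAction
open scoped Pointwise

universe u

variable {G : Type u} [Group G] [Finite G] {D : Set G} {h : Conf D}

/-- The induction hypothesis: in smaller groups there are no involutions fixing two points. -/
def Below (G : Type u) [Group G] : Prop :=
  ∀ (X : Type u) [Group X] [Finite X] (DX : Set X) (hX : Conf DX),
    Nat.card X < Nat.card G → Full hX → NoEven hX → OnePoint hX

/-- The shell of `v` at `P`: a subgroup of the centraliser of `v` and of `P`. -/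
structure Shell (P : h.Pt) (v : G) (S : Subgroup G) : Prop where
  mem_iff : ∀ x, x ∈ S ↔
    x ∈ lay D v ∧ x ∈ Subgroup.centralizer (P.1 : Set G) ∧ ∃ i, x ^ 2 ^ i = 1
  two : IsPGroup 2 S
  card : Nat.card S = ((fixd P {v}).ncard + 1) ^ 3
  sq : ∀ x ∈ S, x * x ∈ P
  invol : ∀ x ∈ S, x * x = 1 → x ∈ P
  inter : ∀ x, x ∈ P → Commute x v → x ∈ S
  trans : ∀ γ δ : h.Pt, v • γ = γ → v • δ = δ → γ ≠ P → δ ≠ P → ∃ s ∈ S, s • γ = δ

/-- In a rank-one set-up the 2-elements fixing `a` lie in `Q`, if `Q` is a 2-group. -/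
lemma two_mem_Q {X : Type*} {Ω : Type*} [Group X] [Finite X] [MulAction X Ω] {a : Ω} {t : X}
    {Q : Subgroup X} (hS : Cfsg.IsRankOneSetup X Ω a t Q) {x : X} (hx : x • a = a)
    (hx2 : ∃ i, x ^ 2 ^ i = 1) : x ∈ Q := by
  obtain ⟨q, hq, d, hd, hxe⟩ : ∃ q ∈ Q, ∃ d ∈ RankOne.Basic.twoStab X a t, x = q * d := by
    have hmem : x ∈ (↑Q : Set X) * ↑(RankOne.Basic.twoStab X a t) := by
      rw [← Subgroup.coe_mul_of_right_le_normalizer_left Q (RankOne.Basic.twoStab X a t)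
        (Subgroup.le_normalizer_iff.2 fun d hd q hq => RankOne.Basic.twoStab_norm hS hd hq),
        SetLike.mem_coe, hS.sup_eq]
      exact hx
    obtain ⟨q, hq, d, hd, e⟩ := Set.mem_mul.1 hmem
    exact ⟨q, hq, d, hd, e.symm⟩
  obtain ⟨i, hi⟩ := hx2
  set N := Nat.card (RankOne.Basic.twoStab X a t)
  have hpow : ∀ n : ℕ, x ^ n * (d ^ n)⁻¹ ∈ Q := fun n => by
    induction n with
    | zero => simp [Q.one_mem]
    | succ n ih =>
      rw [show x ^ (n + 1) * (d ^ (n + 1))⁻¹ = q * (d * (x ^ n * (d ^ n)⁻¹) * d⁻¹) by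
        rw [pow_succ', pow_succ', hxe]; group]
      exact Q.mul_mem hq (RankOne.Basic.twoStab_norm hS hd ih)
  have h1 := hpow N
  have hdN : d ^ N = 1 := by
    have := congrArg Subtype.val (pow_card_eq_one' (x := (⟨d, hd⟩ : RankOne.Basic.twoStab X a t)))
    exact (SubmonoidClass.coe_pow _ _).symm.trans this
  rw [hdN, inv_one, mul_one] at h1
  obtain ⟨s, hs⟩ := exists_pow_eq_self_of_coprime (x := x) (n := N)
    (((Nat.coprime_two_left.2 hS.odd_card).symm.pow_right i).coprime_dvd_right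
      (orderOf_dvd_of_pow_eq_one hi))
  rw [← hs]
  exact pow_mem h1 s

namespace LCtx

variable {P R : h.Pt} {v : G} (C : LCtx h P R v)
include C

/-- The type of the layer. -/
theorem layer_types (hI : BenderOne.PropSplit.{u}) (ih : Below G) :
    ∃ (f : LayQuot D v) (Q : Subgroup (LayQuot D v)),
      f ∈ swp (C.bar P C.bad.left) (C.bar R C.bad.right) ∧
      BenderSuzuki.Hyp (LayQuot D v) (LayQuot D v ⧸ stabilizer (LayQuot D v) (C.bar P C.bad.left))
        ((1 : LayQuot D v) : LayQuot D v ⧸ stabilizer (LayQuot D v) (C.bar P C.bad.left)) f Q ∧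
      IsPGroup 2 Q ∧
      BenderSuzuki.invs (LayQuot D v)
        ((1 : LayQuot D v) : LayQuot D v ⧸ stabilizer (LayQuot D v) (C.bar P C.bad.left)) =
          sharp (C.bar P C.bad.left) ∧
      BenderSuzuki.qNum (LayQuot D v)
        ((1 : LayQuot D v) : LayQuot D v ⧸ stabilizer (LayQuot D v) (C.bar P C.bad.left)) =
          (fixd P {v}).ncard + 1 ∧
      (fixSet h v).ncard = Nat.card Q + 1 ∧
      (BenderSuzuki.IsLinearCase
          ((1 : LayQuot D v) : LayQuot D v ⧸ stabilizer (LayQuot D v) (C.bar P C.bad.left)) f Q ⊤ ∨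
        BenderSuzuki.IsSuzukiCase
          ((1 : LayQuot D v) : LayQuot D v ⧸ stabilizer (LayQuot D v) (C.bar P C.bad.left)) f Q ⊤ ∨
        BenderSuzuki.IsUnitaryCase
          ((1 : LayQuot D v) : LayQuot D v ⧸ stabilizer (LayQuot D v) (C.bar P C.bad.left)) f Q ⊤) := by
  have hne : C.bar P C.bad.left ≠ C.bar R C.bad.right := fun e => C.bad.ne (C.bar_inj e)
  obtain ⟨a, ha, ha1⟩ := exists_ne_one (C.bar P C.bad.left)
  obtain ⟨b, hb, hb1⟩ := exists_ne_one (C.bar R C.bad.right)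
  obtain ⟨f, hf, -, -⟩ := swp_surj hne ha ha1 hb hb1
  obtain ⟨Q, hH, hQ2, hinv, hq, hk, hcases⟩ :=
    types hI C.quot_full (ih _ _ C.confQ C.card_lt C.quot_full C.quot_noEven) hne hf
  refine ⟨f, Q, hf, hH, hQ2, hinv, ?_, ?_, hcases⟩
  · rw [hq, C.card_bar]
  · rw [← hk]; exact C.card_pt.symm

/-- The shell of a unitary layer. -/
theorem shell_exists {f : LayQuot D v} {Q : Subgroup (LayQuot D v)}
    (hf : f ∈ swp (C.bar P C.bad.left) (C.bar R C.bad.right))
    (hH : BenderSuzuki.Hyp (LayQuot D v)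
      (LayQuot D v ⧸ stabilizer (LayQuot D v) (C.bar P C.bad.left))
      ((1 : LayQuot D v) : LayQuot D v ⧸ stabilizer (LayQuot D v) (C.bar P C.bad.left)) f Q)
    (hQ2 : IsPGroup 2 Q)
    (hinv : BenderSuzuki.invs (LayQuot D v)
      ((1 : LayQuot D v) : LayQuot D v ⧸ stabilizer (LayQuot D v) (C.bar P C.bad.left)) =
        sharp (C.bar P C.bad.left))
    (hq : BenderSuzuki.qNum (LayQuot D v)
      ((1 : LayQuot D v) : LayQuot D v ⧸ stabilizer (LayQuot D v) (C.bar P C.bad.left)) =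
        (fixd P {v}).ncard + 1)
    (hU : BenderSuzuki.IsUnitaryCase
      ((1 : LayQuot D v) : LayQuot D v ⧸ stabilizer (LayQuot D v) (C.bar P C.bad.left)) f Q ⊤) :
    ∃ S : Subgroup G, Shell P v S := by
  classical
  set Pb := C.bar P C.bad.left with hPb
  set H := stabilizer (LayQuot D v) Pb with hHdef
  set a : (LayQuot D v) ⧸ H := ((1 : (LayQuot D v)) : (LayQuot D v) ⧸ H) with ha
  set π := layMap D v with hπ
  have hmemH : ∀ x : (LayQuot D v), x • a = a ↔ x • Pb = Pb := fun x => by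
    rw [ha, MulAction.Quotient.smul_mk, smul_eq_mul, mul_one, QuotientGroup.eq, mul_one, inv_mem_iff]
    rfl
  have hsmul : ∀ x y : (LayQuot D v), x • Pb = y • Pb ↔ x • a = y • a := fun x y => by
    rw [← inv_smul_eq_iff, ← mul_smul, ← hmemH, mul_smul, inv_smul_eq_iff]
  have hS := hH.setup
  obtain ⟨hQcard, hVle, hVcard, -⟩ := hU
  have hbig := C.big
  obtain ⟨τ, hτV, hτ1⟩ : ∃ τ ∈ BenderSuzuki.vKer a f, τ ≠ 1 := by
    obtain ⟨τ, hτ, hτ1⟩ := (⊤ ⊓ BenderSuzuki.vGrp a f : Subgroup (LayQuot D v)).bot_or_exists_ne_one.resolve_left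
      (fun e => by
        rw [e, Subgroup.card_bot, one_mul, hq] at hVcard
        have h3 := Nat.gcd_le_left ((fixd P {v}).ncard + 1 + 1) (show 0 < 3 by norm_num)
        omega)
    exact ⟨τ, hVle hτ, hτ1⟩
  have hctx : BenderSuzuki.Coords.Ctx (LayQuot D v) ((LayQuot D v) ⧸ H) a f Q := ⟨hH, hQ2, hQcard,
    fun e => hτ1 (by rw [e, Subgroup.mem_bot] at hτV; exact hτV)⟩
  have hPle : ∀ x : (LayQuot D v), x ∈ Pb → x ∈ BenderSuzuki.Coords.zSub hctx := fun x hx =>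
    ⟨(hmemH x).2 (fix_of_mem hx), sq_mem hx⟩
  have hzrep : ∀ x ∈ BenderSuzuki.Coords.zSub hctx, ∃ w : lay D v, (w : G) ∈ P ∧ π w = x := by
    intro x hx
    by_cases hx1 : x = 1
    · exact ⟨1, one_mem_pt P, by rw [map_one, hx1]⟩
    · have h1 := BenderSuzuki.Coords.invs_of_z hctx hx hx1
      rw [hinv] at h1
      exact C.exists_of_mem_bar C.bad.left h1.1
  have hzQ := fun x hx => BenderSuzuki.Coords.zSub_le hctx (x := x) hx
  -- a lift of `τ` of odd order, centralising `P`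
  obtain ⟨t, hto, htτ⟩ : ∃ t : lay D v, Odd (orderOf t) ∧ π t = τ := by
    obtain ⟨t₀, ht₀⟩ := QuotientGroup.mk'_surjective _ τ
    have hτo := BenderSuzuki.Coords.ker_orderOf_odd hctx hτV
    set n := 2 ^ (orderOf t₀).factorization 2 with hn
    obtain ⟨s, hs⟩ := exists_pow_eq_self_of_coprime (x := τ) (n := n)
      ((Nat.coprime_two_left.2 hτo).pow_left _)
    refine ⟨(t₀ ^ n) ^ s, (show Odd (orderOf (t₀ ^ n)) from ?_).of_dvd_nat (orderOf_pow_dvd s), ?_⟩
    · rw [orderOf_pow' _ (by positivity), Nat.gcd_eq_right (Nat.ordProj_dvd _ _), ← Nat.not_even_iff_odd,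
        even_iff_two_dvd]
      exact Nat.not_dvd_ordCompl Nat.prime_two (orderOf_pos t₀).ne'
    · rw [map_pow, map_pow, hπ, ht₀]; exact hs
  have hτP : τ • Pb = Pb := (hmemH τ).1 hτV.1.1
  have htP : (t : G) • P = P := (C.bar_fix_iff t C.bad.left).1 (htτ ▸ hτP)
  have hτc : τ ∈ Subgroup.centralizer (Pb.1 : Set (LayQuot D v)) := by
    refine Subgroup.mem_centralizer_iff.2 fun x hx => ?_
    exact (mul_inv_eq_iff_eq_mul.1 (BenderSuzuki.Coords.ker_z hctx hτV (hPle x hx))).symm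
  have htcent : (t : G) ∈ Subgroup.centralizer (P.1 : Set G) := by
    have h1 := C.bad.sq_centralizes C.noEven htP (commute_of_mem_lay t.2)
      (fun a ha => C.commute_of_centralizes C.bad.left (htτ ▸ hτc) ha)
    rw [← Subgroup.orderOf_coe] at hto
    rw [← sqrtOdd_sq hto, sqrtOdd]
    exact pow_mem h1 _
  -- every element of `Q` has a representative centralising `P`
  let T : Subgroup (lay D v) :=
    Q.comap π ⊓ (Subgroup.centralizer (P.1 : Set G)).subgroupOf (lay D v)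
  have hTsurj : ∀ x ∈ Q, ∃ w ∈ T, π w = x := by
    -- `y ↦ y⁻¹ τ y τ⁻¹` is onto modulo the involutions
    let E : Subgroup Q := (BenderSuzuki.Coords.zSub hctx).subgroupOf Q
    have hτQ : ∀ y : Q, (y : (LayQuot D v))⁻¹ * (τ * y * τ⁻¹) ∈ Q := fun y =>
      mul_mem (inv_mem y.2) (RankOne.Basic.twoStab_norm hS hτV.1 y.2)
    have hzc : ∀ z ∈ BenderSuzuki.Coords.zSub hctx, ∀ y ∈ Q, z * y = y * z :=
      fun z hz y hy => BenderSuzuki.Coords.z_comm hctx hz hy
    let θ : Q → Q ⧸ E := fun y => QuotientGroup.mk ⟨_, hτQ y⟩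
    have hθ : ∀ y y' : Q, θ y = θ y' → (QuotientGroup.mk y : Q ⧸ E) = QuotientGroup.mk y' := by
      intro y y' e
      rw [QuotientGroup.eq, Subgroup.mem_subgroupOf] at e
      set z := ((y : (LayQuot D v))⁻¹ * (τ * y * τ⁻¹))⁻¹ * ((y' : (LayQuot D v))⁻¹ * (τ * y' * τ⁻¹)) with hz
      have hzE : z ∈ BenderSuzuki.Coords.zSub hctx := e
      rw [QuotientGroup.eq, Subgroup.mem_subgroupOf]
      show (y : (LayQuot D v))⁻¹ * y' ∈ BenderSuzuki.Coords.zSub hctx
      -- `τ` moves `y' * y⁻¹` into its own coset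
      have hw : τ * ((y' : (LayQuot D v)) * (y : (LayQuot D v))⁻¹) * τ⁻¹ = (y' : (LayQuot D v)) * (y : (LayQuot D v))⁻¹ * z := by
        calc τ * ((y' : (LayQuot D v)) * (y : (LayQuot D v))⁻¹) * τ⁻¹
            = (y' : (LayQuot D v)) * (((y : (LayQuot D v))⁻¹ * (τ * y * τ⁻¹)) * z) * ((y : (LayQuot D v))⁻¹ * (τ * y * τ⁻¹))⁻¹ *
                (y : (LayQuot D v))⁻¹ := by rw [hz]; group
          _ = (y' : (LayQuot D v)) * ((z * ((y : (LayQuot D v))⁻¹ * (τ * y * τ⁻¹))) * ((y : (LayQuot D v))⁻¹ * (τ * y * τ⁻¹))⁻¹) *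
                (y : (LayQuot D v))⁻¹ := by rw [hzc z hzE _ (hτQ y)]; group
          _ = (y' : (LayQuot D v)) * (z * (y : (LayQuot D v))⁻¹) := by group
          _ = _ := by rw [hzc z hzE _ (inv_mem y.2), mul_assoc]
      have hz1 := BenderSuzuki.Coords.ker_trick hctx hτV hzE hw
      have hwz : (y' : (LayQuot D v)) * (y : (LayQuot D v))⁻¹ ∈ BenderSuzuki.Coords.zSub hctx :=
        BenderSuzuki.Coords.ker_fixed_mem hctx hτV hτ1 (mul_mem y'.2 (inv_mem y.2))
          (by rw [hw, hz1, mul_one])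
      have e' : (y : (LayQuot D v))⁻¹ * y' = (y' : (LayQuot D v)) * (y : (LayQuot D v))⁻¹ := by
        calc (y : (LayQuot D v))⁻¹ * y' = (y : (LayQuot D v))⁻¹ * ((y' : (LayQuot D v)) * (y : (LayQuot D v))⁻¹ * y) := by group
          _ = (y : (LayQuot D v))⁻¹ * ((y : (LayQuot D v)) * ((y' : (LayQuot D v)) * (y : (LayQuot D v))⁻¹)) := by rw [hzc _ hwz _ y.2]
          _ = _ := by group
      rw [e']; exact hwz
    have hzfix : ∀ (z : (LayQuot D v)), z ∈ BenderSuzuki.Coords.zSub hctx → τ * z * τ⁻¹ = z :=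
      fun z hz => BenderSuzuki.Coords.ker_z hctx hτV hz
    let θq : Q ⧸ E → Q ⧸ E := Quotient.lift θ fun y y' hyy => by
      have hz := QuotientGroup.leftRel_apply.1 hyy
      rw [Subgroup.mem_subgroupOf] at hz
      have hz' : (y : (LayQuot D v))⁻¹ * y' ∈ BenderSuzuki.Coords.zSub hctx := hz
      show θ y = θ y'
      refine congrArg QuotientGroup.mk (Subtype.ext ?_)
      show (y : (LayQuot D v))⁻¹ * (τ * y * τ⁻¹) = (y' : (LayQuot D v))⁻¹ * (τ * y' * τ⁻¹)
      have e : (y' : (LayQuot D v)) = y * ((y : (LayQuot D v))⁻¹ * y') := by group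
      rw [e]
      set z := (y : (LayQuot D v))⁻¹ * y'
      calc (y : (LayQuot D v))⁻¹ * (τ * y * τ⁻¹) = z⁻¹ * (((y : (LayQuot D v))⁻¹ * (τ * y * τ⁻¹)) * z) := by
            rw [← hzc z hz' _ (hτQ y)]; group
        _ = z⁻¹ * (y : (LayQuot D v))⁻¹ * (τ * y * τ⁻¹) * (τ * z * τ⁻¹) := by rw [hzfix z hz']; group
        _ = _ := by group
    have hinj : Function.Injective θq := fun y y' => by
      induction y using Quotient.inductionOn with | _ y => ?_
      induction y' using Quotient.inductionOn with | _ y' => ?_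
      exact hθ y y'
    intro x hx
    obtain ⟨yq, hy⟩ := (Finite.injective_iff_surjective.1 hinj) (QuotientGroup.mk ⟨x, hx⟩)
    induction yq using Quotient.inductionOn with | _ y => ?_
    have hz : ((y : (LayQuot D v))⁻¹ * (τ * y * τ⁻¹))⁻¹ * x ∈ BenderSuzuki.Coords.zSub hctx :=
      (Subgroup.mem_subgroupOf.1 (QuotientGroup.eq.1 hy) :)
    obtain ⟨w, hwP, hwe⟩ := hzrep _ hz
    obtain ⟨y₀, hy₀⟩ := QuotientGroup.mk'_surjective _ (y : (LayQuot D v))
    have hy₀' : π y₀ = (y : (LayQuot D v)) := hy₀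
    have hy₀P : (y₀ : G) • P = P := (C.bar_fix_iff y₀ C.bad.left).1
      (hy₀' ▸ (hmemH _).1 (RankOne.Basic.Q_fix hS y.2))
    have hcomm : ((y₀⁻¹ * t * y₀ * t⁻¹ : lay D v) : G) ∈ Subgroup.centralizer (P.1 : Set G) := by
      push_cast
      refine mul_mem (Subgroup.mem_centralizer_iff.2 fun p hp => ?_) (inv_mem htcent)
      have h1 := Subgroup.mem_centralizer_iff.1 htcent _ (conj_mem_of_fix hy₀P hp)
      calc p * ((y₀ : G)⁻¹ * t * y₀) = (y₀ : G)⁻¹ * ((y₀ : G) * p * (y₀ : G)⁻¹ * t) * y₀ := by group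
        _ = (y₀ : G)⁻¹ * (t * ((y₀ : G) * p * (y₀ : G)⁻¹)) * y₀ := by rw [h1]
        _ = _ := by group
    refine ⟨y₀⁻¹ * t * y₀ * t⁻¹ * w, ⟨?_, ?_⟩, ?_⟩
    · show π _ ∈ Q
      rw [map_mul, map_mul, map_mul, map_mul, map_inv, map_inv, htτ, hwe, hy₀']
      rw [show (y : (LayQuot D v))⁻¹ * τ * y * τ⁻¹ * (((y : (LayQuot D v))⁻¹ * (τ * y * τ⁻¹))⁻¹ * x) = x by group]
      exact hx
    · show ((y₀⁻¹ * t * y₀ * t⁻¹ * w : lay D v) : G) ∈ Subgroup.centralizer (P.1 : Set G)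
      rw [Subgroup.coe_mul]
      exact mul_mem hcomm
        (Subgroup.mem_centralizer_iff.2 fun p hp => (commute_mem hwP hp).eq.symm)
    · rw [map_mul, map_mul, map_mul, map_mul, map_inv, map_inv, htτ, hwe, hy₀']
      group
  -- the shell
  have hTnil : Group.IsNilpotent T := by
    let g : T →* Q := (π.comp T.subtype).codRestrict Q fun w => w.2.1
    have : Group.IsNilpotent Q := hQ2.isNilpotent
    refine Subgroup.isNilpotent_of_ker_le_center g (fun w hw => ?_)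
    rw [Subgroup.mem_center_iff]
    intro x
    have h1 : π w = 1 := congrArg Subtype.val hw
    exact Subtype.ext (Subgroup.mem_center_iff.1 (C.layMap_eq_one.1 h1) x)
  have : Fact (Nat.Prime 2) := ⟨Nat.prime_two⟩
  obtain ⟨Sy⟩ := (inferInstance : Nonempty (Sylow 2 T))
  have hSyn : (Sy : Subgroup T).Normal :=
    Sy.normal_of_normalizerCondition Group.normalizerCondition_of_isNilpotent
  have hSymem : ∀ w : T, (∃ i, w ^ 2 ^ i = 1) → w ∈ (Sy : Subgroup T) := fun w ⟨i, hi⟩ => by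
    obtain ⟨j, -, hj⟩ := (Nat.dvd_prime_pow Nat.prime_two).1 (orderOf_dvd_of_pow_eq_one hi)
    obtain ⟨S', hS'⟩ := (IsPGroup.of_card (n := j)
      (by rw [Nat.card_zpowers, hj]) : IsPGroup 2 (Subgroup.zpowers w)).exists_le_sylow
    have : Subsingleton (Sylow 2 T) := @Unique.instSubsingleton _ (Sylow.unique_of_normal Sy hSyn)
    rw [Subsingleton.elim Sy S']
    exact hS' (Subgroup.mem_zpowers w)
  set S : Subgroup G := ((Sy : Subgroup T).map T.subtype).map (lay D v).subtype with hSdef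
  have hSp : IsPGroup 2 S := (Sy.2.map _).map _
  have hiff : ∀ x, x ∈ S ↔
      x ∈ lay D v ∧ x ∈ Subgroup.centralizer (P.1 : Set G) ∧ ∃ i, x ^ 2 ^ i = 1 := fun x => by
    constructor
    · rintro ⟨_, ⟨w, hw, rfl⟩, rfl⟩
      refine ⟨(w : lay D v).2, w.2.2, ?_⟩
      obtain ⟨i, hi⟩ := Sy.2 ⟨w, hw⟩
      exact ⟨i, by simpa using congrArg (fun y : Sy.1 => ((y : T) : lay D v).1) hi⟩
    · rintro ⟨hxL, hxP, i, hi⟩
      have hfix : π ⟨x, hxL⟩ • Pb = Pb :=
        (C.bar_fix_iff ⟨x, hxL⟩ C.bad.left).2 (fix_of_centralizer hxP)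
      have hxQ : π ⟨x, hxL⟩ ∈ Q := two_mem_Q hS ((hmemH _).2 hfix)
        ⟨i, by rw [← map_pow, show (⟨x, hxL⟩ : lay D v) ^ 2 ^ i = 1 from Subtype.ext hi, map_one]⟩
      exact ⟨⟨x, hxL⟩, ⟨⟨⟨x, hxL⟩, hxQ, hxP⟩,
        hSymem _ ⟨i, Subtype.ext (Subtype.ext hi)⟩, rfl⟩, rfl⟩
  have hinjS : ∀ w w' : lay D v, (w : G) ∈ S → (w' : G) ∈ S → π w = π w' → w = w' := by
    intro w w' hw hw' e
    have hz : w⁻¹ * w' ∈ Subgroup.center (lay D v) := by
      rw [← C.layMap_eq_one, map_mul, map_inv, ← hπ, e, inv_mul_cancel]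
    have hm : (w : G)⁻¹ * w' ∈ S := mul_mem (inv_mem hw) hw'
    obtain ⟨-, hmP, hm2⟩ := (hiff _).1 hm
    obtain ⟨e', he', he'1, -, he'c⟩ := C.exists_mem C.bad.right 1
    have hmR : ((w : G)⁻¹ * w') • R = R := fix_of_commute he' he'1
      (congrArg Subtype.val (Subgroup.mem_center_iff.1 hz ⟨e', mem_lay (mem_D he' he'1) he'c⟩)).symm
    exact Subtype.ext (inv_mul_eq_one.1
      (eq_one_of_centralizes_two C.noEven C.bad.ne hmP hmR hm2))
  have hSQ : ∀ w : lay D v, (w : G) ∈ S → π w ∈ Q := fun w hw => by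
    obtain ⟨_, ⟨w', -, rfl⟩, e⟩ := hw
    rw [show w = (w' : lay D v) from Subtype.ext e.symm]
    exact w'.2.1
  have hsurjS : ∀ x ∈ Q, ∃ w : lay D v, (w : G) ∈ S ∧ π w = x := by
    intro x hx
    obtain ⟨i, hi⟩ := hQ2 ⟨x, hx⟩
    have hi' : x ^ 2 ^ i = 1 := by simpa using congrArg Subtype.val hi
    obtain ⟨w, hwT, hwe⟩ := hTsurj x hx
    obtain ⟨c, hc, j, hj⟩ := exists_two_part w
    obtain ⟨s, hs⟩ := exists_pow_eq_self_of_coprime (x := x) (n := c)
      (((Nat.coprime_two_left.2 hc).symm.pow_right i).coprime_dvd_right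
        (orderOf_dvd_of_pow_eq_one hi'))
    refine ⟨(w ^ c) ^ s, (hiff _).2 ⟨((w ^ c) ^ s).2, ?_, j, ?_⟩,
      by rw [map_pow, map_pow, hwe, hs]⟩
    · simp only [SubmonoidClass.coe_pow]
      exact pow_mem (pow_mem hwT.2 c) s
    · simp only [SubmonoidClass.coe_pow]
      have h1 : ((w : G) ^ c) ^ 2 ^ j = 1 := by simpa using congrArg Subtype.val hj
      rw [← pow_mul, mul_comm, pow_mul, h1, one_pow]
  have hPS : ∀ x, x ∈ P → Commute x v → x ∈ S := fun x hx hxv => by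
    by_cases hx1 : x = 1
    · rw [hx1]; exact one_mem S
    · exact (hiff x).2 ⟨mem_lay (mem_D hx hx1) hxv,
        Subgroup.mem_centralizer_iff.2 fun p hp => (commute_mem hx hp).eq.symm,
        1, by rw [pow_one, pow_two, sq_mem hx]⟩
  have hsq : ∀ w : lay D v, (w : G) ∈ S → π w ∈ BenderSuzuki.Coords.zSub hctx → (w : G) ∈ P := by
    intro w hw hz
    obtain ⟨w', hw', e⟩ := hzrep _ hz
    rw [hinjS w w' hw (hPS _ hw' (commute_of_mem_lay w'.2)) e.symm]
    exact hw'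
  refine ⟨S, ⟨hiff, hSp, ?_, ?_, ?_, hPS, ?_⟩⟩
  · rw [← hq, ← hQcard]
    refine Nat.card_congr (Equiv.ofBijective
      (fun x : S => (⟨π ⟨x, ((hiff _).1 x.2).1⟩, hSQ _ x.2⟩ : Q)) ⟨?_, ?_⟩)
    · intro x y e
      exact Subtype.ext (congrArg (fun z : lay D v => (z : G))
        (hinjS ⟨x, ((hiff _).1 x.2).1⟩ ⟨y, ((hiff _).1 y.2).1⟩ x.2 y.2 (congrArg Subtype.val e)))
    · rintro ⟨x, hx⟩
      obtain ⟨w, hw, e⟩ := hsurjS x hx
      exact ⟨⟨w, hw⟩, Subtype.ext e⟩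
  · intro x hx
    have hxL := ((hiff _).1 hx).1
    exact hsq (⟨x, hxL⟩ * ⟨x, hxL⟩) (mul_mem hx hx)
      (by rw [map_mul]; exact BenderSuzuki.Coords.q_sq hctx (hSQ _ hx))
  · intro x hx hx2
    have hxL := ((hiff _).1 hx).1
    refine hsq ⟨x, hxL⟩ hx ⟨RankOne.Basic.Q_fix hS (hSQ _ hx), ?_⟩
    rw [← map_mul, show (⟨x, hxL⟩ : lay D v) * ⟨x, hxL⟩ = 1 from Subtype.ext hx2, map_one]
  · intro γ δ hγ hδ hγP hδP
    obtain ⟨x, hx⟩ := exists_smul Pb (C.bar γ hγ)
    obtain ⟨y, hy⟩ := exists_smul Pb (C.bar δ hδ)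
    have hne : ∀ (z : (LayQuot D v)) (η : h.Pt) (hη : v • η = η), z • Pb = C.bar η hη → η ≠ P → z • a ≠ a :=
      fun z η hη e hηP e' => hηP (C.bar_inj (e.symm.trans ((hmemH z).1 e')))
    obtain ⟨q, hqQ, hqe⟩ := RankOne.Basic.Q_trans hS (hne x γ hγ hx hγP) (hne y δ hδ hy hδP)
    rw [← mul_smul, ← hsmul, mul_smul, hx, hy] at hqe
    obtain ⟨w, hw, hwe⟩ := hsurjS q hqQ
    rw [← hwe, C.bar_smul w hγ] at hqe
    exact ⟨w, hw, C.bar_inj hqe⟩

end LCtx

end Cfsg.Agent.Lib.OddTransp84.Core.Conf
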