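import Cfsg.Agent.Lib.OddTransp84.Core.Main
import Cfsg.Agent.Lib.Schur.MultiplierSL
import Cfsg.Agent.Lib.Multiplier.Sylow
import Cfsg.Agent.Lib.Cores.Basic
import Cfsg.Agent.Lib.LieTwisted.SuzukiBruhat
import Cfsg.Agent.S2111

/-!
# Configurations generated by two points without normal 2-subgroup: linear and Suzuki groups
-/

set_option autoImplicit false

namespace Cfsg.Agent.Lib.OddTransp84.Core

universe u

variable {G : Type u} [Group G] [Finite G]

/-- A stem extension with odd kernel whose image has small odd Sylow subgroups is injective. -/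
lemma injective_of_small {H : Type} [Group H] [Finite H] {σ : G →* H}
    (hσ : Cfsg.IsStemExtension σ) (hodd : Odd (Nat.card σ.ker))
    (hsmall : ∀ r : ℕ, r.Prime → r ^ 2 ∣ Nat.card H → r = 2) : Function.Injective σ := by
  rw [← MonoidHom.ker_eq_bot_iff]
  by_contra hne
  have h1 : Nat.card σ.ker ≠ 1 := fun e => hne (Subgroup.card_eq_one.1 e)
  obtain ⟨r, hr, hdvd⟩ := Nat.exists_prime_and_dvd h1
  have : Fact r.Prime := ⟨hr⟩
  refine Multiplier.not_dvd_card_ker_of_cyclic σ hσ (fun S => ?_) hdvd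
  have hcard := S.card_eq_multiplicity
  have hk : (Nat.card H).factorization r ≤ 1 := by
    by_contra hk
    push Not at hk
    have h2 := hsmall r hr ((pow_dvd_pow r hk).trans (Nat.ordProj_dvd _ r))
    exact Nat.not_even_iff_odd.2 (hodd.of_dvd_nat hdvd) (h2 ▸ even_two)
  rcases Nat.le_one_iff_eq_zero_or_eq_one.1 hk with e | e <;> rw [e] at hcard
  · have : Subsingleton S := (Nat.card_eq_one_iff_unique.1 (by simpa using hcard)).1
    infer_instance
  · exact isCyclic_of_prime_card (p := r) (by simpa using hcard)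

namespace Conf

variable {D : Set G} {h : Conf D}

theorem linearOrSuzuki (hI : BenderOne.PropSplit.{u}) (hgen : Subgroup.closure D = ⊤)
    (hcore : Cfsg.pCore 2 G = ⊥) {P R : h.Pt} (hne : P ≠ R) (hline : line P R = ⊤) :
    (∃ (F : Type) (_ : Field F) (_ : Fintype F), CharP F 2 ∧ 4 ≤ Fintype.card F ∧
      Nat.card P.1 = Fintype.card F ∧
      Nonempty (G ≃* Matrix.ProjectiveSpecialLinearGroup (Fin 2) F)) ∨
    Cfsg.Lie.IsoSuzuki G := by
  have htwo : ∀ X : h.Pt, ∃ Y : h.Pt, X ≠ Y := fun X => by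
    by_cases e : X = P
    · exact ⟨R, e ▸ hne⟩
    · exact ⟨P, e⟩
  have hperf : commutator G = ⊤ := by
    rw [← Abelianization.ker_of, eq_top_iff]
    exact fun g _ => hom_eq_one (h := h) hgen htwo Abelianization.of g
  have hDZ : ∀ d ∈ D, d ∉ Subgroup.center G := fun d hd hz => by
    have key : ∀ X : h.Pt, d ∈ X := fun X => by
      obtain ⟨a, ha, ha1⟩ := exists_ne_one X
      exact (mem_iff_commute ha ha1 hd).2 (Subgroup.mem_center_iff.1 hz a).symm
    exact hne (eq_of_mem (key P) (key R) (h.ne d hd))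
  set π : G →* G ⧸ Subgroup.center G := QuotientGroup.mk' _ with hπdef
  have hker : π.ker = Subgroup.center G := QuotientGroup.ker_mk' _
  have hsurj : Function.Surjective π := QuotientGroup.mk'_surjective _
  set hQ := h.quot hsurj hker.le hDZ with hQdef
  have hinj := qpt_injective (h := h) (hQ := hQ) hker.le
  have hgenQ : line (qpt hQ P) (qpt hQ R) = ⊤ := by
    rw [eq_top_iff, ← Subgroup.map_top_of_surjective π hsurj, ← hline, Subgroup.map_le_iff_le_comap]
    exact sup_le (fun a ha => left_le_line (mem_qpt ha)) (fun a ha => right_le_line (mem_qpt ha))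
  have hneQ : qpt hQ P ≠ qpt hQ R := fun e => hne (hinj e)
  have hT : TwoGen hQ := by
    refine ⟨⟨?_, center_quotient_eq_bot (h := h) hgen htwo, fun X => ?_⟩, _, _, hneQ, hgenQ⟩
    · rw [← MonoidHom.map_closure, hgen]
      exact Subgroup.map_top_of_surjective _ hsurj
    · by_cases e : X = qpt hQ P
      · exact ⟨_, e ▸ hneQ⟩
      · exact ⟨_, e⟩
  obtain ⟨a, ha, ha1⟩ := exists_ne_one (qpt hQ P)
  obtain ⟨b, hb, hb1⟩ := exists_ne_one (qpt hQ R)
  obtain ⟨f, hf, -, -⟩ := swp_surj hneQ ha ha1 hb hb1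
  obtain ⟨Q, -, -, -, hq, hcase⟩ := twoGen_types hI hT (twoGen_onePoint hI hT) hneQ hgenQ hf
  have hcardP : Nat.card (qpt hQ P).1 = Nat.card P.1 := by
    refine (Nat.card_eq_of_bijective (fun y : P.1 => (⟨π y, mem_qpt y.2⟩ : (qpt hQ P).1))
      ⟨?_, ?_⟩).symm
    · rintro ⟨y, hy⟩ ⟨z, hz⟩ e
      have e' : π y = π z := congrArg Subtype.val e
      have hm : y * z ∈ π.ker := by
        rw [MonoidHom.mem_ker, map_mul, ← e', ← map_mul, sq_mem hy, map_one]
      by_contra hne'
      have hyz : y * z ≠ 1 := fun e'' =>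
        hne' (Subtype.ext ((eq_inv_of_mul_eq_one_left e'').trans (inv_mem_eq hz)))
      exact hDZ _ (mem_D (mul_mem_pt hy hz) hyz) (hker ▸ hm)
    · rintro ⟨y, hy⟩
      obtain ⟨z, hz, e⟩ := exists_of_mem_qpt hker.le hy
      exact ⟨⟨z, hz⟩, Subtype.ext e⟩
  rw [hcardP] at hq
  have hodd : Odd (Nat.card π.ker) := by
    rw [hker]
    by_contra hne2
    have h2 : 2 ∣ Nat.card (Subgroup.center G) := even_iff_two_dvd.1 (Nat.not_odd_iff_even.1 hne2)
    have : Fact (Nat.Prime 2) := ⟨Nat.prime_two⟩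
    obtain ⟨z, hz⟩ := exists_prime_orderOf_dvd_card' 2 h2
    have hz' : orderOf (z : G) = 2 := by rwa [Subgroup.orderOf_coe]
    have : (Subgroup.zpowers (z : G)).Normal := ⟨fun n hn g => by
      have hnz : n ∈ Subgroup.center G := Subgroup.zpowers_le.2 z.2 hn
      rwa [Subgroup.mem_center_iff.1 hnz g, mul_inv_cancel_right]⟩
    have hp : IsPGroup 2 (Subgroup.zpowers (z : G)) :=
      IsPGroup.of_card (n := 1) (by rw [Nat.card_zpowers, hz', pow_one])
    have h3 := Cores.le_pCore hp (Subgroup.mem_zpowers (z : G))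
    rw [hcore, Subgroup.mem_bot] at h3
    rw [h3, orderOf_one] at hz'
    exact absurd hz' (by norm_num)
  have hstem : ∀ {M : Type} [Group M] (e : (⊤ : Subgroup (G ⧸ Subgroup.center G)) ≃* M),
      Cfsg.IsStemExtension ((Subgroup.topEquiv.symm.trans e).toMonoidHom.comp π) ∧
      Odd (Nat.card ((Subgroup.topEquiv.symm.trans e).toMonoidHom.comp π).ker) := by
    intro M _ e
    have hk : ((Subgroup.topEquiv.symm.trans e).toMonoidHom.comp π).ker = π.ker := by
      ext x
      simp [MonoidHom.mem_ker]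
    refine ⟨⟨(Subgroup.topEquiv.symm.trans e).surjective.comp hsurj, ?_, ?_⟩, by rw [hk]; exact hodd⟩
    · rw [hk, hker]
    · rw [hperf]; exact le_top
  rcases hcase with ⟨-, -, F, iF, iT, hF, ⟨n, hn, hqn⟩, ⟨e⟩⟩ | ⟨-, -, F, iF, iT, m, hm, hF, ⟨e⟩⟩
  · left
    obtain ⟨hst, hod⟩ := hstem e
    have hq4 : 4 ≤ Fintype.card F := by
      rw [hF, hqn]
      exact le_trans (by norm_num : 4 ≤ 2 ^ 2) (Nat.pow_le_pow_right (by norm_num) hn)
    have hcF : Fintype.card F = 2 ^ n := hF.trans hqn
    have : Fact (Nat.Prime 2) := ⟨Nat.prime_two⟩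
    have hch : CharP F 2 := charP_of_card_eq_prime_pow hcF
    have hev : Even (Fintype.card F) := hcF ▸ (Nat.even_pow.2 ⟨even_two, by omega⟩)
    refine ⟨F, iF, iT, hch, hq4, by rw [hF, hq], ⟨MulEquiv.ofBijective _ ⟨?_, hst.1⟩⟩⟩
    by_cases h4 : Fintype.card F = 4
    · refine injective_of_small hst hod fun r hr hdvd => ?_
      rw [Linear.card_PSL_two_of_even hev, h4] at hdvd
      have hle : r ^ 2 ≤ 60 := Nat.le_of_dvd (by norm_num) hdvd
      have h8 : r < 8 := by nlinarith
      interval_cases r <;> first | rfl | (revert hr; norm_num; done) | (revert hdvd; norm_num; done)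
    · refine Multiplier.injective_of_trivial ?_ _ hst
      have hc := Schur.MultiplierSL.psl_cyclic (F := F) (n := 2) le_rfl
        (fun _ => by rw [Nat.card_eq_fintype_card]; exact hq4) (by
          rw [Nat.card_eq_fintype_card]
          have h9 : Fintype.card F ≠ 9 := fun e9 => by rw [e9] at hev; exact absurd hev (by decide)
          simp only [Set.mem_insert_iff, Set.mem_singleton_iff, Prod.mk.injEq]
          omega)
      have hg : Nat.gcd 2 (Nat.card F - 1) = 1 := by
        rw [Nat.card_eq_fintype_card]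
        obtain ⟨k, hk⟩ := hev
        exact (Nat.coprime_two_left.2 ⟨k - 1, by omega⟩)
      rwa [hg] at hc
  · right
    obtain ⟨hst, hod⟩ := hstem e
    refine ⟨F, iF, iT, m, hm, hF, ⟨MulEquiv.ofBijective _ ⟨?_, hst.1⟩⟩⟩
    rcases Nat.lt_or_ge m 2 with hm2 | hm2
    · have hm1 : m = 1 := by omega
      subst hm1
      have hs : LieTwisted.Suzuki.IsSzField F 1 := ⟨hF⟩
      refine injective_of_small hst hod fun r hr hdvd => ?_
      rw [← Nat.card_congr (LieTwisted.Suzuki.szEquiv hs le_rfl).toEquiv, hs.card_group le_rfl, hF]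
        at hdvd
      norm_num at hdvd
      have h1 : r ∣ 2 ^ 6 * (5 * (7 * 13)) := (dvd_pow_self r two_ne_zero).trans (by norm_num; exact hdvd)
      rcases hr.dvd_mul.1 h1 with h2 | h2
      · exact (Nat.prime_dvd_prime_iff_eq hr Nat.prime_two).1 (hr.dvd_of_dvd_pow h2)
      exfalso
      rcases hr.dvd_mul.1 h2 with h3 | h3
      · rw [(Nat.prime_dvd_prime_iff_eq hr (by norm_num)).1 h3] at hdvd
        norm_num at hdvd
      rcases hr.dvd_mul.1 h3 with h4 | h4
      · rw [(Nat.prime_dvd_prime_iff_eq hr (by norm_num)).1 h4] at hdvd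
        norm_num at hdvd
      · rw [(Nat.prime_dvd_prime_iff_eq hr (by norm_num)).1 h4] at hdvd
        norm_num at hdvd
    · exact Multiplier.injective_of_trivial (Cfsg.Agent.S2111.result hm2 hF) _ hst

end Conf

end Cfsg.Agent.Lib.OddTransp84.Core
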