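import Cfsg.Agent.Lib.OddTransp84.Core.TwoFixed

/-!
# Sylow subgroups of a subgroup normalised by an involution, and a prime divisor of `2 ^ m - 1`
-/

set_option autoImplicit false

namespace Cfsg.Agent.Lib.OddTransp84.Core

open scoped Pointwise

variable {G : Type*} [Group G] [Finite G]

/-- A subgroup of odd order normalised by an involution has a Sylow subgroup normalised by it. -/
theorem exists_invariant_sylow {r : ℕ} [Fact r.Prime] {M : Subgroup G} (hM : Odd (Nat.card M))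
    {f : G} (hf : f * f = 1) (hn : ∀ x ∈ M, f * x * f⁻¹ ∈ M) :
    ∃ S : Subgroup G, S ≤ M ∧ IsPGroup r S ∧ (∀ x ∈ S, f * x * f⁻¹ ∈ S) ∧
      (¬ r ∣ (S.subgroupOf M).index) ∧
      ∀ K : Subgroup G, K ≤ M → IsPGroup r K → ∃ m ∈ M, ∀ x ∈ K, m * x * m⁻¹ ∈ S := by
  classical
  have hfi : f⁻¹ = f := inv_eq_of_mul_eq_one_right hf
  have hinv : ∀ x : M, f * (f * x * f⁻¹) * f⁻¹ = (x : G) := fun x => by
    rw [hfi, show f * (f * (x : G) * f) * f = (f * f) * x * (f * f) by group, hf, one_mul, mul_one]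
  let φ : MulAut M :=
    { toFun := fun x => ⟨f * x * f⁻¹, hn x x.2⟩
      invFun := fun x => ⟨f * x * f⁻¹, hn x x.2⟩
      left_inv := fun x => Subtype.ext (hinv x)
      right_inv := fun x => Subtype.ext (hinv x)
      map_mul' := fun x y => Subtype.ext (by
        show f * ((x : G) * y) * f⁻¹ = f * x * f⁻¹ * (f * y * f⁻¹)
        group) }
  have hφ : φ * φ = 1 := MulEquiv.ext fun x => Subtype.ext (hinv x)
  obtain ⟨S₀⟩ := (inferInstance : Nonempty (Sylow r M))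
  have hodd : Odd (Set.univ : Set (Sylow r M)).ncard := by
    rw [Set.ncard_univ]
    exact hM.of_dvd_nat ((S₀.card_dvd_index).trans (Subgroup.index_dvd_card _))
  obtain ⟨S, -, hS⟩ := exists_fixed_of_odd hodd (σ := fun T : Sylow r M => φ • T)
    (fun _ _ => Set.mem_univ _) (fun T _ => by rw [smul_smul, hφ, one_smul])
  refine ⟨(S : Subgroup M).map M.subtype, Subgroup.map_subtype_le _, S.2.map _, ?_, ?_, ?_⟩
  · rintro _ ⟨y, hy, rfl⟩
    refine ⟨φ y, ?_, rfl⟩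
    have h1 : φ • y ∈ φ • (S : Subgroup M) := Subgroup.smul_mem_pointwise_smul y φ _ hy
    rw [← Sylow.pointwise_smul_def, hS] at h1
    exact h1
  · rw [Subgroup.subgroupOf, Subgroup.comap_map_eq_self_of_injective M.subtype_injective]
    exact S.not_dvd_index
  · intro K hK hKp
    obtain ⟨T, hT⟩ := (hKp.comap_of_injective M.subtype M.subtype_injective :
      IsPGroup r (K.subgroupOf M)).exists_le_sylow
    obtain ⟨m, rfl⟩ := MulAction.exists_smul_eq M S T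
    refine ⟨(m : G)⁻¹, M.inv_mem m.2, fun x hx => ?_⟩
    have h1 := hT (show (⟨x, hK hx⟩ : M) ∈ K.subgroupOf M from hx)
    have h2 : (MulAut.conj m)⁻¹ • (⟨x, hK hx⟩ : M) ∈ (S : Subgroup M) :=
      Subgroup.mem_pointwise_smul_iff_inv_smul_mem.1 h1
    refine ⟨_, h2, ?_⟩
    show ((MulAut.conj m)⁻¹ ⟨x, hK hx⟩ : M) = ((m : G)⁻¹ * x * (m : G)⁻¹⁻¹)
    rw [← map_inv]
    simp [MulAut.conj_apply]

/-- A prime divisor of `2 ^ m - 1` that does not divide `m`. -/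
theorem exists_prime_dvd_two_pow_sub_one {m : ℕ} (hm : 2 ≤ m) :
    ∃ r : ℕ, r.Prime ∧ r ≠ 2 ∧ r ∣ 2 ^ m - 1 ∧ ¬ r ∣ m := by
  obtain ⟨p, hp, hpmax⟩ := (Nat.primeFactors m).exists_max_image id
    ⟨m.minFac, Nat.mem_primeFactors.2
      ⟨Nat.minFac_prime (by omega), Nat.minFac_dvd m, by omega⟩⟩
  obtain ⟨hp, hpm, hm0⟩ := Nat.mem_primeFactors.1 hp
  have h4 : 4 ≤ 2 ^ p := by
    calc 4 = 2 ^ 2 := rfl
      _ ≤ 2 ^ p := Nat.pow_le_pow_right two_pos hp.two_le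
  set r := (2 ^ p - 1).minFac with hr
  have hrp : r.Prime := Nat.minFac_prime (by omega)
  have hrd : r ∣ 2 ^ p - 1 := Nat.minFac_dvd _
  have hr2 : r ≠ 2 := fun e => by
    have h1 : Even (2 ^ p - 1) := even_iff_two_dvd.2 (e ▸ hrd)
    exact Nat.not_even_iff_odd.2 (Nat.Even.sub_odd Nat.one_le_two_pow
      (even_two.pow_of_ne_zero hp.ne_zero) odd_one) h1
  refine ⟨r, hrp, hr2, hrd.trans (Nat.pow_sub_one_dvd_pow_sub_one 2 hpm), fun hrm => ?_⟩
  have hle : r ≤ p := hpmax r (Nat.mem_primeFactors.2 ⟨hrp, hrm, hm0⟩)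
  have : Fact r.Prime := ⟨hrp⟩
  have h2 : ((2 : ℕ) : ZMod r) ^ p = 1 := by
    have h3 : ((2 ^ p - 1 : ℕ) : ZMod r) = 0 := (ZMod.natCast_eq_zero_iff _ _ |>.2 hrd)
    rwa [Nat.cast_sub Nat.one_le_two_pow, Nat.cast_pow, Nat.cast_one, sub_eq_zero] at h3
  have h20 : ((2 : ℕ) : ZMod r) ≠ 0 := fun e =>
    hr2 ((Nat.prime_dvd_prime_iff_eq hrp Nat.prime_two).1 ((ZMod.natCast_eq_zero_iff _ _).1 e))
  have h21 : ((2 : ℕ) : ZMod r) ≠ 1 := fun e => by
    have e2 := (ZMod.natCast_eq_natCast_iff' 2 1 r).1 (by simpa using e)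
    have hr3 := hrp.two_le
    rw [Nat.mod_eq_of_lt (show 1 < r by omega), Nat.mod_eq_of_lt (show 2 < r by omega)] at e2
    omega
  have hord : orderOf ((2 : ℕ) : ZMod r) = p := by
    have : Fact p.Prime := ⟨hp⟩
    exact orderOf_eq_prime h2 h21
  have hdvd : p ∣ r - 1 := hord ▸ ZMod.orderOf_dvd_card_sub_one h20
  have hr2le := hrp.two_le
  have := Nat.le_of_dvd (by omega) hdvd
  omega

end Cfsg.Agent.Lib.OddTransp84.Core
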