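import Cfsg.Agent.Lib.OddTransp84.Core.Fix

/-!
# Configurations: fixed points of a fixed point free element of prime power order

If the lines among the fixed points have `LineFacts`, there are `2` of them modulo the prime.
-/

set_option autoImplicit false

namespace Cfsg.Agent.Lib.OddTransp84.Core

/-- An involutory map of a set of odd size fixes one of its elements. -/
theorem exists_fixed_of_odd {α : Type*} [Finite α] {s : Set α} (hs : Odd s.ncard) {σ : α → α}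
    (hmaps : ∀ x ∈ s, σ x ∈ s) (hinv : ∀ x ∈ s, σ (σ x) = x) : ∃ x ∈ s, σ x = x := by
  classical
  have : Fintype s := Fintype.ofFinite _
  have : Fact (Nat.Prime 2) := ⟨Nat.prime_two⟩
  let τ : Equiv.Perm s := Function.Involutive.toPerm (fun x => ⟨σ x, hmaps x x.2⟩)
    fun x => Subtype.ext (hinv x x.2)
  have h2 : τ ^ 2 ^ 1 = 1 := Equiv.ext fun x => by
    rw [pow_one, pow_two, Equiv.Perm.mul_apply, Equiv.Perm.one_apply]
    exact Subtype.ext (hinv x x.2)
  have hnd : ¬ 2 ∣ Fintype.card s := by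
    rw [← Nat.card_eq_fintype_card, Nat.card_coe_set_eq, ← even_iff_two_dvd]
    exact Nat.not_even_iff_odd.2 hs
  obtain ⟨x, hx⟩ := Equiv.Perm.exists_fixed_point_of_prime (p := 2) (n := 1) hnd h2
  exact ⟨x, x.2, congrArg Subtype.val hx⟩

/-- An element of prime power order fixes the size of an invariant set modulo the prime. -/
theorem ncard_modEq_fixed {G α : Type*} [Group G] [Finite G] [MulAction G α] [Finite α] {r : ℕ}
    (hr : r.Prime) {c : G} (hc : ∃ i, c ^ r ^ i = 1) {W : Set α} (hW : ∀ x ∈ W, c • x ∈ W) :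
    W.ncard ≡ {x | x ∈ W ∧ c • x = x}.ncard [MOD r] := by
  have : Fact r.Prime := ⟨hr⟩
  obtain ⟨i, hi⟩ := hc
  have hpow : ∀ g ∈ Subgroup.zpowers c, ∀ x ∈ W, g • x ∈ W := by
    intro g hg
    obtain ⟨j, rfl⟩ := (mem_powers_iff_mem_zpowers).2 hg
    show ∀ x ∈ W, c ^ j • x ∈ W
    induction j with
    | zero => intro x hx; simpa using hx
    | succ j ih =>
      intro x hx
      rw [pow_succ', mul_smul]
      exact hW _ (ih (Subgroup.npow_mem_zpowers _ _) x hx)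
  let X : SubMulAction (Subgroup.zpowers c) α :=
    { carrier := W, smul_mem' := fun g {x} hx => hpow g g.2 x hx }
  have hp : IsPGroup r (Subgroup.zpowers c) := fun g => by
    obtain ⟨j, hj⟩ := Subgroup.mem_zpowers_iff.1 g.2
    refine ⟨i, Subtype.ext ?_⟩
    rw [SubmonoidClass.coe_pow, ← hj, OneMemClass.coe_one, ← zpow_natCast, zpow_comm, zpow_natCast,
      hi, one_zpow]
  have h1 := hp.card_modEq_card_fixedPoints X
  rw [show Nat.card X = W.ncard from Nat.card_coe_set_eq W] at h1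
  refine h1.trans (congrArg (· % r) ?_)
  rw [← Nat.card_coe_set_eq]
  refine Nat.card_congr
    { toFun := fun x => ⟨x.1.1, x.1.2,
        congrArg Subtype.val (x.2 ⟨c, Subgroup.mem_zpowers c⟩)⟩
      invFun := fun x => ⟨⟨x.1, x.2.1⟩, fun g => Subtype.ext ?_⟩
      left_inv := fun _ => rfl
      right_inv := fun _ => rfl }
  obtain ⟨j, hj⟩ := Subgroup.mem_zpowers_iff.1 g.2
  show (g : G) • x.1 = x.1
  rw [← hj]
  exact MulAction.mem_stabilizer_iff.1 (zpow_mem (show c ∈ MulAction.stabilizer G x.1 from x.2.2) j)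

namespace Conf

universe u

variable {G : Type u} [Group G] {D : Set G} {h : Conf D}

/-- The points fixed by `k` and centralised by `C`. -/
def fixW (C : Set G) (k : G) : Set h.Pt :=
  {γ | k • γ = γ ∧ ∀ c ∈ C, c ∈ Subgroup.centralizer (γ.1 : Set G)}

/-- The elements centralising every point of a set. -/
def ptsCent (W : Set h.Pt) : Subgroup G :=
  ⨅ γ ∈ W, Subgroup.centralizer (γ.1 : Set G)

lemma mem_ptsCent {W : Set h.Pt} {g : G} :
    g ∈ ptsCent W ↔ ∀ γ ∈ W, g ∈ Subgroup.centralizer (γ.1 : Set G) := by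
  simp [ptsCent, Subgroup.mem_iInf]

/-- The setwise stabiliser of a set of points. -/
def setStab (W : Set h.Pt) : Subgroup G where
  carrier := {g | ∀ γ, g • γ ∈ W ↔ γ ∈ W}
  one_mem' := fun γ => by rw [one_smul]
  mul_mem' := fun ha hb γ => by rw [mul_smul]; exact (ha _).trans (hb γ)
  inv_mem' := fun {a} ha γ => by rw [← ha, smul_inv_smul]

lemma commute_conj_smul {γ : h.Pt} {g c : G} (hgc : Commute g c)
    (hc : c ∈ Subgroup.centralizer (γ.1 : Set G)) :
    c ∈ Subgroup.centralizer ((g • γ).1 : Set G) := by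
  refine Subgroup.mem_centralizer_iff.2 fun a ha => ?_
  have h1 := Subgroup.mem_centralizer_iff.1 hc _ (mem_smul.1 ha)
  calc a * c = g * (g⁻¹ * a * g * c) * g⁻¹ := by
        rw [mul_assoc _ g c, hgc.eq]; group
    _ = g * (c * (g⁻¹ * a * g)) * g⁻¹ := by rw [h1]
    _ = c * a := by rw [← mul_assoc g c, hgc.eq]; group

variable [Finite G]

omit [Finite G] in
lemma ptsCent_le_setStab (W : Set h.Pt) : ptsCent W ≤ setStab W := by
  intro g hg γ
  constructor
  · intro hγ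
    have h1 := fix_of_centralizer (mem_ptsCent.1 hg _ hγ)
    rw [smul_left_cancel_iff] at h1
    rwa [h1] at hγ
  · intro hγ
    rwa [fix_of_centralizer (mem_ptsCent.1 hg _ hγ)]

/-- If every swapper inside `W` inverts `k` modulo the centraliser of `W`, then `|W| = 2`. -/
theorem ncard_eq_two {W : Set h.Pt} {k : G} (hkfix : ∀ γ ∈ W, k • γ = γ) (hko : Odd (orderOf k))
    (hfpf : ∀ γ ∈ W, Fpf γ k)
    (hswp : ∀ P ∈ W, ∀ R ∈ W, P ≠ R → ∀ f ∈ swp P R,
      (∀ γ ∈ W, f • γ ∈ W) ∧ f * k * f * k ∈ ptsCent W)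
    (hcard : 2 ≤ W.ncard) : W.ncard = 2 := by
  classical
  obtain ⟨P₀, hP₀, R₀, hR₀, hPR₀⟩ := (Set.one_lt_ncard (Set.toFinite W)).1 (by omega)
  set Z : Subgroup (setStab W) := (ptsCent W).subgroupOf (setStab W) with hZ
  have : Z.Normal := ⟨fun x hx g => by
    rw [hZ, Subgroup.mem_subgroupOf, mem_ptsCent] at hx ⊢
    intro γ hγ
    refine Subgroup.mem_centralizer_iff.2 fun a ha => ?_
    have hg : (g : G)⁻¹ • γ ∈ W := (Subgroup.inv_mem _ g.2 γ).2 hγ
    have ha' : (g : G)⁻¹ * a * g ∈ (g : G)⁻¹ • γ := by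
      rw [mem_smul, show (g : G)⁻¹⁻¹ * ((g : G)⁻¹ * a * g) * (g : G)⁻¹ = a by group]; exact ha
    have h1 := Subgroup.mem_centralizer_iff.1 (hx _ hg) _ ha'
    calc a * ((g : G) * x * (g : G)⁻¹) = g * ((g : G)⁻¹ * a * g * x) * (g : G)⁻¹ := by group
      _ = g * (x * ((g : G)⁻¹ * a * g)) * (g : G)⁻¹ := by rw [h1]
      _ = _ := by simp [mul_assoc]⟩
  set π := QuotientGroup.mk' Z with hπ
  have hπ1 : ∀ x : setStab W, π x = 1 ↔ (x : G) ∈ ptsCent W := fun x => by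
    rw [hπ, QuotientGroup.mk'_apply, QuotientGroup.eq_one_iff, hZ, Subgroup.mem_subgroupOf]
  have hkS : k ∈ setStab W := fun γ => by
    constructor
    · intro hγ
      have h1 := hkfix _ hγ
      rw [smul_left_cancel_iff] at h1
      rwa [h1] at hγ
    · intro hγ; rwa [hkfix γ hγ]
  set κ := π ⟨k, hkS⟩ with hκ
  have hκo : κ ≠ κ⁻¹ := by
    intro e
    have h1 : π (⟨k, hkS⟩ * ⟨k, hkS⟩) = 1 := by
      rw [map_mul, ← hκ]; nth_rw 2 [e]; rw [mul_inv_cancel]
    have h2 : k ∈ ptsCent W := by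
      rw [← sqrtOdd_sq hko, sqrtOdd]
      exact pow_mem ((hπ1 _).1 h1) _
    obtain ⟨a, ha, ha1⟩ := exists_ne_one P₀
    exact hfpf P₀ hP₀ a ha ha1
      (Subgroup.mem_centralizer_iff.1 (mem_ptsCent.1 h2 P₀ hP₀) a ha).symm
  let T : Subgroup (setStab W ⧸ Z) :=
    { carrier := {x | x * κ * x⁻¹ = κ ∨ x * κ * x⁻¹ = κ⁻¹}
      one_mem' := Or.inl (by simp)
      mul_mem' := fun {a b} ha hb => by
        have e : a * b * κ * (a * b)⁻¹ = a * (b * κ * b⁻¹) * a⁻¹ := by group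
        rcases hb with hb | hb
        · rw [Set.mem_ofPred_eq, e, hb]; exact ha
        · have e2 : a * κ⁻¹ * a⁻¹ = (a * κ * a⁻¹)⁻¹ := by group
          rcases ha with ha | ha
          · right; rw [e, hb, e2, ha]
          · left; rw [e, hb, e2, ha, inv_inv]
      inv_mem' := fun {a} ha => by
        rcases ha with ha | ha
        · left
          conv_lhs => rw [← ha]
          group
        · right
          have h1 : a⁻¹ * κ⁻¹ * a⁻¹⁻¹ = κ := by
            rw [← ha]; group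
          conv_rhs => rw [← h1]
          group }
  set N : Subgroup G := (T.comap π).map (setStab W).subtype with hN
  have hmemN : ∀ {g : G}, g ∈ N → ∃ hg : g ∈ setStab W, π ⟨g, hg⟩ ∈ T := fun {g} hg => by
    obtain ⟨y, hy, rfl⟩ := hg; exact ⟨y.2, hy⟩
  have hsw : ∀ P ∈ W, ∀ R ∈ W, P ≠ R → ∀ f ∈ swp P R, ∃ hfS : f ∈ setStab W,
      π ⟨f, hfS⟩ * κ * (π ⟨f, hfS⟩)⁻¹ = κ⁻¹ := by
    intro P hP R hR hne f hf
    obtain ⟨hW, hk⟩ := hswp P hP R hR hne f hf
    have hfS : f ∈ setStab W := fun γ => ⟨fun hγ => by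
      have h1 := hW _ hγ
      rwa [← mul_smul, h.sq f hf.1, one_smul] at h1, hW γ⟩
    refine ⟨hfS, eq_inv_of_mul_eq_one_left ?_⟩
    rw [hκ, ← map_inv, ← map_mul, ← map_mul, ← map_mul, hπ1]
    show f * k * f⁻¹ * k ∈ ptsCent W
    rwa [h.inv_eq hf.1]
  have hswN : ∀ P ∈ W, ∀ R ∈ W, P ≠ R → ∀ f ∈ swp P R, f ∈ N := fun P hP R hR hne f hf => by
    obtain ⟨hfS, e⟩ := hsw P hP R hR hne f hf
    exact ⟨⟨f, hfS⟩, Or.inr e, rfl⟩
  have hpair : ∀ f f' : G, f ∈ D → f' ∈ D → ∀ (hfS : f ∈ setStab W) (hfS' : f' ∈ setStab W),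
      π ⟨f, hfS⟩ * κ * (π ⟨f, hfS⟩)⁻¹ = κ⁻¹ → π ⟨f', hfS'⟩ * κ * (π ⟨f', hfS'⟩)⁻¹ = κ⁻¹ →
      Commute f f' → f = f' := by
    intro f f' hfD hfD' hfS hfS' hfκ hfκ' hc
    by_contra hcon
    have hdD : f * f' ∈ D := h.mul f hfD f' hfD' hc hcon
    have hdS : f * f' ∈ setStab W := mul_mem hfS hfS'
    obtain ⟨γ, hγ, hdγ⟩ : ∃ γ ∈ W, (f * f') • γ ≠ γ := by
      by_contra hall
      push Not at hall
      exact hPR₀ (D_fix_unique hdD (hall P₀ hP₀) (hall R₀ hR₀))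
    obtain ⟨hdS', hdκ⟩ := hsw γ hγ _ ((hdS γ).2 hγ) (Ne.symm hdγ) _ ⟨hdD, rfl⟩
    rw [show (⟨f * f', hdS'⟩ : setStab W) = ⟨f, hfS⟩ * ⟨f', hfS'⟩ from rfl, map_mul] at hdκ
    refine hκo (Eq.trans ?_ hdκ)
    calc κ = (π ⟨f, hfS⟩ * κ * (π ⟨f, hfS⟩)⁻¹)⁻¹ := by rw [hfκ, inv_inv]
      _ = π ⟨f, hfS⟩ * (π ⟨f', hfS'⟩ * κ * (π ⟨f', hfS'⟩)⁻¹) * (π ⟨f, hfS⟩)⁻¹ := by
          rw [hfκ']; group
      _ = _ := by group
  have hiso : ∀ P ∈ W, ∀ R ∈ W, P ≠ R → ∀ f ∈ swp P R, ∀ g ∈ N,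
      Commute f (g * f * g⁻¹) → g * f * g⁻¹ = f := by
    intro P hP R hR hne f hf g hg hc
    obtain ⟨hfS, hfκ⟩ := hsw P hP R hR hne f hf
    obtain ⟨hgS, hgT⟩ := hmemN hg
    refine (hpair f _ hf.1 (h.conj g f hf.1) hfS (mul_mem (mul_mem hgS hfS) (inv_mem hgS)) hfκ ?_
      hc).symm
    rw [show (⟨g * f * g⁻¹, mul_mem (mul_mem hgS hfS) (inv_mem hgS)⟩ : setStab W) =
      ⟨g, hgS⟩ * ⟨f, hfS⟩ * ⟨g, hgS⟩⁻¹ from rfl, map_mul, map_mul, map_inv]
    set x := π ⟨f, hfS⟩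
    set y := π ⟨g, hgS⟩
    rcases hgT with hgT | hgT
    · have h1 : y⁻¹ * κ * y = κ := by
        (conv_lhs => rw [← hgT])
        group
      calc y * x * y⁻¹ * κ * (y * x * y⁻¹)⁻¹ = y * (x * (y⁻¹ * κ * y) * x⁻¹) * y⁻¹ := by group
        _ = (y * κ * y⁻¹)⁻¹ := by rw [h1, hfκ]; group
        _ = κ⁻¹ := by rw [hgT]
    · have h1 : y⁻¹ * κ * y = κ⁻¹ := by
        calc y⁻¹ * κ * y = y⁻¹ * (y * κ * y⁻¹)⁻¹ * y := by rw [hgT, inv_inv]
          _ = κ⁻¹ := by group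
      calc y * x * y⁻¹ * κ * (y * x * y⁻¹)⁻¹ = y * (x * (y⁻¹ * κ * y) * x⁻¹) * y⁻¹ := by group
        _ = y * (x * κ * x⁻¹)⁻¹ * y⁻¹ := by rw [h1]; group
        _ = κ⁻¹ := by rw [hfκ, inv_inv, hgT]
  set O := oddOf N with hO
  have hOS : ∀ x ∈ O, x ∈ setStab W := fun x hx => (hmemN (oddOf_le N hx)).1
  have hOfix : ∀ x ∈ O, ∀ P ∈ W, x • P = P := by
    intro x hx P hP
    by_contra hne
    have hR : x • P ∈ W := (hOS x hx P).2 hP
    obtain ⟨a, ha, ha1⟩ := exists_ne_one P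
    obtain ⟨b, hb, hb1⟩ := exists_ne_one (x • P)
    obtain ⟨f, hf, -, -⟩ := swp_surj (Ne.symm hne) ha ha1 hb hb1
    have hfN := hswN P hP _ hR (Ne.symm hne) f hf
    have hff : f * f = 1 := h.sq f hf.1
    set Θ : Set h.Pt := MulAction.orbit O P with hΘ
    have hodd : Odd Θ.ncard := by
      rw [hΘ, ← MulAction.index_stabilizer]
      exact (odd_card_oddOf N).of_dvd_nat (Subgroup.index_dvd_card _)
    have hmaps : ∀ α ∈ Θ, f • α ∈ Θ := by
      rintro α ⟨⟨y, hy⟩, rfl⟩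
      have h1 := mul_mem (conj_mem_oddOf hfN hy) hx
      refine ⟨⟨_, h1⟩, ?_⟩
      show (f * y * f⁻¹ * x) • P = f • y • P
      rw [mul_smul, ← hf.2, ← mul_smul, ← mul_smul, inv_mul_cancel_right]
    obtain ⟨α, hα, hfα⟩ := exists_fixed_of_odd hodd hmaps
      fun α _ => by rw [← mul_smul, hff, one_smul]
    have hαW : α ∈ W := by
      obtain ⟨⟨y, hy⟩, rfl⟩ := hα
      exact (hOS y hy P).2 hP
    have hfαm : f ∈ α := (D_fix_iff hf.1).1 hfα
    obtain ⟨e, he, he1⟩ := exists_ne_one α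
    refine hfpf α hαW e he he1 ?_
    have hb' := Subgroup.mem_centralizer_iff.1
      (mem_ptsCent.1 (hswp P hP _ hR (Ne.symm hne) f hf).2 α hαW) e he
    have he' : k * e * k⁻¹ ∈ α := conj_mem_of_fix (hkfix α hαW) he
    have he'' : k * (k * e * k⁻¹) * k⁻¹ ∈ α := conj_mem_of_fix (hkfix α hαW) he'
    have hk2 : Commute (k * k) e := by
      have h4 : f * k * f * k * e * (f * k * f * k)⁻¹ = e := by
        rw [← hb', mul_inv_cancel_right]
      have h5 : f * k * f * k * e * (f * k * f * k)⁻¹ =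
          f * (k * (f * (k * e * k⁻¹) * f⁻¹) * k⁻¹) * f⁻¹ := by group
      rw [h5, (commute_mem hfαm he').eq, mul_inv_cancel_right,
        (commute_mem hfαm he'').eq, mul_inv_cancel_right] at h4
      have h6 : k * k * e * (k * k)⁻¹ = e := by
        calc k * k * e * (k * k)⁻¹ = k * (k * e * k⁻¹) * k⁻¹ := by group
          _ = e := h4
      exact mul_inv_eq_iff_eq_mul.1 h6
    have h7 := hk2.pow_left ((orderOf (k * k) + 1) / 2)
    rwa [← sqrtOdd, sqrtOdd_sq hko] at h7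
  by_contra hne2
  obtain ⟨P, R, S, hP, hR, hS, hPR, hPS, hRS⟩ :=
    (Set.two_lt_ncard_iff (Set.toFinite W)).1 (show 2 < W.ncard by omega)
  obtain ⟨a, ha, ha1⟩ := exists_ne_one P
  obtain ⟨b, hb, hb1⟩ := exists_ne_one R
  obtain ⟨c, hc, hc1⟩ := exists_ne_one S
  obtain ⟨f, hf, -, -⟩ := swp_surj hPR ha ha1 hb hb1
  obtain ⟨f', hf', -, -⟩ := swp_surj hPS ha ha1 hc hc1
  have hfN := hswN P hP R hR hPR f hf
  have hf'N := hswN P hP S hS hPS f' hf'
  have hodd : Odd (orderOf (f * f')) := by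
    by_cases hcm : Commute f f'
    · obtain ⟨hfS, hfκ⟩ := hsw P hP R hR hPR f hf
      obtain ⟨hfS', hfκ'⟩ := hsw P hP S hS hPS f' hf'
      rw [← hpair f f' hf.1 hf'.1 hfS hfS' hfκ hfκ' hcm, h.sq f hf.1]; simp
    · exact h.odd f hf.1 f' hf'.1 hcm
  have hmem : f * f' ∈ O :=
    mul_mem_oddOf hfN (h.sq f hf.1) (h.ne f hf.1) (hiso P hP R hR hPR f hf) hf'N (h.sq f' hf'.1) hodd
  have h1 := hOfix _ hmem P hP
  rw [mul_smul, hf'.2] at h1
  have h2 : f • (f • S) = f • P := congrArg (f • ·) h1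
  rw [← mul_smul, h.sq f hf.1, one_smul, hf.2] at h2
  exact hRS h2.symm

/-- An element of `r`-power order, fixed point free on each of the points in `fixW C k`, has `2`
modulo `r` of them, if the lines among them have `LineFacts`. -/
theorem fixW_modEq {m : ℕ} (hm : ∀ P : h.Pt, Nat.card P.1 = 2 ^ m) {r : ℕ} (hr : r.Prime)
    (hr2 : r ≠ 2) (hrm : ¬ r ∣ m) :
    ∀ (C : Set G) (k : G), (∀ c ∈ C, Commute c k) → (∃ i, k ^ r ^ i = 1) →
      (∀ γ ∈ fixW (h := h) C k, Fpf γ k) →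
      (∀ γ ∈ fixW (h := h) C k, ∀ δ ∈ fixW (h := h) C k, γ ≠ δ → LineFacts γ δ) →
      2 ≤ (fixW (h := h) C k).ncard → (fixW (h := h) C k).ncard ≡ 2 [MOD r] := by
  intro C k
  induction hn : (fixW (h := h) C k).ncard using Nat.strong_induction_on generalizing C k with
  | _ n ih =>
  intro hCk hk hfpf hL h2
  have hodd : ∀ x : G, (∃ i, x ^ r ^ i = 1) → Odd (orderOf x) := fun x ⟨i, hi⟩ =>
    ((hr.odd_of_ne_two hr2).pow).of_dvd_nat (orderOf_dvd_of_pow_eq_one hi)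
  subst hn
  set W : Set h.Pt := fixW C k with hW
  by_cases hall : ∀ P ∈ W, ∀ R ∈ W, P ≠ R → ∀ f ∈ swp P R, f * k * f * k ∈ ptsCent W
  · rw [ncard_eq_two (fun γ hγ => hγ.1) (hodd k hk) hfpf (fun P hP R hR hne f hf =>
      ⟨fun γ hγ => ?_, hall P hP R hR hne f hf⟩) h2]
    have hff : f * f = 1 := h.sq f hf.1
    refine ⟨?_, fun c hc => ?_⟩
    · have hb : (f * k * f * k) • γ = γ :=
        fix_of_centralizer (mem_ptsCent.1 (hall P hP R hR hne f hf) γ hγ)
      rw [mul_smul, hγ.1] at hb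
      calc k • f • γ = f • (f * k * f) • γ := by
            rw [← mul_smul, ← mul_smul, ← mul_assoc, ← mul_assoc, hff, one_mul]
        _ = f • γ := by rw [hb]
    · exact commute_conj_smul
        (commute_of_centralizer (hP.2 c hc) (hR.2 c hc) (swp_le_sup hne hf)).symm (hγ.2 c hc)
  push Not at hall
  obtain ⟨P, hP, R, hR, hne, f, hf, hb⟩ := hall
  have hff : f * f = 1 := h.sq f hf.1
  set b := f * k * f * k with hbdef
  obtain ⟨k₁, hk₁, -, hkk₁, hdP, hdR⟩ :=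
    (hL P hP R hR hne).exists_line_part hne (hm P) hr hrm hP.1 hR.1 hk
  obtain ⟨hk₁l, hk₁P, hk₁R⟩ := mem_lineStab.1 hk₁
  set d := k * k₁⁻¹ with hd
  have hfl : f ∈ line P R := swp_le_sup hne hf
  have hdf : Commute d f := commute_of_centralizer hdP hdR hfl
  have hdk₁ : Commute d k₁ := commute_of_centralizer hdP hdR hk₁l
  have hkd : k = d * k₁ := by rw [hd, inv_mul_cancel_right]
  have hbP : b ∈ Subgroup.centralizer (P.1 : Set G) := by
    have e : b = f * k₁ * f * k₁ * (d * d) := by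
      rw [hbdef, hkd]
      calc f * (d * k₁) * f * (d * k₁) = f * (d * k₁) * (f * d) * k₁ := by group
        _ = f * (d * k₁) * (d * f) * k₁ := by rw [hdf.eq]
        _ = f * (d * (k₁ * d)) * f * k₁ := by group
        _ = f * (d * d) * k₁ * f * k₁ := by rw [← hdk₁.eq]; group
        _ = (d * d) * (f * k₁ * f * k₁) := by rw [← (hdf.mul_left hdf).eq]; group
        _ = f * k₁ * f * k₁ * (d * d) :=
          ((((hdf.mul_right hdk₁).mul_right hdf).mul_right hdk₁).mul_left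
            (((hdf.mul_right hdk₁).mul_right hdf).mul_right hdk₁)).eq
    rw [e]
    exact mul_mem ((hL P hP R hR hne).inverts k₁ hk₁l hk₁P hk₁R f hf) (mul_mem hdP hdP)
  have hbR : b ∈ Subgroup.centralizer (R.1 : Set G) :=
    (hL P hP R hR hne).cent b (fix_of_centralizer hbP)
      (by rw [hbdef, mul_smul, hR.1, mul_smul, mul_smul, (swp_symm hf).2, hP.1, hf.2]) hbP
  have hbf : Commute b f := commute_of_centralizer hbP hbR hfl
  have hkfkf : Commute (f * k * f) k := by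
    have h1 := hbf.eq
    rw [hbdef] at h1
    calc f * k * f * k = f * (f * k * f * k * f) := by
          rw [h1, ← mul_assoc f f, hff, one_mul]
      _ = k * (f * k * f) := by
          simp only [← mul_assoc]; rw [hff, one_mul]
  have hbk : Commute b k := hkfkf.mul_left (Commute.refl k)
  obtain ⟨i, hi⟩ := hk
  have hbr : b ^ r ^ i = 1 := by
    have e : (f * k * f) ^ r ^ i = 1 := by
      have h1 := conj_pow (a := f) (b := k) (i := r ^ i)
      rw [h.inv_eq hf.1] at h1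
      rw [h1, hi, mul_one, hff]
    rw [hbdef, hkfkf.mul_pow, hi, e, one_mul]
  set c := sqrtOdd b with hc
  have hbo : Odd (orderOf b) := hodd b ⟨i, hbr⟩
  have hcc : c * c = b := sqrtOdd_mul_self hbo
  have hck : Commute c k := hbk.pow_left _
  have hcr : c ^ r ^ i = 1 := by
    rw [hc, sqrtOdd, ← pow_mul, mul_comm, pow_mul, hbr, one_pow]
  have hcP : c ∈ Subgroup.centralizer (P.1 : Set G) := pow_mem hbP _
  have hcR : c ∈ Subgroup.centralizer (R.1 : Set G) := pow_mem hbR _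
  have hCc : ∀ e ∈ C, Commute e c := fun e he => by
    have hef : Commute e f := commute_of_centralizer (hP.2 e he) (hR.2 e he) hfl
    exact (((hef.mul_right (hCk e he)).mul_right hef).mul_right (hCk e he)).pow_right _
  have hcW : ∀ γ ∈ W, c • γ ∈ W := fun γ hγ => ⟨by rw [← mul_smul, ← hck.eq, mul_smul, hγ.1],
    fun e he => commute_conj_smul (hCc e he).symm (hγ.2 e he)⟩
  have hcent : ∀ γ ∈ W, c • γ = γ → c ∈ Subgroup.centralizer (γ.1 : Set G) := fun γ hγ hcγ => by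
    by_cases e : P = γ
    · exact e ▸ hcP
    · exact (hL P hP γ hγ e).cent c (fix_of_centralizer hcP) hcγ hcP
  set W' : Set h.Pt := fixW (insert c C) (k * c⁻¹) with hW'
  have hsub : W' = {γ | γ ∈ W ∧ c • γ = γ} := by
    ext γ
    constructor
    · rintro ⟨hγ, hγC⟩
      have hcγ := fix_of_centralizer (hγC c (Set.mem_insert _ _))
      refine ⟨⟨?_, fun e he => hγC e (Set.mem_insert_of_mem _ he)⟩, hcγ⟩
      rwa [mul_smul, inv_smul_eq_iff.2 hcγ.symm] at hγ
    · rintro ⟨hγ, hcγ⟩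
      refine ⟨by rw [mul_smul, inv_smul_eq_iff.2 hcγ.symm, hγ.1], ?_⟩
      rintro e (rfl | he)
      · exact hcent γ hγ hcγ
      · exact hγ.2 e he
  have hlt : W'.ncard < W.ncard := by
    refine Set.ncard_lt_ncard ((Set.ssubset_iff_of_subset (hsub ▸ fun γ hγ => hγ.1)).2 ?_)
      (Set.toFinite W)
    by_contra hall'
    push Not at hall'
    refine hb (mem_ptsCent.2 fun γ hγ => ?_)
    have h1 := hcent γ hγ (hsub ▸ hall' γ hγ).2
    rw [← hcc]
    exact mul_mem h1 h1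
  have h2' : 2 ≤ W'.ncard := by
    have hP' : P ∈ W' := hsub ▸ ⟨hP, fix_of_centralizer hcP⟩
    have hR' : R ∈ W' := hsub ▸ ⟨hR, fix_of_centralizer hcR⟩
    exact (Set.one_lt_ncard (Set.toFinite _)).2 ⟨P, hP', R, hR', hne⟩
  have hk' : ∃ j, (k * c⁻¹) ^ r ^ j = 1 :=
    ⟨i, by rw [hck.symm.inv_right.mul_pow, hi, inv_pow, hcr, inv_one, one_mul]⟩
  have hrec : W'.ncard ≡ 2 [MOD r] := by
    refine ih W'.ncard hlt (insert c C) (k * c⁻¹) rfl ?_ hk' ?_ ?_ h2'
    · rintro e (rfl | he)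
      · exact hck.mul_right (Commute.refl _).inv_right
      · exact (hCk e he).mul_right (hCc e he).inv_right
    · intro γ hγ e he he1 hce
      have hγW : γ ∈ W := (hsub ▸ hγ : γ ∈ {γ | γ ∈ W ∧ c • γ = γ}).1
      have h1 : Commute c e :=
        (Subgroup.mem_centralizer_iff.1 (hγ.2 c (Set.mem_insert _ _)) e he).symm
      have h2 := hce.mul_left h1
      rw [inv_mul_cancel_right] at h2
      exact hfpf γ hγW e he he1 h2
    · intro γ hγ δ hδ hne'
      exact hL γ (hsub ▸ hγ : γ ∈ {γ | γ ∈ W ∧ c • γ = γ}).1 δ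
        (hsub ▸ hδ : δ ∈ {γ | γ ∈ W ∧ c • γ = γ}).1 hne'
  have hmod := ncard_modEq_fixed hr ⟨i, hcr⟩ hcW
  rw [← hsub] at hmod
  exact hmod.trans hrec

end Conf

end Cfsg.Agent.Lib.OddTransp84.Core
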