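import Cfsg.Agent.Lib.OddTransp84.Core.CaseOne
import Cfsg.Agent.Lib.BenderOne.Assemble
import Cfsg.Agent.Lib.BenderSuzuki.Main

/-!
# Configurations in which every involution fixes one point: the Bender groups

Part I of Bender's theorem enters as the hypothesis `BenderOne.PropSplit`.
-/

set_option autoImplicit false

namespace Cfsg.Agent.Lib.OddTransp84.Core.Conf

open MulAction

universe u

variable {G : Type u} [Group G] {D : Set G}

/-- No involution centralises two points. -/
def NoEven (h : Conf D) : Prop :=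
  ∀ P R : h.Pt, P ≠ R → ∀ u : G, u * u = 1 → u ≠ 1 →
    u ∈ Subgroup.centralizer (P.1 : Set G) → u ∈ Subgroup.centralizer (R.1 : Set G) → False

/-- No involution fixes two points. -/
def OnePoint (h : Conf D) : Prop :=
  ∀ u : G, u * u = 1 → u ≠ 1 → ∀ P R : h.Pt, u • P = P → u • R = R → P = R

/-- A configuration generating a group with trivial centre. -/
structure Full (h : Conf D) : Prop where
  gen : Subgroup.closure D = ⊤
  center : Subgroup.center G = ⊥
  two : ∀ P : h.Pt, ∃ R : h.Pt, P ≠ R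

variable {h : Conf D}

lemma Full.eq_one_of_centralizes (hF : Full h) {g : G} (hg : ∀ d ∈ D, Commute g d) : g = 1 := by
  have h1 : Subgroup.closure D ≤ Subgroup.centralizer {g} := (Subgroup.closure_le _).2 fun d hd =>
    Subgroup.mem_centralizer_singleton_iff.2 (hg d hd).eq.symm
  have h2 : g ∈ Subgroup.center G := Subgroup.mem_center_iff.2 fun x =>
    Subgroup.mem_centralizer_singleton_iff.1 (h1 (hF.gen ▸ Subgroup.mem_top x))
  rwa [hF.center, Subgroup.mem_bot] at h2

variable [Finite G]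

/-- An element fixing every point commutes with every member. -/
lemma commute_of_fix_all (htwo : ∀ P : h.Pt, ∃ R : h.Pt, P ≠ R) {g : G}
    (hg : ∀ P : h.Pt, g • P = P) {f : G} (hf : f ∈ D) : Commute g f := by
  obtain ⟨R, hR⟩ := htwo (h.pt hf)
  have hfm : f ∈ h.pt hf := mem_pt hf
  have hne : R ≠ f • R := fun e => hR (D_fix_unique hf (fix_of_mem hfm) e.symm)
  have h1 : g * f * g⁻¹ ∈ swp R (f • R) := by
    have h2 := swp_conj (g := g) (show f ∈ swp R (f • R) from ⟨hf, rfl⟩)
    rwa [hg, hg] at h2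
  have h3 : Commute f (g * f * g⁻¹) := commute_mem hfm (conj_mem_of_fix (hg _) hfm)
  exact mul_inv_eq_iff_eq_mul.1 (swp_eq_of_commute hne ⟨hf, rfl⟩ h1 h3).symm

/-- A member commuting pattern: a second member of the same point. -/
lemma exists_two_invol (P : h.Pt) : BenderOne20.HasFour (MulAction.stabilizer G P) := by
  obtain ⟨a, ha, ha1⟩ := exists_ne_one P
  obtain ⟨b, hb, hb1, hba⟩ := exists_other P (a := a)
  exact ⟨a, fix_of_mem ha, b, fix_of_mem hb,
    orderOf_eq_prime (by rw [pow_two, sq_mem ha]) ha1,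
    orderOf_eq_prime (by rw [pow_two, sq_mem hb]) hb1, hba.symm, commute_mem ha hb⟩

/-- The Bender groups. -/
theorem types (hI : BenderOne.PropSplit.{u}) (hF : Full h) (h1 : OnePoint h) {P R : h.Pt}
    (hne : P ≠ R) {f : G} (hf : f ∈ swp P R) :
    ∃ Q : Subgroup G,
      BenderSuzuki.Hyp G (G ⧸ stabilizer G P) ((1 : G) : G ⧸ stabilizer G P) f Q ∧
      IsPGroup 2 Q ∧
      BenderSuzuki.invs G ((1 : G) : G ⧸ stabilizer G P) = sharp P ∧
      BenderSuzuki.qNum G ((1 : G) : G ⧸ stabilizer G P) = Nat.card P.1 ∧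
      Nat.card h.Pt = Nat.card Q + 1 ∧
      (BenderSuzuki.IsLinearCase ((1 : G) : G ⧸ stabilizer G P) f Q ⊤ ∨
        BenderSuzuki.IsSuzukiCase ((1 : G) : G ⧸ stabilizer G P) f Q ⊤ ∨
        BenderSuzuki.IsUnitaryCase ((1 : G) : G ⧸ stabilizer G P) f Q ⊤) := by
  classical
  set H := stabilizer G P with hH
  have hnH : ∀ g : G, g ∉ H ↔ g • P ≠ P := fun g => Iff.rfl
  have hfH : f ∉ H := fun e => hne ((show f • P = P from e).symm.trans hf.2)
  have hff : f * f = 1 := h.sq f hf.1
  have hSE : Cfsg.IsStronglyEmbedded H := by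
    refine ⟨fun e => hfH (e ▸ Subgroup.mem_top f), ?_, fun g hg => ?_⟩
    · obtain ⟨a, ha, ha1⟩ := exists_ne_one P
      rw [even_iff_two_dvd]
      have h2 : orderOf a = 2 := orderOf_eq_prime (by rw [pow_two, sq_mem ha]) ha1
      exact h2 ▸ Subgroup.orderOf_dvd_natCard H (fix_of_mem ha)
    · rw [Involutions.Basic.odd_card_iff_no_invol]
      intro t ht ht2
      obtain ⟨htP, htg⟩ := Subgroup.mem_inf.1 ht
      rw [Involutions.StronglyEmbedded.mem_conj_iff] at htg
      have htg' : t • (g • P) = g • P := by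
        have e : (g⁻¹ * t * g) • P = P := htg
        rwa [mul_smul, mul_smul, inv_smul_eq_iff] at e
      exact hg (h1 t (Involutions.Basic.invol_mul_self ht2) (Involutions.Basic.invol_ne_one ht2) P
        (g • P) htP htg').symm
  have hcore : H.normalCore = ⊥ := by
    rw [Subgroup.eq_bot_iff_forall]
    intro g hg
    refine hF.eq_one_of_centralizes fun d hd => commute_of_fix_all hF.two (fun Y => ?_) hd
    obtain ⟨x, rfl⟩ := exists_smul P Y
    have e : (x⁻¹ * g * x⁻¹⁻¹) • P = P := hg x⁻¹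
    rwa [inv_inv, mul_smul, mul_smul, inv_smul_eq_iff] at e
  have hfour := exists_two_invol P
  obtain ⟨Q, hQ2, hQR⟩ := hI G H hSE hfour hcore
  have hfo : orderOf f = 2 := orderOf_eq_prime (by rw [pow_two, hff]) (h.ne f hf.1)
  have hHyp := BenderOne.hyp hSE hfour hcore hQR hfo hfH
  obtain ⟨-, L, hLn, hLodd, -, -, hcases⟩ :=
    BenderSuzuki.propMain.{u, u} G (G ⧸ H) _ f Q hHyp
  have hLtop : L = ⊤ := by
    rw [eq_top_iff, ← hF.gen, Subgroup.closure_le]
    intro d hd
    have := hLn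
    obtain ⟨i, hi⟩ := hLodd
    have h2 : (QuotientGroup.mk d : G ⧸ L) ^ L.index = 1 := pow_card_eq_one'
    rw [hi, pow_succ, pow_mul, pow_two, ← QuotientGroup.mk_mul, h.sq d hd, QuotientGroup.mk_one,
      one_pow, one_mul] at h2
    exact (QuotientGroup.eq_one_iff d).1 h2
  subst hLtop
  have hmem : ∀ x : G, x • ((1 : G) : G ⧸ H) = ((1 : G) : G ⧸ H) ↔ x • P = P := fun x => by
    rw [Quotient.smul_mk, smul_eq_mul, mul_one, QuotientGroup.eq, mul_one, inv_mem_iff]
    rfl
  have hinvs : BenderSuzuki.invs G ((1 : G) : G ⧸ H) = sharp P := by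
    ext x
    constructor
    · rintro ⟨hx, hx1, hx2⟩
      obtain ⟨a, ha, ha1⟩ := exists_ne_one P
      obtain ⟨c, hc⟩ := RankOne.Basic.all_conj hHyp.setup ha1 (sq_mem ha) hx1 hx2
      have hxD : x ∈ D := hc ▸ h.conj c a (mem_D ha ha1)
      exact ⟨(D_fix_iff hxD).1 ((hmem x).1 hx), hx1⟩
    · rintro ⟨hx, hx1⟩
      exact ⟨(hmem x).2 (fix_of_mem hx), hx1, sq_mem hx⟩
  refine ⟨Q, hHyp, hQ2, hinvs, ?_, ?_, hcases⟩
  · rw [BenderSuzuki.qNum, Nat.card_coe_set_eq, hinvs, sharp_ncard]
    have := four_le P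
    omega
  · rw [← RankOne.Basic.card_omega hHyp.setup]
    have htr : MulAction.IsPretransitive G h.Pt := ⟨exists_smul⟩
    exact Nat.card_congr ((Equiv.Set.univ h.Pt).symm.trans ((Equiv.setCongr
      (MulAction.orbit_eq_univ G P).symm).trans (orbitEquivQuotientStabilizer G P)))

end Cfsg.Agent.Lib.OddTransp84.Core.Conf
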